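import Cfsg.Prelude.Def_SporadicB
import Mathlib.GroupTheory.SpecificGroups.Alternating
import Mathlib.GroupTheory.Complement
import Mathlib.Tactic

/-!
An involution whose centralizer is a non-split double cover of an alternating group and which is
fused to another element of its centralizer: coordinates and first facts.
-/

set_option autoImplicit false
set_option linter.unusedSectionVars false

namespace CfsgLib.Recog.DoubleAlt

open Equiv Subgroup

variable {G : Type*} [Group G]

/-- An involution `z` with `C(z) = 2.A_n`, non-split, fused to another element of `C(z)`. -/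
structure Setup (G : Type*) [Group G] (n : ℕ) where
  /-- the involution -/
  z : G
  ne : z ≠ 1
  /-- the projection to the alternating group -/
  π : centralizer ({z} : Set G) →* Perm (Fin n)
  range : π.range = alternatingGroup (Fin n)
  ker : ∀ x, π x = 1 ↔ (x : G) = 1 ∨ (x : G) = z
  nonsplit : ∀ L : Subgroup (centralizer ({z} : Set G)),
    ¬ IsComplement' ((zpowers z).subgroupOf (centralizer ({z} : Set G))) L
  fused : ∃ g : G, g * z * g⁻¹ * z = z * (g * z * g⁻¹) ∧ g * z * g⁻¹ ≠ z

namespace Setup

variable {n : ℕ} (S : Setup G n)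

/-- `z` as an element of its centralizer. -/
def zc : centralizer ({S.z} : Set G) := ⟨S.z, mem_centralizer_singleton_iff.2 rfl⟩

theorem π_zc : S.π S.zc = 1 := (S.ker _).2 (Or.inr rfl)

theorem zc_ne : S.zc ≠ 1 := fun h => S.ne (congrArg Subtype.val h)

theorem zc_comm (x : centralizer ({S.z} : Set G)) : x * S.zc = S.zc * x :=
  Subtype.ext (mem_centralizer_singleton_iff.1 x.2)

theorem ker' (x : centralizer ({S.z} : Set G)) : S.π x = 1 ↔ x = 1 ∨ x = S.zc :=
  (S.ker x).trans ⟨fun h => h.imp (fun e => Subtype.ext e) (fun e => Subtype.ext e),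
    fun h => h.imp (fun e => congrArg Subtype.val e) (fun e => congrArg Subtype.val e)⟩

theorem zc_sq : S.zc * S.zc = 1 := by
  rcases (S.ker' (S.zc * S.zc)).1 (by rw [map_mul, S.π_zc, one_mul]) with h | h
  · exact h
  · exact absurd (mul_eq_left.1 h) S.zc_ne

theorem z_sq : S.z * S.z = 1 := congrArg Subtype.val S.zc_sq

theorem z_order : orderOf S.z = 2 := by
  haveI : Fact (Nat.Prime 2) := ⟨Nat.prime_two⟩
  exact orderOf_eq_prime (by rw [pow_two, S.z_sq]) S.ne

/-- Two elements with the same image differ by at most the central involution. -/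
theorem eq_or {x y : centralizer ({S.z} : Set G)} (h : S.π x = S.π y) :
    x = y ∨ x = y * S.zc := by
  rcases (S.ker' (y⁻¹ * x)).1 (by rw [map_mul, map_inv, h, inv_mul_cancel]) with e | e
  · exact Or.inl (inv_mul_eq_one.1 e).symm
  · exact Or.inr (by rw [← e, mul_inv_cancel_left])

theorem sign_π (x : centralizer ({S.z} : Set G)) : Perm.sign (S.π x) = 1 :=
  Perm.mem_alternatingGroup.1 (S.range ▸ ⟨x, rfl⟩)

/-- Every even permutation has a lift. -/
theorem exists_lift {p : Perm (Fin n)} (hp : Perm.sign p = 1) : ∃ x, S.π x = p := by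
  have h : p ∈ S.π.range := S.range ▸ Perm.mem_alternatingGroup.2 hp
  exact h

/-- An element commuting with another in the image commutes up to the central involution. -/
theorem comm_or {x y : centralizer ({S.z} : Set G)} (h : S.π x * S.π y = S.π y * S.π x) :
    x * y = y * x ∨ x * y = y * x * S.zc :=
  S.eq_or (by rw [map_mul, map_mul, h])

/-- An even permutation of odd order has exactly one lift of that order. -/
theorem exists_odd_lift {p : Perm (Fin n)} (hp : Perm.sign p = 1) {m : ℕ} (hm : Odd m)
    (hpm : p ^ m = 1) : ∃! x, S.π x = p ∧ x ^ m = 1 := by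
  obtain ⟨j, rfl⟩ := hm
  have hz : ∀ k, S.zc ^ (2 * k + 1) = S.zc := fun k => by
    rw [pow_succ, pow_mul, pow_two, S.zc_sq, one_pow, one_mul]
  have huniq : ∀ x y, S.π x = p → x ^ (2 * j + 1) = 1 → S.π y = p → y ^ (2 * j + 1) = 1 → x = y := by
    intro x y hx hx' hy hy'
    refine (S.eq_or (hx.trans hy.symm)).resolve_right fun e => S.zc_ne ?_
    have hc : Commute y S.zc := S.zc_comm y
    rw [e, hc.mul_pow, hy', hz, one_mul] at hx'
    exact hx'
  obtain ⟨y, hy⟩ := S.exists_lift hp
  have hy2 : y ^ (2 * j + 1) = 1 ∨ y ^ (2 * j + 1) = S.zc := (S.ker' _).1 (by rw [map_pow, hy, hpm])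
  rcases hy2 with h | h
  · exact ⟨y, ⟨hy, h⟩, fun x hx => huniq x y hx.1 hx.2 hy h⟩
  · have hc : Commute y S.zc := S.zc_comm y
    have hyz : S.π (y * S.zc) = p := by rw [map_mul, hy, S.π_zc, mul_one]
    have hyz' : (y * S.zc) ^ (2 * j + 1) = 1 := by rw [hc.mul_pow, h, hz, S.zc_sq]
    exact ⟨y * S.zc, ⟨hyz, hyz'⟩, fun x hx => huniq x _ hx.1 hx.2 hyz hyz'⟩

end Setup

/-- The hypotheses of the statement, with `z` fused inside its centralizer, give a set-up. -/
theorem exists_setup [Finite G] (n : ℕ) (z : G) (hz : orderOf z = 2)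
    (hcov : Cfsg.IsNonsplitDoubleCover (centralizer ({z} : Set G)) (alternatingGroup (Fin n)))
    (hfus : ∃ g : G, g * z * g⁻¹ * z = z * (g * z * g⁻¹) ∧ g * z * g⁻¹ ≠ z) :
    ∃ S : Setup G n, S.z = z := by
  obtain ⟨hc, ⟨q⟩, hs⟩ := hcov
  have hzc : (⟨z, mem_centralizer_singleton_iff.2 rfl⟩ : centralizer ({z} : Set G)) ∈
      center (centralizer ({z} : Set G)) :=
    mem_center_iff.2 fun x => Subtype.ext (mem_centralizer_singleton_iff.1 x.2)
  have hne : z ≠ 1 := fun h => by rw [h, orderOf_one] at hz; omega
  have hcen : center (centralizer ({z} : Set G)) = (zpowers z).subgroupOf (centralizer ({z} : Set G)) := by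
    refine (eq_of_le_of_card_ge ?_ ?_).symm
    · intro x hx
      obtain ⟨k, hk⟩ := mem_zpowers_iff.1 (mem_subgroupOf.1 hx)
      have e : x = (⟨z, mem_centralizer_singleton_iff.2 rfl⟩ : centralizer ({z} : Set G)) ^ k :=
        Subtype.ext (by rw [SubgroupClass.coe_zpow]; exact hk.symm)
      exact e ▸ zpow_mem hzc k
    · rw [hc, Nat.card_congr (subgroupOfEquivOfLe (zpowers_le.2 (mem_centralizer_singleton_iff.2 rfl))).toEquiv,
        Nat.card_zpowers, hz]
  refine ⟨{ z := z
            ne := hne
            π := (alternatingGroup (Fin n)).subtype.comp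
              (q.toMonoidHom.comp (QuotientGroup.mk' (center (centralizer ({z} : Set G)))))
            range := ?_
            ker := fun x => ?_
            nonsplit := fun L => hcen ▸ hs L
            fused := hfus }, rfl⟩
  · rw [MonoidHom.range_comp, MonoidHom.range_eq_top.2
      (q.surjective.comp (QuotientGroup.mk'_surjective _)), ← MonoidHom.range_eq_map, range_subtype]
  · change ((q (QuotientGroup.mk' _ x) : alternatingGroup (Fin n)) : Perm (Fin n)) = 1 ↔ _
    rw [OneMemClass.coe_eq_one, map_eq_one_iff q q.injective, QuotientGroup.mk'_apply,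
      QuotientGroup.eq_one_iff, hcen, mem_subgroupOf]
    have hz2 : z ^ 2 = 1 := by rw [← hz, pow_orderOf_eq_one]
    constructor
    · intro h
      obtain ⟨k, hk⟩ := mem_zpowers_iff.1 h
      rcases Int.even_or_odd' k with ⟨j, rfl | rfl⟩
      · left; rw [← hk, zpow_mul, zpow_two, ← pow_two, hz2, one_zpow]
      · right; rw [← hk, zpow_add, zpow_mul, zpow_two, ← pow_two, hz2, one_zpow, one_mul, zpow_one]
    · rintro (h | h) <;> rw [h]
      · exact one_mem _
      · exact mem_zpowers z

end CfsgLib.Recog.DoubleAlt
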