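import Cfsg.Agent.Lib.Recog.DoubleAlt.Lifts
import Cfsg.Agent.Lib.InvChar.AltLift.Classes

/-!
The involutions of the centralizer in degree at most fifteen, and the exchange with the central one.
-/

set_option autoImplicit false
set_option linter.unusedSectionVars false

namespace CfsgLib.Recog.DoubleAlt

open Equiv Subgroup CfsgLib.InvChar.AltLift

variable {G : Type*} [Group G] [Finite G] {n : ℕ} (S : Setup G n)

namespace Setup

/-- An involution over an even permutation is over a product of four transpositions. -/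
theorem invol_eight (hn : n ≤ 15) {x : centralizer ({S.z} : Set G)} (hx : x * x = 1) (h1 : x ≠ 1)
    (h2 : x ≠ S.zc) : (S.π x).support.card = 8 :=
  S.cov.invol_eight hn hx h1 h2

/-- The non-central involutions of the centralizer are conjugate in it. -/
theorem conj_invol (hn : n ≤ 15) {x y : centralizer ({S.z} : Set G)} (hx : x * x = 1) (hx1 : x ≠ 1)
    (hx2 : x ≠ S.zc) (hy : y * y = 1) (hy1 : y ≠ 1) (hy2 : y ≠ S.zc) : ∃ g, g * x * g⁻¹ = y :=
  isConj_iff.1 (S.cov.isConj_of_invol hn hx hx1 hx2 hy hy1 hy2)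

/-- Every other involution of the centralizer is exchanged with the central one. -/
theorem exists_exchange (hn : n ≤ 15) {u : centralizer ({S.z} : Set G)} (hu : u * u = 1) (hu1 : u ≠ 1)
    (hu2 : u ≠ S.zc) : ∃ g : G, g * S.z * g⁻¹ = u ∧ g * u * g⁻¹ = S.z := by
  obtain ⟨g₀, hg₀, hne⟩ := S.fused
  let v : centralizer ({S.z} : Set G) :=
    ⟨g₀ * S.z * g₀⁻¹, mem_centralizer_singleton_iff.2 hg₀⟩
  have hv : v * v = 1 := Subtype.ext (by
    show g₀ * S.z * g₀⁻¹ * (g₀ * S.z * g₀⁻¹) = 1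
    rw [show g₀ * S.z * g₀⁻¹ * (g₀ * S.z * g₀⁻¹) = g₀ * (S.z * S.z) * g₀⁻¹ by group, S.z_sq, mul_one,
      mul_inv_cancel])
  have hv1 : v ≠ 1 := fun e => S.ne (by
    have e' : g₀ * S.z * g₀⁻¹ = 1 := congrArg Subtype.val e
    rwa [mul_inv_eq_one, mul_eq_left] at e')
  obtain ⟨c, hc⟩ := S.conj_invol hn hv hv1 (fun e => hne (congrArg Subtype.val e)) hu hu1 hu2
  set h : G := c * g₀ with hh
  have hz : h * S.z * h⁻¹ = u := by
    rw [hh, show (c : G) * g₀ * S.z * ((c : G) * g₀)⁻¹ = c * (g₀ * S.z * g₀⁻¹) * (c : G)⁻¹ by group]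
    exact congrArg Subtype.val hc
  have huz : (u : G) * S.z = S.z * u := mem_centralizer_singleton_iff.1 u.2
  have key : h⁻¹ * S.z * h * S.z = S.z * (h⁻¹ * S.z * h) := by
    rw [← hz] at huz
    calc h⁻¹ * S.z * h * S.z = h⁻¹ * (S.z * (h * S.z * h⁻¹)) * h := by group
      _ = h⁻¹ * (h * S.z * h⁻¹ * S.z) * h := by rw [huz]
      _ = _ := by group
  let w : centralizer ({S.z} : Set G) := ⟨h⁻¹ * S.z * h, mem_centralizer_singleton_iff.2 key⟩
  have hw : w * w = 1 := Subtype.ext (by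
    show h⁻¹ * S.z * h * (h⁻¹ * S.z * h) = 1
    rw [show h⁻¹ * S.z * h * (h⁻¹ * S.z * h) = h⁻¹ * (S.z * S.z) * h by group, S.z_sq, mul_one,
      inv_mul_cancel])
  have hw1 : w ≠ 1 := fun e => S.ne (by
    have e' : h⁻¹ * S.z * h = 1 := congrArg Subtype.val e
    calc S.z = h * (h⁻¹ * S.z * h) * h⁻¹ := by group
      _ = 1 := by rw [e', mul_one, mul_inv_cancel])
  have hw2 : w ≠ S.zc := fun e => hu2 (Subtype.ext (by
    have e' : h⁻¹ * S.z * h = S.z := congrArg Subtype.val e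
    show (u : G) = S.z
    rw [← hz]
    calc h * S.z * h⁻¹ = h * (h⁻¹ * S.z * h) * h⁻¹ := by rw [e']
      _ = S.z := by group))
  obtain ⟨d, hd⟩ := S.conj_invol hn hw hw1 hw2 hu hu1 hu2
  have hd' : (d : G) * (h⁻¹ * S.z * h) * (d : G)⁻¹ = u := congrArg Subtype.val hd
  have hdz : (d : G) * S.z = S.z * d := mem_centralizer_singleton_iff.1 d.2
  refine ⟨h * (d : G)⁻¹, ?_, ?_⟩
  · have e : (d : G)⁻¹ * S.z * d = S.z := by rw [mul_assoc, ← hdz, inv_mul_cancel_left]
    calc h * (d : G)⁻¹ * S.z * (h * (d : G)⁻¹)⁻¹ = h * ((d : G)⁻¹ * S.z * d) * h⁻¹ := by group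
      _ = u := by rw [e, hz]
  · rw [← hd']; group

end Setup

end CfsgLib.Recog.DoubleAlt
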