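import Mathlib.GroupTheory.SpecificGroups.Alternating.Simple
import Mathlib.GroupTheory.Perm.ViaEmbedding
import Mathlib.GroupTheory.PGroup
import Mathlib.Tactic

/-!
Permutations commuting with an involution: the action on its two-cycles, and two facts on those of
order five and on two-groups normalised by the three-cycles.
-/

set_option autoImplicit false
set_option linter.style.haveILetI false

namespace CfsgLib.Recog.DoubleAlt.Large

open Equiv Subgroup

variable {n : ℕ}

theorem dvd_of_fix {q : Perm (Fin n)} (h5 : q ^ 5 = 1) {i : Fin n} (hi : q i ≠ i) {d : ℕ}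
    (hd : (q ^ d) i = i) : 5 ∣ d := by
  by_contra hn
  obtain ⟨k, hk⟩ : ∃ k, d * k % 5 = 1 := by
    have : d % 5 = 1 ∨ d % 5 = 2 ∨ d % 5 = 3 ∨ d % 5 = 4 := by omega
    rcases this with h | h | h | h
    exacts [⟨1, by omega⟩, ⟨3, by omega⟩, ⟨2, by omega⟩, ⟨4, by omega⟩]
  have h1 : ((q ^ d) ^ k) i = i := Perm.pow_apply_eq_self_of_apply_eq_self hd k
  rw [← pow_mul, pow_eq_pow_mod _ h5, hk, pow_one] at h1
  exact hi h1

/-- An element of order five commuting with a product of four transpositions fixes their points. -/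
theorem five_fix {P q : Perm (Fin n)} (hP : P * P = 1) (hc : q * P = P * q) (h5 : q ^ 5 = 1)
    (hs : P.support.card = 8) {i : Fin n} (hi : P i ≠ i) : q i = i := by
  by_contra hqi
  have hcp : ∀ a w, (q ^ a) (P w) = P ((q ^ a) w) := fun a w => by
    rw [← Perm.mul_apply, ((show Commute q P from hc).pow_left a).eq, Perm.mul_apply]
  have hPP : ∀ w, P (P w) = w := fun w => by rw [← Perm.mul_apply, hP, Perm.one_apply]
  have same : ∀ a b : Fin 5, (q ^ (a : ℕ)) i = (q ^ (b : ℕ)) i → a = b := by
    intro a b e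
    have e' : (q ^ ((a : ℕ) + (5 - b))) i = i := by
      rw [add_comm, pow_add, Perm.mul_apply, e, ← Perm.mul_apply, ← pow_add,
        show 5 - (b : ℕ) + b = 5 by omega, h5, Perm.one_apply]
    have := dvd_of_fix h5 hqi e'
    omega
  have cross : ∀ a b : Fin 5, P ((q ^ (a : ℕ)) i) ≠ (q ^ (b : ℕ)) i := by
    intro a b e
    rw [← hcp] at e
    have hPi : P i = (q ^ ((b : ℕ) + (5 - a))) i := by
      rw [add_comm, pow_add, Perm.mul_apply, ← e, ← Perm.mul_apply, ← pow_add,
        show 5 - (a : ℕ) + a = 5 by omega, h5, Perm.one_apply]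
    have h2 : (q ^ (((b : ℕ) + (5 - a)) + ((b : ℕ) + (5 - a)))) i = i := by
      rw [pow_add, Perm.mul_apply, ← hPi, hcp, ← hPi, hPP]
    have := dvd_of_fix h5 hqi h2
    refine hi ?_
    rw [hPi, pow_eq_pow_mod _ h5, show ((b : ℕ) + (5 - a)) % 5 = 0 by omega, pow_zero, Perm.one_apply]
  have hmov : ∀ a, P ((q ^ a) i) ≠ (q ^ a) i := fun a e => by
    rw [← hcp] at e; exact hi ((q ^ a).injective e)
  let f : Fin 5 × Bool → {w // w ∈ P.support} := fun t =>
    bif t.2 then ⟨P ((q ^ (t.1 : ℕ)) i), Perm.mem_support.2 fun e => hmov _ (P.injective e)⟩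
    else ⟨(q ^ (t.1 : ℕ)) i, Perm.mem_support.2 (hmov _)⟩
  have hf : Function.Injective f := by
    rintro ⟨a, _ | _⟩ ⟨b, _ | _⟩ e <;> have e' := congrArg Subtype.val e <;> simp [f] at e'
    · rw [same a b e']
    · exact absurd e'.symm (cross b a)
    · exact absurd e' (cross a b)
    · rw [same a b e']
  have hcd := Fintype.card_le_of_injective f hf
  rw [Fintype.card_prod, Fintype.card_fin, Fintype.card_bool, Fintype.card_coe, hs] at hcd
  omega

/-- A two-group normalised by all three-cycles is trivial in degree at least five. -/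
theorem two_group_trivial {α : Type*} [Fintype α] [DecidableEq α] (h5 : 5 ≤ Fintype.card α)
    (N : Subgroup (Perm α)) (hN : IsPGroup 2 N)
    (hconj : ∀ σ : Perm α, σ.IsThreeCycle → ∀ x ∈ N, σ * x * σ⁻¹ ∈ N) : N = ⊥ := by
  haveI hsim : IsSimpleGroup (alternatingGroup α) :=
    alternatingGroup.isSimpleGroup (by rwa [Nat.card_eq_fintype_card])
  have hA : alternatingGroup α ≤ normalizer (N : Set (Perm α)) := by
    rw [← Perm.closure_three_cycles_eq_alternating, Subgroup.closure_le]
    intro σ hσ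
    refine mem_normalizer_iff.2 fun x => ⟨hconj σ hσ x, fun hx => ?_⟩
    have := hconj σ⁻¹ hσ.inv _ hx
    rwa [show σ⁻¹ * (σ * x * σ⁻¹) * σ⁻¹⁻¹ = x by group] at this
  obtain ⟨a, b, c, hab, hac, hbc⟩ : ∃ a b c : α, a ≠ b ∧ a ≠ c ∧ b ≠ c :=
    Fintype.two_lt_card_iff.1 (by omega)
  have hbot : N.subgroupOf (alternatingGroup α) = ⊥ := by
    haveI : (N.subgroupOf (alternatingGroup α)).Normal :=
      ⟨fun x hx y => mem_subgroupOf.2 ((mem_normalizer_iff.1 (hA y.2) x).1 (mem_subgroupOf.1 hx))⟩
    refine (Normal.eq_bot_or_eq_top inferInstance).resolve_right fun h => ?_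
    have h3 := Perm.isThreeCycle_swap_mul_swap_same hab hac hbc
    obtain ⟨k, hk⟩ := hN ⟨_, (subgroupOf_eq_top.1 h) h3.mem_alternatingGroup⟩
    have hd : orderOf (swap a b * swap a c) ∣ 2 ^ k := orderOf_dvd_of_pow_eq_one (congrArg Subtype.val hk)
    rw [h3.orderOf] at hd
    exact absurd ((Nat.prime_dvd_prime_iff_eq Nat.prime_three Nat.prime_two).1
      (Nat.prime_three.dvd_of_dvd_pow hd)) (by decide)
  refine (Subgroup.eq_bot_iff_forall _).2 fun q hq => ?_
  have hcomm : ∀ σ : Perm α, σ.IsThreeCycle → σ * q = q * σ := fun σ hσ => by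
    have hm : σ * q * σ⁻¹ * q⁻¹ ∈ alternatingGroup α := Perm.mem_alternatingGroup.2 (by
      simp only [map_mul, map_inv, hσ.sign, one_mul, inv_one, mul_one, mul_inv_cancel])
    have h : (⟨_, hm⟩ : alternatingGroup α) ∈ N.subgroupOf (alternatingGroup α) :=
      mem_subgroupOf.2 (mul_mem (hconj σ hσ q hq) (inv_mem hq))
    rw [hbot, mem_bot] at h
    exact mul_inv_eq_iff_eq_mul.1 (mul_inv_eq_one.1 (congrArg Subtype.val h))
  refine Equiv.ext fun x => ?_
  rw [Perm.one_apply]
  by_contra hne
  obtain ⟨y, hy⟩ := Finset.card_pos.1 (by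
    have h1 := Finset.card_le_two (a := x) (b := q x)
    have h2 := Finset.card_compl ({x, q x} : Finset α)
    omega : 0 < ({x, q x} : Finset α)ᶜ.card)
  obtain ⟨d, hd⟩ := Finset.card_pos.1 (by
    have h1 := Finset.card_le_three (a := x) (b := q x) (c := y)
    have h2 := Finset.card_compl ({x, q x, y} : Finset α)
    omega : 0 < ({x, q x, y} : Finset α)ᶜ.card)
  simp only [Finset.mem_compl, Finset.mem_insert, Finset.mem_singleton, not_or] at hy hd
  have e := congrArg (fun r : Perm α => r x)
    (hcomm _ (Perm.isThreeCycle_swap_mul_swap_same (Ne.symm hy.1) (Ne.symm hd.1) (Ne.symm hd.2.2)))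
  simp only [Perm.mul_apply] at e
  rw [swap_apply_of_ne_of_ne hne (Ne.symm hd.2.1), swap_apply_of_ne_of_ne hne (Ne.symm hy.2),
    swap_apply_left, swap_apply_of_ne_of_ne hd.1 hd.2.2] at e
  exact hd.1 (q.injective e).symm

/-- One point of each two-cycle of `P`. -/
abbrev Pair (P : Perm (Fin n)) : Type := {i : Fin n // i < P i}

section Pairs

variable {P : Perm (Fin n)} (hP : P * P = 1)

/-- The chosen point of the two-cycle of `j`. -/
def rep (P : Perm (Fin n)) (j : Fin n) : Fin n := if j < P j then j else P j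

theorem rep_or (j : Fin n) : rep P j = j ∨ rep P j = P j := by
  unfold rep; split <;> simp

include hP in
theorem invol_apply (j : Fin n) : P (P j) = j := by rw [← Perm.mul_apply, hP, Perm.one_apply]

include hP in
theorem rep_P (j : Fin n) : rep P (P j) = rep P j := by
  unfold rep
  rw [invol_apply hP]
  rcases lt_trichotomy j (P j) with h | h | h
  · rw [if_pos h, if_neg h.asymm]
  · rw [← h]
  · rw [if_neg h.asymm, if_pos h]

include hP in
theorem rep_lt {j : Fin n} (hj : P j ≠ j) : rep P j < P (rep P j) := by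
  unfold rep
  split
  · assumption
  next h => rw [invol_apply hP]; exact lt_of_le_of_ne (not_lt.1 h) hj

theorem rep_self (a : Pair P) : rep P a = a := if_pos a.2

theorem comm_apply {q : Perm (Fin n)} (hq : q ∈ centralizer ({P} : Set (Perm (Fin n)))) (j : Fin n) :
    q (P j) = P (q j) := by
  rw [← Perm.mul_apply, mem_centralizer_singleton_iff.1 hq, Perm.mul_apply]

include hP in
theorem rep_q {q : Perm (Fin n)} (hq : q ∈ centralizer ({P} : Set (Perm (Fin n)))) (j : Fin n) :
    rep P (q (rep P j)) = rep P (q j) := by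
  rcases rep_or (P := P) j with e | e <;> rw [e]
  rw [comm_apply hq, rep_P hP]

/-- The image of a chosen point. -/
def move (hP : P * P = 1) (q : centralizer ({P} : Set (Perm (Fin n)))) (a : Pair P) : Pair P :=
  ⟨rep P ((q : Perm (Fin n)) a), rep_lt hP fun e => by
    rw [← comm_apply q.2] at e
    exact ne_of_gt a.2 ((q : Perm (Fin n)).injective e)⟩

theorem move_mul (q r : centralizer ({P} : Set (Perm (Fin n)))) (a : Pair P) :
    move hP (q * r) a = move hP q (move hP r a) :=
  Subtype.ext (by simp only [move, Subgroup.coe_mul, Perm.mul_apply, rep_q hP q.2])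

theorem move_one (a : Pair P) : move hP 1 a = a := Subtype.ext (rep_self a)

/-- The action on the two-cycles. -/
def pairHom : centralizer ({P} : Set (Perm (Fin n))) →* Perm (Pair P) :=
  MonoidHom.mk' (fun q => ⟨move hP q, move hP q⁻¹,
      fun a => by rw [← move_mul, inv_mul_cancel, move_one],
      fun a => by rw [← move_mul, mul_inv_cancel, move_one]⟩)
    fun q r => Equiv.ext fun a => move_mul hP q r a

theorem pairHom_apply (q : centralizer ({P} : Set (Perm (Fin n)))) (a : Pair P) :
    (pairHom hP q a : Fin n) = rep P ((q : Perm (Fin n)) a) := rfl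

/-- An element fixing all two-cycles. -/
theorem flip_of_trivial {q : centralizer ({P} : Set (Perm (Fin n)))} (h : pairHom hP q = 1) (i : Fin n)
    (hi : P i ≠ i) : (q : Perm (Fin n)) i = i ∨ (q : Perm (Fin n)) i = P i := by
  have e := pairHom_apply hP q ⟨rep P i, rep_lt hP hi⟩
  rw [h, Perm.one_apply, rep_q hP q.2] at e
  simp only at e
  rcases rep_or (P := P) i with e1 | e1 <;> rcases rep_or (P := P) ((q : Perm (Fin n)) i) with e2 | e2 <;>
    rw [e1, e2] at e
  · exact Or.inl e.symm
  · exact Or.inr ((invol_apply hP _).symm.trans (congrArg P e).symm)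
  · exact Or.inr e.symm
  · exact Or.inl (P.injective e).symm

/-- Both points of a two-cycle. -/
def pairEmb (hP : P * P = 1) : Pair P × Bool ↪ Fin n :=
  ⟨fun t => bif t.2 then P t.1.1 else t.1.1, by
    rintro ⟨⟨a, ha⟩, _ | _⟩ ⟨⟨b, hb⟩, _ | _⟩ e <;> simp only [cond_true, cond_false] at e
    · subst e; rfl
    · rw [e, invol_apply hP] at ha; exact absurd ha hb.asymm
    · rw [← e, invol_apply hP] at hb; exact absurd ha hb.asymm
    · obtain rfl := P.injective e; rfl⟩

theorem pairEmb_range {j : Fin n} (hj : P j ≠ j) : j ∈ Set.range (pairEmb hP) := by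
  rcases rep_or (P := P) j with e | e
  · exact ⟨(⟨rep P j, rep_lt hP hj⟩, false), e⟩
  · exact ⟨(⟨rep P j, rep_lt hP hj⟩, true), by
      show P (rep P j) = j
      rw [e, invol_apply hP]⟩

/-- A permutation of the two-cycles on both points. -/
noncomputable def liftHom : Perm (Pair P) →* Perm (Fin n) :=
  (Perm.viaEmbeddingHom (pairEmb hP)).comp
    (MonoidHom.mk' (fun σ => σ.prodCongr (Equiv.refl Bool)) fun _ _ => Equiv.ext fun _ => rfl)

theorem liftHom_apply (σ : Perm (Pair P)) (t : Pair P × Bool) :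
    liftHom hP σ (pairEmb hP t) = pairEmb hP (σ t.1, t.2) :=
  Perm.viaEmbedding_apply _ (pairEmb hP) t

theorem liftHom_mem (σ : Perm (Pair P)) : liftHom hP σ ∈ centralizer ({P} : Set (Perm (Fin n))) := by
  refine mem_centralizer_singleton_iff.2 (Equiv.ext fun j => ?_)
  simp only [Perm.mul_apply]
  by_cases hj : P j = j
  · have hnr : j ∉ Set.range (pairEmb hP) := by
      rintro ⟨⟨⟨a, ha⟩, _ | _⟩, e⟩ <;> subst e
      · exact ne_of_gt ha hj
      · exact ne_of_gt ha (P.injective hj)
    have : liftHom hP σ j = j := Perm.viaEmbedding_apply_of_notMem _ _ _ hnr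
    rw [hj, this, hj]
  · obtain ⟨⟨a, c⟩, rfl⟩ := pairEmb_range hP hj
    have hflip : ∀ (a : Pair P) (c : Bool), P (pairEmb hP (a, c)) = pairEmb hP (a, !c) := by
      rintro a (_ | _)
      · rfl
      · exact invol_apply hP _
    rw [hflip, liftHom_apply, liftHom_apply, hflip]

theorem pairHom_lift (σ : Perm (Pair P)) :
    pairHom hP ⟨liftHom hP σ, liftHom_mem hP σ⟩ = σ := by
  refine Equiv.ext fun a => Subtype.ext ?_
  rw [pairHom_apply]
  show rep P (liftHom hP σ (pairEmb hP (a, false))) = _
  rw [liftHom_apply]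
  exact rep_self _

end Pairs

/-- Permutations moving points only inside the two-cycles of `P`. -/
def IsFlip (P q : Perm (Fin n)) : Prop := ∀ i, q i = i ∨ q i = P i

theorem IsFlip.comm {P q : Perm (Fin n)} (hP : P * P = 1) (h : IsFlip P q) : q * P = P * q := by
  refine Equiv.ext fun i => ?_
  simp only [Perm.mul_apply]
  have hPP : ∀ w, P (P w) = w := fun w => invol_apply hP w
  rcases h i with e | e <;> rcases h (P i) with e' | e'
  · rw [e, e']
  · rw [hPP] at e'
    have := q.injective (e'.trans e.symm)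
    rw [e, this, e]
  · have := q.injective (e.trans e'.symm)
    rw [e, e', hPP]
    exact this.symm
  · rw [e', e]

/-- The subgroup of flips. -/
def flips {P : Perm (Fin n)} (hP : P * P = 1) : Subgroup (Perm (Fin n)) where
  carrier := {q | IsFlip P q}
  one_mem' i := Or.inl rfl
  mul_mem' {q r} hq hr i := by
    rw [Perm.mul_apply]
    rcases hr i with e | e <;> rw [e]
    · exact hq i
    · rcases hq (P i) with e' | e' <;> rw [e']
      · exact Or.inr rfl
      · exact Or.inl (invol_apply hP i)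
  inv_mem' {q} hq i := by
    rcases hq i with e | e
    · exact Or.inl (Perm.inv_eq_iff_eq.2 e.symm)
    · refine Or.inr (Perm.inv_eq_iff_eq.2 ?_)
      rw [← Perm.mul_apply, IsFlip.comm hP hq, Perm.mul_apply, e, invol_apply hP]

theorem IsFlip.sq {P q : Perm (Fin n)} (hP : P * P = 1) (h : IsFlip P q) : q * q = 1 := by
  refine Equiv.ext fun i => ?_
  rw [Perm.mul_apply, Perm.one_apply]
  rcases h i with e | e <;> rw [e]
  · exact e
  · rw [← Perm.mul_apply, IsFlip.comm hP h, Perm.mul_apply, e, invol_apply hP]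

theorem IsFlip.swap_swap {P : Perm (Fin n)} (hP : P * P = 1) {a b : Fin n}
    (h : [a, P a, b, P b].Nodup) : IsFlip P (swap a (P a) * swap b (P b)) := by
  intro i
  simp only [List.nodup_cons, List.mem_cons, List.not_mem_nil, or_false, not_or] at h
  obtain ⟨⟨n1, n2, n3⟩, ⟨n4, n5⟩, n6, -⟩ := h
  rw [Perm.mul_apply]
  by_cases g1 : i = b
  · subst g1; right; rw [swap_apply_left, swap_apply_of_ne_of_ne (Ne.symm n3) (Ne.symm n5)]
  by_cases g2 : i = P b
  · subst g2
    right
    rw [swap_apply_right, swap_apply_of_ne_of_ne (Ne.symm n2) (Ne.symm n4), invol_apply hP]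
  rw [swap_apply_of_ne_of_ne g1 g2]
  by_cases g3 : i = a
  · subst g3; right; rw [swap_apply_left]
  by_cases g4 : i = P a
  · subst g4; right; rw [swap_apply_right, invol_apply hP]
  exact Or.inl (swap_apply_of_ne_of_ne g3 g4)

/-- A double transposition as a product of two five-cycles. -/
theorem two_fives : ∃ s t : Perm (Fin 5), s ^ 5 = 1 ∧ t ^ 5 = 1 ∧ s * t = swap 0 1 * swap 2 3 ∧
    Perm.sign s = 1 ∧ Perm.sign t = 1 :=
  ⟨swap 0 2 * swap 2 1 * swap 1 3 * swap 3 4, swap 0 2 * swap 2 1 * swap 1 4 * swap 4 3, by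
    decide +kernel⟩

end CfsgLib.Recog.DoubleAlt.Large
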