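import Cfsg.Agent.Lib.Recog.DoubleAlt.Lifts
import Cfsg.Agent.Lib.Recog.DoubleAlt.LargePerm
import Cfsg.Agent.Lib.InvChar.AltLift.Classes

/-!
Degree at least thirteen: the centraliser of two commuting fused involutions tells them apart.
-/

set_option autoImplicit false
set_option linter.unusedSectionVars false

namespace CfsgLib.Recog.DoubleAlt

open Equiv Subgroup CfsgLib.InvChar.AltLift
open CfsgLib.Recog.DoubleAlt.Large

variable {G : Type*} [Group G] [Finite G] {n : ℕ} (S : Setup G n)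

namespace Setup

/-- A non-central involution lies over a product of `4 j` transpositions and is conjugate to its
product with the central one. -/
theorem invol_data {x : centralizer ({S.z} : Set G)} (hx : x * x = 1) (h1 : x ≠ 1) (h2 : x ≠ S.zc) :
    (∃ j, 0 < j ∧ (S.π x).support.card = 8 * j) ∧
      ∃ w : centralizer ({S.z} : Set G), w * x * w⁻¹ = x * S.zc := by
  have hp : S.π x * S.π x = 1 := by rw [← map_mul, hx, map_one]
  obtain ⟨k, hk⟩ := support_four (p := S.π x) (Perm.mem_alternatingGroup.2 (S.sign_π x)) hp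
  have hk0 : 0 < k := Nat.pos_of_ne_zero fun e => by
    subst e
    rcases (S.ker' x).1 (Perm.support_eq_empty_iff.1 (Finset.card_eq_zero.1 (by omega))) with h | h
    exacts [h1 h, h2 h]
  rcases Nat.even_or_odd' k with ⟨j, rfl | rfl⟩
  · exact ⟨⟨j, by omega, by omega⟩, S.cov.conj_th hk0 ⟨j, by omega⟩ hp hk⟩
  · exfalso
    have := S.sq_support hp hk
    rw [hx, pow_succ, pow_mul, pow_two, S.zc_sq, one_pow, one_mul] at this
    exact S.zc_ne this.symm

/-- The central involution is exchanged with a commuting conjugate. -/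
theorem exists_swapped : ∃ (u : centralizer ({S.z} : Set G)) (g : G), u * u = 1 ∧ u ≠ 1 ∧ u ≠ S.zc ∧
    g * S.z * g⁻¹ = u ∧ g * u * g⁻¹ = S.z := by
  obtain ⟨h, hh, hne⟩ := S.fused
  have hz := S.z_sq
  let v : centralizer ({S.z} : Set G) := ⟨h * S.z * h⁻¹, mem_centralizer_singleton_iff.2 hh⟩
  let w : centralizer ({S.z} : Set G) := ⟨h⁻¹ * S.z * h, mem_centralizer_singleton_iff.2 (by
    calc h⁻¹ * S.z * h * S.z = h⁻¹ * (S.z * (h * S.z * h⁻¹)) * h := by group
      _ = h⁻¹ * (h * S.z * h⁻¹ * S.z) * h := by rw [hh]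
      _ = S.z * (h⁻¹ * S.z * h) := by group)⟩
  have hv : v * v = 1 := Subtype.ext (by
    show h * S.z * h⁻¹ * (h * S.z * h⁻¹) = 1
    rw [show h * S.z * h⁻¹ * (h * S.z * h⁻¹) = h * (S.z * S.z) * h⁻¹ by group, hz, mul_one, mul_inv_cancel])
  have hw : w * w = 1 := Subtype.ext (by
    show h⁻¹ * S.z * h * (h⁻¹ * S.z * h) = 1
    rw [show h⁻¹ * S.z * h * (h⁻¹ * S.z * h) = h⁻¹ * (S.z * S.z) * h by group, hz, mul_one, inv_mul_cancel])
  have hv1 : v ≠ 1 := fun e => S.ne (by
    have e' : h * S.z * h⁻¹ = 1 := congrArg Subtype.val e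
    exact conj_eq_one_iff.1 e')
  have hw1 : w ≠ 1 := fun e => S.ne (by
    have e' : h⁻¹ * S.z * h = 1 := congrArg Subtype.val e
    calc S.z = h * (h⁻¹ * S.z * h) * h⁻¹ := by group
      _ = 1 := by rw [e']; group)
  have hv2 : v ≠ S.zc := fun e => hne (congrArg Subtype.val e)
  have hw2 : w ≠ S.zc := fun e => hne (by
    have e' : h⁻¹ * S.z * h = S.z := congrArg Subtype.val e
    calc h * S.z * h⁻¹ = h * (h⁻¹ * S.z * h) * h⁻¹ := by rw [e']
      _ = S.z := by group)
  obtain ⟨-, a, ha⟩ := S.invol_data hv hv1 hv2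
  obtain ⟨-, d, hd⟩ := S.invol_data hw hw1 hw2
  have haz : (a : G) * S.z * (a : G)⁻¹ = S.z := by
    rw [mem_centralizer_singleton_iff.1 a.2, mul_inv_cancel_right]
  have hav : (a : G) * (h * S.z * h⁻¹) * (a : G)⁻¹ = (h * S.z * h⁻¹) * S.z := congrArg Subtype.val ha
  have hdz : (d : G) * S.z * (d : G)⁻¹ = S.z := by
    rw [mem_centralizer_singleton_iff.1 d.2, mul_inv_cancel_right]
  have hdw : (d : G) * (h⁻¹ * S.z * h) * (d : G)⁻¹ = h⁻¹ * S.z * h * S.z := congrArg Subtype.val hd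
  set b : G := h * d * h⁻¹ with hb
  have hbv : b * (h * S.z * h⁻¹) * b⁻¹ = (h * S.z * h⁻¹) := by
    rw [hb, show h * (d : G) * h⁻¹ * (h * S.z * h⁻¹) * (h * (d : G) * h⁻¹)⁻¹ =
      h * ((d : G) * S.z * (d : G)⁻¹) * h⁻¹ by group, hdz]
  have hbz : b * S.z * b⁻¹ = S.z * (h * S.z * h⁻¹) := by
    rw [hb, show h * (d : G) * h⁻¹ * S.z * (h * (d : G) * h⁻¹)⁻¹ =
      h * ((d : G) * (h⁻¹ * S.z * h) * (d : G)⁻¹) * h⁻¹ by group, hdw]
    group
  have hvz : (h * S.z * h⁻¹) * S.z = S.z * (h * S.z * h⁻¹) := hh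
  have hzvz : S.z * ((h * S.z * h⁻¹) * S.z) = (h * S.z * h⁻¹) := by rw [hvz, ← mul_assoc, hz, one_mul]
  have hvzv : (h * S.z * h⁻¹) * (S.z * (h * S.z * h⁻¹)) = S.z := by
    rw [← hvz, ← mul_assoc, show (h * S.z * h⁻¹) * (h * S.z * h⁻¹) = 1 from congrArg Subtype.val hv, one_mul]
  refine ⟨v, a * b * a, hv, hv1, hv2, ?_, ?_⟩
  · show (a : G) * b * a * S.z * ((a : G) * b * a)⁻¹ = (h * S.z * h⁻¹)
    rw [show (a : G) * b * a * S.z * ((a : G) * b * a)⁻¹ =
      (a : G) * (b * ((a : G) * S.z * (a : G)⁻¹) * b⁻¹) * (a : G)⁻¹ by group, haz, hbz,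
      show (a : G) * (S.z * (h * S.z * h⁻¹)) * (a : G)⁻¹ = ((a : G) * S.z * (a : G)⁻¹) * ((a : G) * (h * S.z * h⁻¹) * (a : G)⁻¹) by group,
      haz, hav, hzvz]
  · show (a : G) * b * a * (h * S.z * h⁻¹) * ((a : G) * b * a)⁻¹ = S.z
    rw [show (a : G) * b * a * (h * S.z * h⁻¹) * ((a : G) * b * a)⁻¹ =
      (a : G) * (b * ((a : G) * (h * S.z * h⁻¹) * (a : G)⁻¹) * b⁻¹) * (a : G)⁻¹ by group, hav,
      show b * ((h * S.z * h⁻¹) * S.z) * b⁻¹ = (b * (h * S.z * h⁻¹) * b⁻¹) * (b * S.z * b⁻¹) by group, hbv, hbz, hvzv, haz]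

end Setup

variable {u : centralizer ({S.z} : Set G)} {g : G}

theorem via_swap {k : ℕ} (ι : Fin k ↪ Fin n) (a b : Fin k) :
    Perm.viaEmbeddingHom ι (swap a b) = swap (ι a) (ι b) := by
  refine Equiv.ext fun w => ?_
  rw [Perm.viaEmbeddingHom_apply]
  by_cases hw : w ∈ Set.range ι
  · obtain ⟨c, rfl⟩ := hw
    rw [Perm.viaEmbedding_apply, ι.injective.map_swap]
  · rw [Perm.viaEmbedding_apply_of_notMem _ _ _ hw,
      swap_apply_of_ne_of_ne (fun e => hw ⟨a, e.symm⟩) fun e => hw ⟨b, e.symm⟩]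

theorem gconj_commute {x a b : G} (h : x * a = a * x) (e : g * a * g⁻¹ = b) :
    g * x * g⁻¹ * b = b * (g * x * g⁻¹) := by
  rw [← e, show g * x * g⁻¹ * (g * a * g⁻¹) = g * (x * a) * g⁻¹ by group, h]
  group

theorem gconj_commute' {x a b : G} (h : x * b = b * x) (e : g * a * g⁻¹ = b) :
    g⁻¹ * x * g * a = a * (g⁻¹ * x * g) := by
  have h' : a = g⁻¹ * b * g := by rw [← e]; group
  rw [h', show g⁻¹ * x * g * (g⁻¹ * b * g) = g⁻¹ * (x * b) * g by group, h]
  group

theorem comm_val {x : centralizer ({S.z} : Set G)}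
    (hx : x ∈ centralizer ({u} : Set (centralizer ({S.z} : Set G)))) : (x : G) * u = u * x :=
  congrArg Subtype.val (mem_centralizer_singleton_iff.1 hx)

/-- Conjugation by the exchanging element on the common centraliser. -/
def swapEquiv (hgz : g * S.z * g⁻¹ = u) (hgu : g * u * g⁻¹ = S.z) :
    centralizer ({u} : Set (centralizer ({S.z} : Set G))) ≃*
      centralizer ({u} : Set (centralizer ({S.z} : Set G))) where
  toFun x := ⟨⟨g * (x.1 : G) * g⁻¹, mem_centralizer_singleton_iff.2 (gconj_commute (comm_val S x.2) hgu)⟩,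
    mem_centralizer_singleton_iff.2 (Subtype.ext (gconj_commute (mem_centralizer_singleton_iff.1 x.1.2) hgz))⟩
  invFun x := ⟨⟨g⁻¹ * (x.1 : G) * g, mem_centralizer_singleton_iff.2 (gconj_commute' (comm_val S x.2) hgz)⟩,
    mem_centralizer_singleton_iff.2 (Subtype.ext (gconj_commute' (mem_centralizer_singleton_iff.1 x.1.2) hgu))⟩
  left_inv x := Subtype.ext (Subtype.ext (by
    show g⁻¹ * (g * (x.1 : G) * g⁻¹) * g = x.1
    group))
  right_inv x := Subtype.ext (Subtype.ext (by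
    show g * (g⁻¹ * (x.1 : G) * g) * g⁻¹ = x.1
    group))
  map_mul' x y := Subtype.ext (Subtype.ext (by
    show g * ((x.1 : G) * y.1) * g⁻¹ = g * x.1 * g⁻¹ * (g * y.1 * g⁻¹)
    group))

/-- The projection of the common centraliser. -/
def projX (u : centralizer ({S.z} : Set G)) :
    centralizer ({u} : Set (centralizer ({S.z} : Set G))) →* centralizer ({S.π u} : Set (Perm (Fin n))) :=
  (S.π.comp (centralizer ({u} : Set (centralizer ({S.z} : Set G)))).subtype).codRestrict _ fun x =>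
    mem_centralizer_singleton_iff.2 (by
      show S.π x.1 * S.π u = S.π u * S.π x.1
      rw [← map_mul, mem_centralizer_singleton_iff.1 x.2, map_mul])

variable (hgz : g * S.z * g⁻¹ = u) (hgu : g * u * g⁻¹ = S.z)

include hgz hgu in
theorem false_eight (hn : 13 ≤ n) (hu : u * u = 1) (hs : (S.π u).support.card = 8) : False := by
  classical
  set P := S.π u with hPdef
  have hP : P * P = 1 := by rw [hPdef, ← map_mul, hu, map_one]
  obtain ⟨ι⟩ : Nonempty (Fin 5 ↪ {i : Fin n // i ∉ P.support}) := by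
    refine Function.Embedding.nonempty_of_card_le ?_
    rw [Fintype.card_fin, Fintype.card_subtype_compl, Fintype.card_fin, Fintype.card_coe, hs]
    omega
  let j : Fin 5 ↪ Fin n := ι.trans (Function.Embedding.subtype _)
  have hj : ∀ a, P (j a) = j a := fun a => Perm.notMem_support.1 (ι a).2
  let V := Perm.viaEmbeddingHom j
  have hVfix : ∀ (s : Perm (Fin 5)) w, P w ≠ w → V s w = w := fun s w hw =>
    Perm.viaEmbedding_apply_of_notMem _ _ _ (by rintro ⟨a, rfl⟩; exact hw (hj a))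
  have hVd : ∀ s, Perm.Disjoint (V s) P := fun s w =>
    (em (P w = w)).elim Or.inr fun h => Or.inl (hVfix s w h)
  obtain ⟨s, t, hs5, ht5, hst, hss, hts⟩ := two_fives
  have hsign : ∀ r : Perm (Fin 5), r ^ 5 = 1 → Perm.sign (V r) = 1 := fun r hr => by
    have h := congrArg (fun q => Perm.sign (V q)) hr
    simp only [map_pow, map_one] at h
    rcases Int.units_eq_one_or (Perm.sign (V r)) with e | e
    · exact e
    · rw [e] at h; exact absurd h (by decide)
  have lift : ∀ r : Perm (Fin 5), r ^ 5 = 1 →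
      ∃ y : centralizer ({u} : Set (centralizer ({S.z} : Set G))), S.π y.1 = V r ∧ y ^ 5 = 1 := by
    intro r hr
    obtain ⟨y, ⟨hy, hy5⟩, -⟩ := S.exists_odd_lift (m := 5) (hsign r hr) (by decide) (by rw [← map_pow, hr, map_one])
    exact ⟨⟨y, mem_centralizer_singleton_iff.2
      (S.commute_disjoint (x := y) (y := u) (by rw [hy]; exact hVd r)).eq⟩, hy, Subtype.ext hy5⟩
  obtain ⟨y, hy, hy5⟩ := lift s hs5
  obtain ⟨y', hy', hy5'⟩ := lift t ht5
  have hz : (y.1 * y'.1) * (y.1 * y'.1) = S.zc := by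
    refine S.sq_two (a := j 0) (b := j 1) (c := j 2) (d := j 3) ?_ ?_
    · have : ([0, 1, 2, 3] : List (Fin 5)).Nodup := by decide
      exact this.map j.injective
    · rw [map_mul, hy, hy', ← map_mul, hst, map_mul]
      exact congrArg₂ (· * ·) (via_swap j 0 1) (via_swap j 2 3)
  set φ := swapEquiv S hgz hgu with hφ
  have hfix : ∀ x : centralizer ({u} : Set (centralizer ({S.z} : Set G))), x ^ 5 = 1 →
      ∀ w, P w ≠ w → S.π (φ x).1 w = w := by
    intro x hx w hw
    refine five_fix hP ?_ ?_ hs hw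
    · exact mem_centralizer_singleton_iff.1 (projX S u (φ x)).2
    · have h5 : (φ x) ^ 5 = 1 := by rw [← map_pow, hx, map_one]
      rw [← map_pow, show ((φ x).1) ^ 5 = 1 from congrArg Subtype.val h5, map_one]
  have hu' : ((φ y).1 * (φ y').1) * ((φ y).1 * (φ y').1) = u := by
    refine Subtype.ext ?_
    have e : ((y.1 * y'.1) * (y.1 * y'.1) : G) = S.z := congrArg Subtype.val hz
    show g * (y.1 : G) * g⁻¹ * (g * (y'.1 : G) * g⁻¹) * (g * (y.1 : G) * g⁻¹ * (g * (y'.1 : G) * g⁻¹)) = u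
    rw [show g * (y.1 : G) * g⁻¹ * (g * (y'.1 : G) * g⁻¹) * (g * (y.1 : G) * g⁻¹ * (g * (y'.1 : G) * g⁻¹)) =
      g * ((y.1 : G) * y'.1 * ((y.1 : G) * y'.1)) * g⁻¹ by group]
    rw [← hgz]
    exact congrArg (fun q => g * q * g⁻¹) e
  obtain ⟨w, hw⟩ := Finset.card_pos.1 (by omega : 0 < P.support.card)
  rw [Perm.mem_support] at hw
  apply hw
  rw [hPdef, ← hu', map_mul, map_mul]
  simp only [Perm.mul_apply]
  rw [hfix y' hy5' w hw, hfix y hy5 w hw, hfix y' hy5' w hw, hfix y hy5 w hw]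

include hgz hgu in
theorem false_many {j : ℕ} (hj : 2 ≤ j) (hu : u * u = 1) (hs : (S.π u).support.card = 8 * j) :
    False := by
  classical
  set P := S.π u with hPdef
  have hP : P * P = 1 := by rw [hPdef, ← map_mul, hu, map_one]
  set X := centralizer ({u} : Set (centralizer ({S.z} : Set G))) with hX
  set φ := swapEquiv S hgz hgu with hφ
  have hP' : S.π u * S.π u = 1 := hP
  let F : Subgroup X := (flips hP).comap (S.π.comp X.subtype)
  have hFn : F.Normal := ⟨fun x hx r i => by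
    show S.π ((r * x * r⁻¹ : X) : centralizer ({S.z} : Set G)) i = i ∨ _ = P i
    simp only [Subgroup.coe_mul, Subgroup.coe_inv, map_mul, map_inv, Perm.mul_apply]
    have hx' : IsFlip P (S.π x.1) := hx
    show S.π r.1 (S.π x.1 ((S.π r.1)⁻¹ i)) = i ∨ S.π r.1 (S.π x.1 ((S.π r.1)⁻¹ i)) = P i
    rcases hx' ((S.π r.1)⁻¹ i) with e | e
    · left
      rw [show S.π x.1 ((S.π r.1)⁻¹ i) = (S.π r.1)⁻¹ i from e, ← Perm.mul_apply, mul_inv_cancel, Perm.one_apply]
    · right
      rw [show S.π x.1 ((S.π r.1)⁻¹ i) = P ((S.π r.1)⁻¹ i) from e, comm_apply (q := S.π r.1) (projX S u r).2]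
      simp [hPdef]⟩
  have hF2 : IsPGroup 2 F := fun x => ⟨2, by
    have h : S.π (x.1.1 * x.1.1) = 1 := by rw [map_mul]; exact IsFlip.sq hP x.2
    refine Subtype.ext (Subtype.ext ?_)
    show x.1.1 ^ 4 = 1
    rcases (S.ker' _).1 h with e | e
    · rw [show 4 = 2 * 2 from rfl, pow_mul, pow_two x.1.1, e, one_pow]
    · rw [show 4 = 2 * 2 from rfl, pow_mul, pow_two x.1.1, e, pow_two, S.zc_sq]⟩
  let N : Subgroup X := F.map φ.toMonoidHom
  have hNn : N.Normal := hFn.map _ φ.surjective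
  let γ : X →* Perm (Pair P) := (pairHom hP).comp (projX S u)
  have hcard : 5 ≤ Fintype.card (Pair P) := by
    have hle : Fintype.card {w // w ∈ P.support} ≤ Fintype.card (Pair P × Bool) := by
      refine le_trans ?_ (Finset.card_image_le (s := Finset.univ) (f := pairEmb hP))
      rw [Fintype.card_coe]
      refine Finset.card_le_card fun w hw => ?_
      obtain ⟨t, rfl⟩ := pairEmb_range hP (Perm.mem_support.1 hw)
      exact Finset.mem_image_of_mem _ (Finset.mem_univ t)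
    rw [Fintype.card_coe, hs, Fintype.card_prod, Fintype.card_bool] at hle
    omega
  have hNbot : N.map γ = ⊥ := by
    refine two_group_trivial hcard _ ((hF2.map _).map _) fun σ hσ x hx => ?_
    obtain ⟨x, hxN, rfl⟩ := hx
    have h3 : liftHom hP σ ^ 3 = 1 := by
      rw [← map_pow, show σ ^ 3 = 1 from hσ.orderOf ▸ pow_orderOf_eq_one σ, map_one]
    have hsig : Perm.sign (liftHom hP σ) = 1 := by
      have h := congrArg Perm.sign h3
      rw [map_pow, map_one] at h
      rcases Int.units_eq_one_or (Perm.sign (liftHom hP σ)) with e | e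
      · exact e
      · rw [e] at h; exact absurd h (by decide)
    obtain ⟨y, ⟨hy, hy3⟩, -⟩ := S.exists_odd_lift (m := 3) hsig (by decide) h3
    have hyX : y ∈ X := mem_centralizer_singleton_iff.2 (S.cov.comm_odd (h := y) (k := u) (m := 3) (by decide) hy3
      (by show S.π u * S.π y = S.π y * S.π u
          rw [hy]; exact (mem_centralizer_singleton_iff.1 (liftHom_mem hP σ)).symm)).symm
    have hγ : γ ⟨y, hyX⟩ = σ := by
      show pairHom hP (projX S u ⟨y, hyX⟩) = σ
      rw [show projX S u ⟨y, hyX⟩ = ⟨liftHom hP σ, liftHom_mem hP σ⟩ from Subtype.ext hy]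
      exact pairHom_lift hP σ
    exact ⟨_, hNn.conj_mem x hxN ⟨y, hyX⟩, by rw [map_mul, map_mul, map_inv, hγ]⟩
  -- two anticommuting lifts of flips
  have hcard3 : 2 < Fintype.card (Pair P) := by omega
  obtain ⟨a, b, c, hab, hac, hbc⟩ := Fintype.two_lt_card_iff.1 hcard3
  have hnd : [a.1, P a.1, b.1, P b.1, c.1, P c.1].Nodup := by
    have h6 : ([(a, false), (a, true), (b, false), (b, true), (c, false), (c, true)] :
        List (Pair P × Bool)).Nodup := by
      simp [hab, hac, hbc]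
    exact h6.map (pairEmb hP).injective
  have mk : ∀ b : Pair P, a ≠ b → [a.1, P a.1, b.1, P b.1].Nodup → ∃ x : F, S.π x.1.1 = swap a.1 (P a.1) * swap b.1 (P b.1) := by
    intro b hab h4
    obtain ⟨x, hx⟩ := S.exists_lift (p := swap a.1 (P a.1) * swap b.1 (P b.1))
      (Perm.mem_alternatingGroup.1 (DT.mem ⟨_, _, _, _, h4, rfl⟩))
    have hfl : IsFlip P (S.π x) := by rw [hx]; exact IsFlip.swap_swap hP h4
    obtain ⟨-, -, hc4⟩ := support_mul_pairs hP (a := a.1) (c := b.1)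
      (Perm.mem_support.2 (ne_of_gt a.2)) (Perm.mem_support.2 (ne_of_gt b.2))
      (fun e => hab (Subtype.ext e.symm))
      (fun e => by
        have := (List.nodup_cons.1 (List.nodup_cons.1 h4).2).1
        exact this (by rw [e]; exact List.mem_cons_self ..))
    rw [← hx] at hc4
    have hxs : (S.π x).support.card = 4 * 1 := by
      have hn4 := h4
      simp only [List.nodup_cons, List.mem_cons, List.not_mem_nil, or_false, not_or] at hn4
      rw [hx, (Perm.disjoint_swap_swap h4).card_support_mul, Perm.card_support_swap hn4.1.1,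
        Perm.card_support_swap hn4.2.2.1]
    have hxu : x * u = u * x * S.zc ^ ((2 * j - 1) + 1 + 2 * j) :=
      S.mul_eq_pow (IsFlip.sq hP hfl) hP' (IsFlip.comm hP hfl) hxs (by rw [← hPdef]; omega)
        (by rw [← hPdef]; omega)
    have hev : S.zc ^ ((2 * j - 1) + 1 + 2 * j) = 1 := by
      rw [show (2 * j - 1) + 1 + 2 * j = 2 * (2 * j) by omega, pow_mul, pow_two, S.zc_sq, one_pow]
    rw [hev, mul_one] at hxu
    exact ⟨⟨⟨x, mem_centralizer_singleton_iff.2 hxu⟩, hfl⟩, hx⟩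
  obtain ⟨x, hx⟩ := mk b hab (hnd.sublist (by simp))
  obtain ⟨y, hy⟩ := mk c hac (hnd.sublist (by
    exact (List.Sublist.refl [a.1, P a.1]).append ((List.Sublist.refl [c.1, P c.1]).cons _ |>.cons _)))
  have hanti : x.1.1 * y.1.1 = y.1.1 * x.1.1 * S.zc := S.anti_share hnd hx hy
  have hz : x.1.1 * y.1.1 * x.1.1⁻¹ * y.1.1⁻¹ = S.zc := by
    rw [hanti, mul_assoc _ S.zc, ← S.zc_comm, ← mul_assoc, mul_inv_cancel_right, mul_assoc,
      ← S.zc_comm, ← mul_assoc, mul_inv_cancel, one_mul]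
  -- their images under the exchange fix every two-cycle
  have hflip : ∀ x : F, ∀ w, P w ≠ w → S.π (φ x.1).1 w = w ∨ S.π (φ x.1).1 w = P w := by
    intro x w hw
    refine flip_of_trivial hP (q := projX S u (φ x.1)) ?_ w hw
    have hm : γ (φ x.1) ∈ N.map γ := mem_map_of_mem _ (mem_map_of_mem _ x.2)
    rw [hNbot, mem_bot] at hm
    exact hm
  have hu' : (φ x.1).1 * (φ y.1).1 * (φ x.1).1⁻¹ * (φ y.1).1⁻¹ = u := by
    refine Subtype.ext ?_
    have e : (x.1.1 : G) * y.1.1 * (x.1.1 : G)⁻¹ * (y.1.1 : G)⁻¹ = S.z := congrArg Subtype.val hz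
    show g * (x.1.1 : G) * g⁻¹ * (g * (y.1.1 : G) * g⁻¹) * (g * (x.1.1 : G) * g⁻¹)⁻¹ *
      (g * (y.1.1 : G) * g⁻¹)⁻¹ = (u : G)
    rw [show g * (x.1.1 : G) * g⁻¹ * (g * (y.1.1 : G) * g⁻¹) * (g * (x.1.1 : G) * g⁻¹)⁻¹ *
      (g * (y.1.1 : G) * g⁻¹)⁻¹ = g * ((x.1.1 : G) * y.1.1 * (x.1.1 : G)⁻¹ * (y.1.1 : G)⁻¹) * g⁻¹ by group]
    exact (congrArg (fun r => g * r * g⁻¹) e).trans hgz
  obtain ⟨w, hw⟩ := Finset.card_pos.1 (by omega : 0 < P.support.card)
  rw [Perm.mem_support] at hw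
  have hp := hflip x w hw
  have hq := hflip y w hw
  have hpP := mem_centralizer_singleton_iff.1 (projX S u (φ x.1)).2
  have hqP := mem_centralizer_singleton_iff.1 (projX S u (φ y.1)).2
  set p := S.π (φ x.1).1
  set q := S.π (φ y.1).1
  have cp : ∀ i, p (P i) = P (p i) := fun i => congrArg (fun r : Perm (Fin n) => r i) hpP
  have cq : ∀ i, q (P i) = P (q i) := fun i => congrArg (fun r : Perm (Fin n) => r i) hqP
  have hpq : (p * q) w = (q * p) w := by
    simp only [Perm.mul_apply]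
    rcases hp with e | e <;> rcases hq with e' | e' <;> simp [e, e', cp, cq]
  have hiff : p * q * p⁻¹ * q⁻¹ = P := by
    rw [← map_inv, ← map_inv, ← map_mul, ← map_mul, ← map_mul, hu']
  apply hw
  have h0 : (p * q * p⁻¹ * q⁻¹) ((q * p) w) = (q * p) w := by
    rw [show p * q * p⁻¹ * q⁻¹ = p * q * (q * p)⁻¹ by group, ← Perm.mul_apply, inv_mul_cancel_right, hpq]
  rw [hiff] at h0
  have hPw : (q * p) (P w) = P ((q * p) w) := by
    simp only [Perm.mul_apply, cp, cq]
  exact (q * p).injective (hPw.trans h0)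

/-- **No degree at least thirteen.** -/
theorem false_large (S : Setup G n) (hn : 13 ≤ n) : False := by
  obtain ⟨u, g, hu, hu1, hu2, hgz, hgu⟩ := S.exists_swapped
  obtain ⟨⟨j, hj, hs⟩, -⟩ := S.invol_data hu hu1 hu2
  rcases Nat.lt_or_ge j 2 with h | h
  · exact false_eight S hgz hgu hn hu (by omega)
  · exact false_many S hgz hgu h hu hs

end CfsgLib.Recog.DoubleAlt
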