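import Cfsg.Agent.Lib.Recog.DoubleAlt.Basic
import Cfsg.Agent.Lib.InvChar.AltLift.Squares

/-!
Lifts in the centralizer: squares and commutation.
-/

set_option autoImplicit false
set_option linter.unusedSectionVars false

namespace CfsgLib.Recog.DoubleAlt

open Equiv Subgroup CfsgLib.InvChar.AltLift

variable {G : Type*} [Group G] {n : ℕ} (S : Setup G n)

namespace Setup

/-- The centralizer as a cover. -/
noncomputable def cov : Cov n (centralizer ({S.z} : Set G)) where
  π := S.π
  range := S.range
  th := S.zc
  th_ne := S.zc_ne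
  th_sq := S.zc_sq
  th_comm := S.zc_comm
  ker := S.ker'
  nonsplit σ := by
    by_contra hcon
    simp only [not_exists, not_not] at hcon
    have hz : ∀ x : centralizer ({S.z} : Set G),
        x ∈ (zpowers S.z).subgroupOf (centralizer ({S.z} : Set G)) → S.π x = 1 := by
      intro x hx
      obtain ⟨k, hk⟩ := mem_zpowers_iff.1 (mem_subgroupOf.1 hx)
      rw [show x = S.zc ^ k from Subtype.ext (by rw [SubgroupClass.coe_zpow]; exact hk.symm), map_zpow,
        S.π_zc, one_zpow]
    refine S.nonsplit σ.range (isComplement'_of_disjoint_and_mul_eq_univ ?_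
      (Set.eq_univ_of_forall fun u => ?_))
    · rw [disjoint_iff, eq_bot_iff]
      rintro h ⟨hh, g, rfl⟩
      have : g = 1 := Subtype.ext ((hcon g).symm.trans (hz _ hh))
      rw [this, map_one]; exact one_mem _
    · have hu : S.π u ∈ alternatingGroup (Fin n) := S.range ▸ ⟨u, rfl⟩
      refine ⟨u * (σ ⟨S.π u, hu⟩)⁻¹, ?_, σ ⟨S.π u, hu⟩, ⟨_, rfl⟩, inv_mul_cancel_right u _⟩
      rcases (S.ker' (u * (σ ⟨S.π u, hu⟩)⁻¹)).1 (by rw [map_mul, map_inv, hcon, mul_inv_cancel]) with
        e | e <;> rw [e]
      exacts [one_mem _, mem_subgroupOf.2 (mem_zpowers S.z)]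

variable [Finite G]

/-- Double transpositions lift to elements squaring to the central involution. -/
theorem sq_two {a b c d : Fin n} (h : [a, b, c, d].Nodup) {x : centralizer ({S.z} : Set G)}
    (hx : S.π x = swap a b * swap c d) : x * x = S.zc :=
  S.cov.sq_DT (h := x) ⟨a, b, c, d, h, hx⟩

/-- Lifts of even permutations with disjoint supports commute. -/
theorem commute_disjoint {x y : centralizer ({S.z} : Set G)} (h : Perm.Disjoint (S.π x) (S.π y)) :
    Commute x y :=
  S.cov.commute_disjoint h

/-- A lift of an involution moving `4 k` points squares to the `k`-th power of the central involution. -/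
theorem sq_support {k : ℕ} {x : centralizer ({S.z} : Set G)} (h : S.π x * S.π x = 1)
    (hs : (S.π x).support.card = 4 * k) : x * x = S.zc ^ k :=
  S.cov.sq_support k h hs

/-- Lifts of commuting involutions commute exactly when the squares of the two and of the product
multiply to one. -/
theorem mul_eq {x y : centralizer ({S.z} : Set G)} (hx : S.π x * S.π x = 1) (hy : S.π y * S.π y = 1)
    (hxy : S.π x * S.π y = S.π y * S.π x) :
    x * y = y * x * (x * y * (x * y) * (x * x) * (y * y)) :=
  S.cov.mul_eq hx hy hxy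

/-- The commutation rule with the numbers of moved points. -/
theorem mul_eq_pow {i j k : ℕ} {x y : centralizer ({S.z} : Set G)} (hx : S.π x * S.π x = 1)
    (hy : S.π y * S.π y = 1) (hxy : S.π x * S.π y = S.π y * S.π x)
    (hi : (S.π x).support.card = 4 * i) (hj : (S.π y).support.card = 4 * j)
    (hk : (S.π x * S.π y).support.card = 4 * k) : x * y = y * x * S.zc ^ (k + i + j) := by
  have h2 : S.π (x * y) * S.π (x * y) = 1 := by
    rw [map_mul, mul_assoc, ← mul_assoc (S.π y), ← hxy, mul_assoc, hy, mul_one, hx]
  have := S.mul_eq hx hy hxy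
  rwa [S.sq_support h2 (by rw [map_mul]; exact hk), S.sq_support hx hi, S.sq_support hy hj, ← pow_add,
    ← pow_add] at this

/-- `(a b)(c d)` and `(a c)(b d)` lift to anticommuting elements. -/
theorem anti_klein {a b c d : Fin n} (h : [a, b, c, d].Nodup) {x y : centralizer ({S.z} : Set G)}
    (hx : S.π x = swap a b * swap c d) (hy : S.π y = swap a c * swap b d) :
    x * y = y * x * S.zc := by
  have hn := h
  simp only [List.nodup_cons, List.mem_cons, List.not_mem_nil, or_false, not_or] at hn
  obtain ⟨⟨n1, n2, n3⟩, ⟨n4, n5⟩, n6, -⟩ := hn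
  have h' : [a, c, b, d].Nodup := by simp [List.nodup_cons, *, Ne.symm]
  have h'' : [a, d, b, c].Nodup := by simp [List.nodup_cons, *, Ne.symm]
  have e1 : swap a b * swap c d * (swap a c * swap b d) = swap a d * swap b c ∧
      swap a c * swap b d * (swap a b * swap c d) = swap a d * swap b c := by
    constructor <;> refine Equiv.ext fun w => ?_ <;>
      rcases eq_or_ne w a with rfl | g1 <;> rcases eq_or_ne w b with rfl | g2 <;>
      rcases eq_or_ne w c with rfl | g3 <;> rcases eq_or_ne w d with rfl | g4 <;>
      simp_all [swap_apply_of_ne_of_ne, Ne.symm]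
  have hxy : S.π (x * y) = swap a d * swap b c := by rw [map_mul, hx, hy, e1.1]
  have hsq := fun (u : Perm (Fin n)) (hu : DT u) => hu.sq
  have := S.mul_eq (x := x) (y := y) (by rw [hx]; exact hsq _ ⟨_, _, _, _, h, rfl⟩)
    (by rw [hy]; exact hsq _ ⟨_, _, _, _, h', rfl⟩) (by rw [hx, hy, e1.1, e1.2])
  rwa [S.sq_two h'' hxy, S.sq_two h hx, S.sq_two h' hy, S.zc_sq, one_mul] at this

/-- `(a b)(c d)` and `(a b)(e f)` lift to anticommuting elements. -/
theorem anti_share {a b c d e f : Fin n} (h : [a, b, c, d, e, f].Nodup)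
    {x y : centralizer ({S.z} : Set G)}
    (hx : S.π x = swap a b * swap c d) (hy : S.π y = swap a b * swap e f) :
    x * y = y * x * S.zc := by
  have hn := h
  simp only [List.nodup_cons, List.mem_cons, List.not_mem_nil, or_false, not_or] at hn
  have h1 : [a, b, c, d].Nodup := by simp [List.nodup_cons, hn]
  have h2 : [a, b, e, f].Nodup := by simp [List.nodup_cons, hn]
  have h3 : [c, d, e, f].Nodup := by simp [List.nodup_cons, hn]
  have c1 := (Perm.disjoint_swap_swap h1).commute.eq
  have c2 := (Perm.disjoint_swap_swap h2).commute.eq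
  have c3 := (Perm.disjoint_swap_swap h3).commute.eq
  have e1 : swap a b * swap c d * (swap a b * swap e f) = swap c d * swap e f ∧
      swap a b * swap e f * (swap a b * swap c d) = swap c d * swap e f := by
    constructor
    · rw [c1, mul_assoc, ← mul_assoc (swap a b), swap_mul_self, one_mul]
    · rw [c2, mul_assoc, ← mul_assoc (swap a b), swap_mul_self, one_mul, c3]
  have hxy : S.π (x * y) = swap c d * swap e f := by rw [map_mul, hx, hy, e1.1]
  have hsq := fun (u : Perm (Fin n)) (hu : DT u) => hu.sq
  have := S.mul_eq (x := x) (y := y) (by rw [hx]; exact hsq _ ⟨_, _, _, _, h1, rfl⟩)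
    (by rw [hy]; exact hsq _ ⟨_, _, _, _, h2, rfl⟩) (by rw [hx, hy, e1.1, e1.2])
  rwa [S.sq_two h3 hxy, S.sq_two h1 hx, S.sq_two h2 hy, S.zc_sq, one_mul] at this

end Setup

end CfsgLib.Recog.DoubleAlt
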