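import Cfsg.Agent.Lib.Recog.DoubleAlt.NineCore

/-!
The subgroups `Az, Au, Aw` of `C(x)`, their symmetries, and the lemma that `c` cannot centralize
both `Au` and `Aw`.
-/

set_option autoImplicit false
set_option linter.unusedSectionVars false

namespace CfsgLib.Recog.DoubleAlt

open Subgroup

variable {G : Type*} [Group G] [Finite G]

theorem map_inf_centralizer (A B : Subgroup G) (φ : G ≃* G) :
    (A ⊓ centralizer (B : Set G)).map φ.toMonoidHom =
      A.map φ.toMonoidHom ⊓ centralizer (B.map φ.toMonoidHom : Set G) := by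
  ext g
  constructor
  · rintro ⟨h, ⟨hA, hB⟩, rfl⟩
    refine ⟨⟨h, hA, rfl⟩, mem_centralizer_iff.2 ?_⟩
    rintro _ ⟨y, hy, rfl⟩
    simp only [MulEquiv.toMonoidHom_eq_coe, MonoidHom.coe_coe, ← map_mul, mem_centralizer_iff.1 hB y hy]
  · rintro ⟨⟨h, hA, rfl⟩, hC⟩
    refine ⟨h, ⟨hA, mem_centralizer_iff.2 fun y hy => φ.injective ?_⟩, rfl⟩
    have := mem_centralizer_iff.1 hC _ ⟨y, hy, rfl⟩
    simpa using this

namespace NineData

variable (N : NineData G)

theorem mem_T_of_odd {g : G} (hg : Odd (orderOf g)) (hz : g * N.z = N.z * g)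
    (hx : g * N.x = N.x * g) : g ∈ N.T := by
  obtain ⟨t, ht, h⟩ := N.cent_x g hz hx
  have ha : ∀ {h : G}, h ∈ N.T → N.u * h * N.u ∈ N.T := by
    intro h hh
    obtain ⟨i, y, hy, rfl⟩ := N.T_decomp hh
    have e : N.u * (N.x ^ i * y) * N.u = N.x ^ i * (N.u * y * N.u) := by
      rw [← mul_assoc, ((show Commute N.u N.x from N.ux).pow_right i).eq]; group
    rw [e, N.u_Az hy]
    exact mul_mem (pow_mem N.x_mem i) (inv_mem (N.Az_le hy))
  refine mem_of_sq_mem hg ?_
  rcases h with rfl | rfl | rfl | rfl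
  · exact mul_mem ht ht
  · rw [show t * N.z * (t * N.z) = t * (N.z * t) * N.z by group, N.zT ht,
      show t * (t * N.z) * N.z = t * t * (N.z * N.z) by group, N.z_sq, mul_one]
    exact mul_mem ht ht
  · rw [show t * N.u * (t * N.u) = t * (N.u * t * N.u) by group]
    exact mul_mem ht (ha ht)
  · have e : t * (N.u * N.z) * (t * (N.u * N.z)) = t * (N.u * t * N.u) := by
      calc t * (N.u * N.z) * (t * (N.u * N.z)) = t * N.u * (N.z * t) * (N.u * N.z) := by group
        _ = t * N.u * t * (N.z * N.u) * N.z := by rw [N.zT ht]; group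
        _ = t * (N.u * t * N.u) * (N.z * N.z) := by rw [N.zu]; group
        _ = _ := by rw [N.z_sq, mul_one]
    rw [e]
    exact mul_mem ht (ha ht)

/-- `Az` consists of the elements of odd order of `C(x, z)` inverted by `u`. -/
theorem mem_Az_iff {h : G} : h ∈ N.Az ↔
    Odd (orderOf h) ∧ h * N.x = N.x * h ∧ h * N.z = N.z * h ∧ N.u * h * N.u = h⁻¹ := by
  constructor
  · intro hh
    have hT := N.Az_le hh
    exact ⟨odd_order_of_cube (N.cube hT), N.T_comm hT N.x_mem, (N.zT hT).symm, N.u_Az hh⟩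
  · rintro ⟨ho, hx, hz, hu⟩
    obtain ⟨i, y, hy, rfl⟩ := N.T_decomp (N.mem_T_of_odd ho hz hx)
    have e : N.u * (N.x ^ i * y) * N.u = N.x ^ i * (N.u * y * N.u) := by
      rw [← mul_assoc, ((show Commute N.u N.x from N.ux).pow_right i).eq]; group
    rw [e, N.u_Az hy, mul_inv_rev] at hu
    have hxi : N.x ^ i * N.x ^ i = 1 := by
      have h1 : N.x ^ i * y⁻¹ = (N.x ^ i)⁻¹ * y⁻¹ :=
        hu.trans (N.T_comm (inv_mem (N.Az_le hy)) (inv_mem (pow_mem N.x_mem i)))
      nth_rewrite 2 [mul_right_cancel h1]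
      exact mul_inv_cancel _
    rw [N.sq_eq_one (pow_mem N.x_mem i) hxi, one_mul]
    exact hy

theorem r_uz : N.r * (N.u * N.z) = N.z * N.r := by
  calc N.r * (N.u * N.z) = N.r * N.u * N.z := by group
    _ = N.u * N.z * (N.r * N.z) := by rw [N.ru]; group
    _ = N.u * (N.z * N.u) * N.r := by rw [N.rz]; group
    _ = N.u * N.u * (N.z * N.r) := by rw [N.zu]; group
    _ = N.z * N.r := by rw [N.u_sq, one_mul]

theorem rxc : N.r * N.x = N.x * N.r := N.rx

theorem uz_comm_z : N.u * N.z * N.z = N.z * (N.u * N.z) := by rw [← mul_assoc, N.zu]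

/-- If `h` commutes with one of three involutions and is inverted by a second, the third inverts it. -/
theorem invert_third {v w h : G} (hvv : v * v = 1) (hc : h * v = v * h) (hi : w * h * w = h⁻¹) :
    (w * v) * h * (v * w) = h⁻¹ := by
  calc w * v * h * (v * w) = w * (v * h) * v * w := by group
    _ = w * h * (v * v) * w := by rw [← hc]; group
    _ = h⁻¹ := by rw [hvv, mul_one, hi]

theorem mem_Au_iff {h : G} : h ∈ N.Au ↔
    Odd (orderOf h) ∧ h * N.x = N.x * h ∧ h * N.u = N.u * h ∧ N.z * h * N.z = h⁻¹ := by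
  constructor
  · rintro ⟨g, hg, rfl⟩
    obtain ⟨ho, hx, hz, hu⟩ := N.mem_Az_iff.1 hg
    simp only [MulEquiv.toMonoidHom_eq_coe, MonoidHom.coe_coe, MulAut.conj_apply]
    refine ⟨odd_order_conj ho, conj_commute N.rxc hx, conj_commute N.rz hz, ?_⟩
    have h1 := conj_invert N.ru hu
    have h2 := invert_third N.u_sq (conj_commute N.rz hz) h1
    rwa [show N.u * N.z * N.u = N.z by rw [mul_assoc, N.zu, ← mul_assoc, N.u_sq, one_mul],
      show N.u * (N.u * N.z) = N.z by rw [← mul_assoc, N.u_sq, one_mul]] at h2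
  · rintro ⟨ho, hx, hu, hz⟩
    refine ⟨N.r⁻¹ * h * N.r, ?_, by simp [mul_assoc]⟩
    have e1 : N.r⁻¹ * N.u = N.z * N.r⁻¹ := by rw [eq_mul_inv_iff_mul_eq, mul_assoc, ← N.rz, inv_mul_cancel_left]
    have e2 : N.r⁻¹ * (N.u * N.z) = N.u * N.r⁻¹ := by
      rw [eq_mul_inv_iff_mul_eq, mul_assoc, ← N.ru, inv_mul_cancel_left]
    have e3 : N.r⁻¹ * N.x = N.x * N.r⁻¹ := by rw [eq_mul_inv_iff_mul_eq, mul_assoc, ← N.rxc, inv_mul_cancel_left]
    have h3 : (N.u * N.z) * h * (N.u * N.z) = h⁻¹ := by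
      have := invert_third N.u_sq hu hz
      rwa [N.zu] at this
    rw [SetLike.mem_coe, N.mem_Az_iff]
    have c1 := conj_commute e3 hx
    have c2 := conj_commute e1 hu
    have c3 := conj_invert e2 h3
    simp only [inv_inv] at c1 c2 c3
    refine ⟨?_, c1, c2, c3⟩
    have := odd_order_conj (h := N.r⁻¹) ho
    rwa [inv_inv] at this

theorem mem_Aw_iff {h : G} : h ∈ N.Aw ↔
    Odd (orderOf h) ∧ h * N.x = N.x * h ∧ h * (N.u * N.z) = N.u * N.z * h ∧ N.z * h * N.z = h⁻¹ := by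
  constructor
  · rintro ⟨g, hg, rfl⟩
    obtain ⟨ho, hx, hu, hz⟩ := N.mem_Au_iff.1 hg
    simp only [MulEquiv.toMonoidHom_eq_coe, MonoidHom.coe_coe, MulAut.conj_apply]
    refine ⟨odd_order_conj ho, conj_commute N.rxc hx, conj_commute N.ru hu, ?_⟩
    have h1 := conj_invert N.rz hz
    have h2 := invert_third N.uz_sq (conj_commute N.ru hu) h1
    rwa [show N.u * (N.u * N.z) = N.z by rw [← mul_assoc, N.u_sq, one_mul],
      show N.u * N.z * N.u = N.z by rw [mul_assoc, N.zu, ← mul_assoc, N.u_sq, one_mul]] at h2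
  · rintro ⟨ho, hx, hw, hz⟩
    refine ⟨N.r⁻¹ * h * N.r, ?_, by simp [mul_assoc]⟩
    have e1 : N.r⁻¹ * (N.u * N.z) = N.u * N.r⁻¹ := by
      rw [eq_mul_inv_iff_mul_eq, mul_assoc, ← N.ru, inv_mul_cancel_left]
    have e2 : N.r⁻¹ * N.u = N.z * N.r⁻¹ := by rw [eq_mul_inv_iff_mul_eq, mul_assoc, ← N.rz, inv_mul_cancel_left]
    have e3 : N.r⁻¹ * N.x = N.x * N.r⁻¹ := by rw [eq_mul_inv_iff_mul_eq, mul_assoc, ← N.rxc, inv_mul_cancel_left]
    have h3 : N.u * h * N.u = h⁻¹ := by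
      have := invert_third N.uz_sq hw hz
      rwa [show N.z * (N.u * N.z) = N.u by rw [← mul_assoc, N.zu, mul_assoc, N.z_sq, mul_one],
        show N.u * N.z * N.z = N.u by rw [mul_assoc, N.z_sq, mul_one]] at this
    rw [SetLike.mem_coe, N.mem_Au_iff]
    have c1 := conj_commute e3 hx
    have c2 := conj_commute e1 hw
    have c3 := conj_invert e2 h3
    simp only [inv_inv] at c1 c2 c3
    refine ⟨?_, c1, c2, c3⟩
    have := odd_order_conj (h := N.r⁻¹) ho
    rwa [inv_inv] at this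

theorem card_map_conj (A : Subgroup G) (g : G) :
    Nat.card (A.map (MulAut.conj g).toMonoidHom) = Nat.card A :=
  card_map_of_injective (MulAut.conj g).injective

theorem map_r_Aw : N.Aw.map (MulAut.conj N.r).toMonoidHom = N.Az := by
  refine Subgroup.eq_of_le_of_card_ge ?_ (by rw [card_map_conj, Aw, card_map_conj, Au, card_map_conj])
  rintro _ ⟨h, hh, rfl⟩
  obtain ⟨ho, hx, hw, hz⟩ := N.mem_Aw_iff.1 hh
  simp only [MulEquiv.toMonoidHom_eq_coe, MonoidHom.coe_coe, MulAut.conj_apply]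
  rw [N.mem_Az_iff]
  exact ⟨odd_order_conj ho, conj_commute N.rxc hx, conj_commute N.r_uz hw, conj_invert N.rz hz⟩

theorem k_uz : N.k * (N.u * N.z) = N.u * N.k := by
  calc N.k * (N.u * N.z) = N.k * N.u * N.z := by group
    _ = N.u * N.z * (N.k * N.z) := by rw [N.ku]; group
    _ = N.u * (N.z * N.z) * N.k := by rw [N.kz]; group
    _ = N.u * N.k := by rw [N.z_sq, mul_one]

theorem k_x {h : G} (hx : h * N.x = N.x * h) :
    N.k * h * N.k⁻¹ * N.x = N.x * (N.k * h * N.k⁻¹) := by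
  have hkx : N.k * N.x = N.x⁻¹ * N.k := by
    calc N.k * (N.a * N.b) = N.k * N.a * N.b := by group
      _ = N.a⁻¹ * (N.k * N.b) := by rw [N.ka]; group
      _ = N.a⁻¹ * N.b⁻¹ * N.k := by rw [N.kb]; group
      _ = (N.a * N.b)⁻¹ * N.k := by
        rw [mul_inv_rev, ((show Commute N.a N.b from N.ab).inv_inv).eq]
  have h1 := conj_commute hkx hx
  have h2 := (show Commute (N.k * h * N.k⁻¹) N.x⁻¹ from h1).inv_right
  rwa [inv_inv] at h2

theorem map_k_Az : N.Az.map (MulAut.conj N.k).toMonoidHom = N.Az := by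
  refine Subgroup.eq_of_le_of_card_ge ?_ (by rw [card_map_conj])
  rintro _ ⟨h, hh, rfl⟩
  obtain ⟨ho, hx, hz, hu⟩ := N.mem_Az_iff.1 hh
  simp only [MulEquiv.toMonoidHom_eq_coe, MonoidHom.coe_coe, MulAut.conj_apply]
  rw [N.mem_Az_iff]
  refine ⟨odd_order_conj ho, k_x N hx, conj_commute N.kz hz, ?_⟩
  have h2 := invert_third N.z_sq (conj_commute N.kz hz) (conj_invert N.ku hu)
  rwa [show N.u * N.z * N.z = N.u by rw [mul_assoc, N.z_sq, mul_one],
    show N.z * (N.u * N.z) = N.u by rw [← mul_assoc, N.zu, mul_assoc, N.z_sq, mul_one]] at h2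

theorem map_k_Au : N.Au.map (MulAut.conj N.k).toMonoidHom = N.Aw := by
  refine Subgroup.eq_of_le_of_card_ge ?_ (by rw [card_map_conj, Aw, card_map_conj])
  rintro _ ⟨h, hh, rfl⟩
  obtain ⟨ho, hx, hu, hz⟩ := N.mem_Au_iff.1 hh
  simp only [MulEquiv.toMonoidHom_eq_coe, MonoidHom.coe_coe, MulAut.conj_apply]
  rw [N.mem_Aw_iff]
  exact ⟨odd_order_conj ho, k_x N hx, conj_commute N.ku hu, conj_invert N.kz hz⟩

theorem map_k_Aw : N.Aw.map (MulAut.conj N.k).toMonoidHom = N.Au := by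
  refine Subgroup.eq_of_le_of_card_ge ?_ (by rw [card_map_conj, Aw, card_map_conj])
  rintro _ ⟨h, hh, rfl⟩
  obtain ⟨ho, hx, hw, hz⟩ := N.mem_Aw_iff.1 hh
  simp only [MulEquiv.toMonoidHom_eq_coe, MonoidHom.coe_coe, MulAut.conj_apply]
  rw [N.mem_Au_iff]
  exact ⟨odd_order_conj ho, k_x N hx, conj_commute N.k_uz hw, conj_invert N.kz hz⟩

theorem a_eq : N.a = (N.x * N.d) ^ 2 := by
  have h1 : N.x * N.d = N.a * N.a := by
    show N.a * N.b * (N.a * N.b⁻¹) = N.a * N.a
    rw [show N.a * N.b = N.b * N.a from N.ab, mul_assoc, ← mul_assoc N.a N.a,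
      show N.a * N.a * N.b⁻¹ = N.b⁻¹ * (N.a * N.a) from
        ((show Commute N.a N.b from N.ab).inv_right.mul_left (show Commute N.a N.b from N.ab).inv_right).eq,
      mul_inv_cancel_left]
  rw [h1, ← pow_two, ← pow_mul, show 2 * 2 = 3 + 1 from rfl, pow_add, N.a3, pow_one, one_mul]

theorem b_eq : N.b = N.x * N.a ^ 2 := by
  have e : N.a * N.b * N.a ^ 2 = N.b * (N.a * N.a ^ 2) := by
    rw [N.ab, mul_assoc]
  show N.b = N.a * N.b * N.a ^ 2
  rw [e, ← pow_succ', N.a3, mul_one]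

/-- Elements of `Au` and `Aw` centralizing `d` commute. -/
theorem commute_pair {w t : G} (hw : w ∈ N.Au) (ht : t ∈ N.Aw) (hwd : w * N.d = N.d * w)
    (htd : t * N.d = N.d * t) : w * t = t * w := by
  obtain ⟨how, hwx, hwu, hwz⟩ := N.mem_Au_iff.1 hw
  obtain ⟨hot, htx, htu, htz⟩ := N.mem_Aw_iff.1 ht
  have hwa : w * N.a = N.a * w := by
    rw [N.a_eq]; exact (((show Commute w N.x from hwx).mul_right hwd).pow_right 2).eq
  have hta : t * N.a = N.a * t := by
    rw [N.a_eq]; exact (((show Commute t N.x from htx).mul_right htd).pow_right 2).eq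
  have htb : t * N.b = N.b * t := by
    rw [N.b_eq]; exact ((show Commute t N.x from htx).mul_right ((show Commute t N.a from hta).pow_right 2)).eq
  have hwb : w * N.b = N.b * w := by
    rw [N.b_eq]; exact ((show Commute w N.x from hwx).mul_right ((show Commute w N.a from hwa).pow_right 2)).eq
  obtain ⟨O, -, -, -, -, hO, hcomm⟩ := N.coreFacts (Or.inl rfl)
  obtain ⟨n, hn⟩ := hcomm w (hO w how hwa hwz) t (hO t hot hta htz)
  simp only [] at hn
  have htu' : N.u * t * N.u = t⁻¹ := by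
    have := invert_third N.uz_sq htu htz
    rwa [show N.z * (N.u * N.z) = N.u by rw [← mul_assoc, N.zu, mul_assoc, N.z_sq, mul_one],
      show N.u * N.z * N.z = N.u by rw [mul_assoc, N.z_sq, mul_one]] at this
  have hwu' : N.u * w * N.u = w := by rw [← hwu, mul_assoc, N.u_sq, mul_one]
  let φ := MulAut.conj N.u
  have hφ : ∀ g, φ g = N.u * g * N.u := fun g => by rw [MulAut.conj_apply, N.u_inv]
  have e1 : φ (w * t * w⁻¹ * t⁻¹) = w * t⁻¹ * w⁻¹ * t := by
    rw [map_mul, map_mul, map_mul, map_inv, map_inv, hφ w, hφ t, hwu', htu', inv_inv]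
  rw [← hn, map_zpow, hφ, N.ua] at e1
  -- `[w, t⁻¹] = [w, t]⁻¹`
  have e2 : w * t⁻¹ * w⁻¹ * t = (N.a ^ n)⁻¹ := by
    have h1 : w * t * w⁻¹ = N.a ^ n * t := by rw [hn]; group
    have h2 : w * t⁻¹ * w⁻¹ = t⁻¹ * (N.a ^ n)⁻¹ := by
      rw [← mul_inv_rev, ← h1]; group
    rw [h2, mul_assoc, ((show Commute t N.a from hta).zpow_right n).inv_right.symm.eq,
      inv_mul_cancel_left]
  rw [e2] at e1
  have h3 : N.a ^ n * N.b ^ n = 1 := by rw [e1, mul_inv_cancel]
  have hmod : ∀ p : G, p ^ 3 = 1 → p ^ n = p ^ (n % 3).toNat := fun p hp => by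
    rw [← zpow_natCast, Int.toNat_of_nonneg (Int.emod_nonneg n (by norm_num))]
    nth_rewrite 1 [← Int.mul_ediv_add_emod n 3]
    rw [zpow_add, zpow_mul, show p ^ (3 : ℤ) = p ^ 3 from zpow_natCast p 3, hp, one_zpow, one_mul]
  rw [hmod _ N.a3, hmod _ N.b3] at h3
  have h4 := (N.indep (n % 3).toNat (n % 3).toNat 0 (by rw [pow_zero, mul_one]; exact h3)).1
  rw [hmod _ N.a3] at hn
  obtain ⟨j, hj⟩ := h4
  rw [hj, pow_mul, N.a3, one_pow] at hn
  exact eq_mul_inv_iff_mul_eq.1 (mul_inv_eq_one.1 hn.symm).symm |>.symm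

theorem exists_mem_Au : ∃ w ∈ N.Au, w ≠ 1 :=
  ⟨MulAut.conj N.r N.d, ⟨N.d, N.d_mem_Az, rfl⟩, fun h =>
    N.d_ne ((MulAut.conj N.r).map_eq_one_iff.1 h)⟩

/-- An element of `C(z)` centralizing `Az` centralizes `x`. -/
theorem comm_x_of_Az {s : G} (hz : s * N.z = N.z * s) (h : ∀ y ∈ N.Az, s * y = y * s) :
    s * N.x = N.x * s :=
  N.cent_dc s hz (h _ N.d_mem_Az) (h _ N.c_mem_Az)

/-- `c` does not centralize both `Au` and `Aw`. -/
theorem false_of_c_commutes (hu : ∀ w ∈ N.Au, w * N.c = N.c * w)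
    (hw : ∀ w ∈ N.Aw, w * N.c = N.c * w) : False := by
  obtain ⟨O, hodd, hOc, hchar, hOz, hO, hcomm⟩ := N.coreFacts (Or.inr rfl)
  set H : Subgroup G := centralizer ({N.c} : Set G) with hH
  have hzN : N.z ∈ normalizer (H : Set G) := le_normalizer (mem_centralizer_singleton_iff.2 N.zc)
  have hucN : N.u ∈ normalizer (H : Set G) := by
    refine mem_normalizer_iff.2 fun g => ?_
    have key : ∀ g, g ∈ H → N.u * g * N.u⁻¹ ∈ H := by
      intro g hg
      rw [hH, mem_centralizer_singleton_iff] at hg ⊢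
      have e : N.u * N.c⁻¹ = N.c * N.u := by
        rw [← N.uc, ← mul_assoc, ← mul_assoc, N.u_sq, one_mul]
      exact conj_commute e ((show Commute g N.c from hg).inv_right).eq
    refine ⟨key g, fun h => ?_⟩
    have := key _ h
    rwa [N.u_inv, show N.u * (N.u * g * N.u) * N.u = N.u * N.u * g * (N.u * N.u) by group, N.u_sq,
      one_mul, mul_one] at this
  have hcomm' : ∀ v : G, v * v = 1 → v * N.c * v = N.c⁻¹ → ∀ o ∈ O, ∀ w ∈ O,
      o * v = v * o → w * v = v * w → o * w = w * o := by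
    intro v hv2 hvc o ho w hwO hov hwv
    obtain ⟨n, hn⟩ := hcomm o ho w hwO
    simp only [] at hn
    have e : v * (o * w * o⁻¹ * w⁻¹) * v = o * w * o⁻¹ * w⁻¹ := by
      have hc : Commute (o * w * o⁻¹ * w⁻¹) v :=
        (((show Commute o v from hov).mul_left hwv).mul_left (show Commute o v from hov).inv_left).mul_left
          (show Commute w v from hwv).inv_left
      rw [← hc.eq, mul_assoc, hv2, mul_one]
    have e2 : v * N.c ^ n * v = (N.c ^ n)⁻¹ := by
      have h1 : MulAut.conj v N.c = N.c⁻¹ := by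
        rw [MulAut.conj_apply, inv_eq_of_mul_eq_one_right hv2, hvc]
      have h2 := map_zpow (MulAut.conj v) N.c n
      rwa [h1, MulAut.conj_apply, inv_eq_of_mul_eq_one_right hv2, inv_zpow] at h2
    rw [← hn, e2] at e
    have h3 : N.c ^ n = 1 := eq_one_of_odd_sq (odd_order_of_cube (by
      rw [← zpow_natCast, ← zpow_mul, mul_comm, zpow_mul, zpow_natCast, N.c3, one_zpow]))
      (by nth_rewrite 1 [← e]; exact inv_mul_cancel _)
    rw [h3] at hn
    exact (mul_inv_eq_iff_eq_mul.1 ((mul_inv_eq_one.1 hn.symm)))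
  have hAu : ∀ w ∈ N.Au, w ∈ O := fun w hw' => by
    obtain ⟨h1, -, -, h4⟩ := N.mem_Au_iff.1 hw'
    exact hO w h1 (hu w hw') h4
  have hAw : ∀ w ∈ N.Aw, w ∈ O := fun w hw' => by
    obtain ⟨h1, -, -, h4⟩ := N.mem_Aw_iff.1 hw'
    exact hO w h1 (hw w hw') h4
  have hOx : O ≤ centralizer ({N.x} : Set G) := by
    refine InvChar.ComClosed.le_of_four hodd N.z_order N.u_order N.u_ne_z.symm N.zu ?_ ?_ ?_ ?_ ?_
    · refine mem_normalizer_iff.2 fun g => ⟨fun hg => hchar _ hzN g hg, fun hg => ?_⟩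
      have := hchar _ hzN _ hg
      rwa [N.z_inv, show N.z * (N.z * g * N.z) * N.z = N.z * N.z * g * (N.z * N.z) by group, N.z_sq,
        one_mul, mul_one] at this
    · refine mem_normalizer_iff.2 fun g => ⟨fun hg => hchar _ hucN g hg, fun hg => ?_⟩
      have := hchar _ hucN _ hg
      rwa [N.u_inv, show N.u * (N.u * g * N.u) * N.u = N.u * N.u * g * (N.u * N.u) by group, N.u_sq,
        one_mul, mul_one] at this
    · rintro o ⟨ho, hoz⟩
      obtain ⟨n, rfl⟩ := hOz o ho (mem_centralizer_singleton_iff.1 hoz)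
      exact mem_centralizer_singleton_iff.2
        ((show Commute N.c N.x from N.T_comm N.c_mem N.x_mem).zpow_left n).eq
    · rintro o ⟨ho, hou⟩
      have hou' := mem_centralizer_singleton_iff.1 hou
      have hs : ∀ y ∈ N.Az, (N.r⁻¹ * o * N.r) * y = y * (N.r⁻¹ * o * N.r) := by
        intro y hy
        have hy' : MulAut.conj N.r y ∈ N.Au := ⟨y, hy, rfl⟩
        have h := hcomm' N.u N.u_sq N.uc o ho _ (hAu _ hy') hou' (N.mem_Au_iff.1 hy').2.2.1
        rw [MulAut.conj_apply] at h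
        calc N.r⁻¹ * o * N.r * y = N.r⁻¹ * (o * (N.r * y * N.r⁻¹)) * N.r := by group
          _ = N.r⁻¹ * ((N.r * y * N.r⁻¹) * o) * N.r := by rw [h]
          _ = _ := by group
      have hsz : (N.r⁻¹ * o * N.r) * N.z = N.z * (N.r⁻¹ * o * N.r) := by
        have e : N.r⁻¹ * N.u = N.z * N.r⁻¹ := by
          rw [eq_mul_inv_iff_mul_eq, mul_assoc, ← N.rz, inv_mul_cancel_left]
        simpa only [inv_inv] using conj_commute e hou'
      have h := conj_commute N.rxc (N.comm_x_of_Az hsz hs)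
      rw [show N.r * (N.r⁻¹ * o * N.r) * N.r⁻¹ = o by group] at h
      exact mem_centralizer_singleton_iff.2 h
    · rintro o ⟨ho, hou⟩
      have hou' : o * (N.u * N.z) = N.u * N.z * o := by
        rw [← N.zu]; exact mem_centralizer_singleton_iff.1 hou
      have huzc : N.u * N.z * N.c * (N.u * N.z) = N.c⁻¹ := by
        calc N.u * N.z * N.c * (N.u * N.z) = N.u * (N.z * N.c) * N.u * N.z := by group
          _ = N.u * N.c * (N.z * N.u) * N.z := by rw [N.zc]; group
          _ = (N.u * N.c * N.u) * (N.z * N.z) := by rw [N.zu]; group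
          _ = _ := by rw [N.z_sq, mul_one, N.uc]
      have hs : ∀ y ∈ N.Az, ((N.r * N.r)⁻¹ * o * (N.r * N.r)) * y =
          y * ((N.r * N.r)⁻¹ * o * (N.r * N.r)) := by
        intro y hy
        have hy' : MulAut.conj N.r (MulAut.conj N.r y) ∈ N.Aw := ⟨_, ⟨y, hy, rfl⟩, rfl⟩
        have h := hcomm' _ N.uz_sq huzc o ho _ (hAw _ hy') hou' (N.mem_Aw_iff.1 hy').2.2.1
        simp only [MulAut.conj_apply] at h
        calc (N.r * N.r)⁻¹ * o * (N.r * N.r) * y
            = (N.r * N.r)⁻¹ * (o * (N.r * (N.r * y * N.r⁻¹) * N.r⁻¹)) * (N.r * N.r) := by group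
          _ = (N.r * N.r)⁻¹ * ((N.r * (N.r * y * N.r⁻¹) * N.r⁻¹) * o) * (N.r * N.r) := by rw [h]
          _ = _ := by group
      have hsz : ((N.r * N.r)⁻¹ * o * (N.r * N.r)) * N.z =
          N.z * ((N.r * N.r)⁻¹ * o * (N.r * N.r)) := by
        have e0 : N.r * N.r * N.z = N.u * N.z * (N.r * N.r) := by
          calc N.r * N.r * N.z = N.r * (N.r * N.z) := mul_assoc _ _ _
            _ = N.r * N.u * N.r := by rw [N.rz, mul_assoc]
            _ = N.u * N.z * N.r * N.r := by rw [N.ru]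
            _ = _ := mul_assoc _ _ _
        have e : (N.r * N.r)⁻¹ * (N.u * N.z) = N.z * (N.r * N.r)⁻¹ := by
          rw [eq_mul_inv_iff_mul_eq, mul_assoc, ← e0, inv_mul_cancel_left]
        simpa only [inv_inv] using conj_commute e hou'
      have h := conj_commute (show N.r * N.r * N.x = N.x * (N.r * N.r) by
        rw [mul_assoc, N.rxc, ← mul_assoc, N.rxc, mul_assoc]) (N.comm_x_of_Az hsz hs)
      rw [show N.r * N.r * ((N.r * N.r)⁻¹ * o * (N.r * N.r)) * (N.r * N.r)⁻¹ = o by group] at h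
      exact mem_centralizer_singleton_iff.2 h
  have hzO : N.z ∈ centralizer (O : Set G) := by
    refine (closure_le _).2 ?_ N.cov
    rintro _ ⟨g, hgz, hgc, rfl⟩
    refine mem_centralizer_iff.2 fun o ho => ?_
    have hg : g⁻¹ * o * g ∈ O := by
      have := hchar g⁻¹ (inv_mem (le_normalizer (mem_centralizer_singleton_iff.2 hgc))) o ho
      rwa [inv_inv] at this
    have h := mem_centralizer_singleton_iff.1 (hOx hg)
    calc o * (g * (N.a * N.b) * g⁻¹) = g * ((g⁻¹ * o * g) * N.x) * g⁻¹ := by rw [x]; group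
      _ = g * (N.x * (g⁻¹ * o * g)) * g⁻¹ := by rw [h]
      _ = _ := by rw [x]; group
  obtain ⟨w, hw', hw1⟩ := N.exists_mem_Au
  obtain ⟨ho, -, -, hzw⟩ := N.mem_Au_iff.1 hw'
  refine hw1 (eq_one_of_odd_sq ho ?_)
  have h := mem_centralizer_iff.1 hzO w (hAu w hw')
  rw [← h, mul_assoc, N.z_sq, mul_one] at hzw
  nth_rewrite 1 [hzw]
  exact inv_mul_cancel _

end NineData

end CfsgLib.Recog.DoubleAlt
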