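import Mathlib.GroupTheory.Subgroup.Centralizer
import Mathlib.GroupTheory.OrderOfElement
import Mathlib.Tactic

/-!
The local data of an involution with centralizer `2.A₉` used in the odd-local argument: the lifts
`a, b, c` of three disjoint 3-cycles, an involution `u` swapping two of them, a lift `k` exchanging
`u` and `u * z`, and an element `r` fixing `a * b` and rotating `z, u, u * z`.
-/

set_option autoImplicit false

namespace CfsgLib.Recog.DoubleAlt

open Subgroup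

variable {G : Type*} [Group G]

/-- The facts about `C(z) = 2.A₉` that are used. -/
structure NineData (G : Type*) [Group G] where
  z : G
  u : G
  a : G
  b : G
  c : G
  r : G
  k : G
  z_sq : z * z = 1
  z_ne : z ≠ 1
  u_sq : u * u = 1
  u_ne : u ≠ 1
  zu : z * u = u * z
  u_ne_z : u ≠ z
  a3 : a ^ 3 = 1
  b3 : b ^ 3 = 1
  c3 : c ^ 3 = 1
  za : z * a = a * z
  zb : z * b = b * z
  zc : z * c = c * z
  ab : a * b = b * a
  ac : a * c = c * a
  bc : b * c = c * b
  ua : u * a * u = b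
  uc : u * c * u = c⁻¹
  indep : ∀ i j l : ℕ, a ^ i * b ^ j * c ^ l = 1 → 3 ∣ i ∧ 3 ∣ j ∧ 3 ∣ l
  kz : k * z = z * k
  ku : k * u = u * z * k
  ka : k * a = a⁻¹ * k
  kb : k * b = b⁻¹ * k
  kc : k * c = c * k
  rx : r * (a * b) = a * b * r
  rz : r * z = u * r
  ru : r * u = u * z * r
  cent_x : ∀ g, g * z = z * g → g * (a * b) = a * b * g →
    ∃ t ∈ closure ({a, b, c} : Set G), g = t ∨ g = t * z ∨ g = t * u ∨ g = t * (u * z)
  cent_dc : ∀ g, g * z = z * g → g * (a * b⁻¹) = a * b⁻¹ * g → g * c = c * g →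
    g * (a * b) = a * b * g
  core : ∀ p, p = a ∨ p = c →
    (∀ i, i * i = 1 → i * z = z * i → i * p = p * i → i = 1 ∨ i = z) ∧
    ∀ H : Subgroup G, Odd (Nat.card H) → (∀ h ∈ H, h * z = z * h ∧ h * p = p * h) →
      (∀ g, g * z = z * g → g * p = p * g → ∀ h ∈ H, g * h * g⁻¹ ∈ H) → H ≤ zpowers p
  cov : z ∈ closure {y | ∃ g, g * z = z * g ∧ g * c = c * g ∧ y = g * (a * b) * g⁻¹}

namespace NineData

variable (N : NineData G)

/-- The element `a * b`. -/
def x : G := N.a * N.b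

/-- The element `a * b⁻¹`. -/
def d : G := N.a * N.b⁻¹

/-- The group `⟨a, b, c⟩`. -/
def T : Subgroup G := closure ({N.a, N.b, N.c} : Set G)

/-- The subgroup `⟨a * b⁻¹, c⟩` of `T` inverted by `u`. -/
def Az : Subgroup G := closure ({N.d, N.c} : Set G)

/-- The conjugate of `Az` fixed by `u`. -/
def Au : Subgroup G := N.Az.map (MulAut.conj N.r).toMonoidHom

/-- The conjugate of `Az` fixed by `u * z`. -/
def Aw : Subgroup G := N.Au.map (MulAut.conj N.r).toMonoidHom

theorem z_inv : N.z⁻¹ = N.z := inv_eq_of_mul_eq_one_right N.z_sq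

theorem u_inv : N.u⁻¹ = N.u := inv_eq_of_mul_eq_one_right N.u_sq

theorem uz_sq : N.u * N.z * (N.u * N.z) = 1 := by
  calc N.u * N.z * (N.u * N.z) = N.u * (N.z * N.u) * N.z := by group
    _ = N.u * N.u * (N.z * N.z) := by rw [N.zu]; group
    _ = 1 := by rw [N.u_sq, N.z_sq, one_mul]

theorem uz_inv : (N.u * N.z)⁻¹ = N.u * N.z := inv_eq_of_mul_eq_one_right N.uz_sq

theorem uz_ne : N.u * N.z ≠ 1 := fun h => N.u_ne_z (by rw [mul_eq_one_iff_eq_inv.1 h, N.z_inv])

theorem ub : N.u * N.b * N.u = N.a := by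
  rw [← N.ua]
  calc N.u * (N.u * N.a * N.u) * N.u = N.u * N.u * N.a * (N.u * N.u) := by group
    _ = N.a := by rw [N.u_sq, one_mul, mul_one]

theorem ux : N.u * N.x = N.x * N.u := by
  have h : N.u * N.x * N.u = N.x := by
    calc N.u * (N.a * N.b) * N.u = N.u * N.a * (N.u * N.u) * N.b * N.u := by rw [N.u_sq]; group
      _ = (N.u * N.a * N.u) * (N.u * N.b * N.u) := by group
      _ = N.a * N.b := by rw [N.ua, N.ub, N.ab]
  calc N.u * N.x = N.u * N.x * (N.u * N.u) := by rw [N.u_sq, mul_one]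
    _ = (N.u * N.x * N.u) * N.u := by group
    _ = N.x * N.u := by rw [h]

theorem zx : N.z * N.x = N.x * N.z := (Commute.mul_right N.za N.zb).eq

theorem a_mem : N.a ∈ N.T := subset_closure (by simp)
theorem b_mem : N.b ∈ N.T := subset_closure (by simp)
theorem c_mem : N.c ∈ N.T := subset_closure (by simp)
theorem x_mem : N.x ∈ N.T := mul_mem N.a_mem N.b_mem

/-- The elements of `T`. -/
theorem mem_T {g : G} : g ∈ N.T ↔ ∃ i j l : ℕ, g = N.a ^ i * N.b ^ j * N.c ^ l := by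
  constructor
  · intro hg
    induction hg using closure_induction with
    | mem g hg =>
      rcases hg with rfl | rfl | rfl
      · exact ⟨1, 0, 0, by simp⟩
      · exact ⟨0, 1, 0, by simp⟩
      · exact ⟨0, 0, 1, by simp⟩
    | one => exact ⟨0, 0, 0, by simp⟩
    | mul g h _ _ hg hh =>
      obtain ⟨i, j, l, rfl⟩ := hg
      obtain ⟨i', j', l', rfl⟩ := hh
      refine ⟨i + i', j + j', l + l', ?_⟩
      have h1 : Commute (N.c ^ l) (N.a ^ i' * N.b ^ j') :=
        (Commute.mul_right ((show Commute N.c N.a from N.ac.symm).pow_pow l i')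
          ((show Commute N.c N.b from N.bc.symm).pow_pow l j'))
      have h2 : Commute (N.b ^ j) (N.a ^ i') := (show Commute N.b N.a from N.ab.symm).pow_pow j i'
      rw [pow_add, pow_add, pow_add]
      calc N.a ^ i * N.b ^ j * N.c ^ l * (N.a ^ i' * N.b ^ j' * N.c ^ l')
          = N.a ^ i * N.b ^ j * (N.c ^ l * (N.a ^ i' * N.b ^ j')) * N.c ^ l' := by group
        _ = N.a ^ i * (N.b ^ j * N.a ^ i') * N.b ^ j' * N.c ^ l * N.c ^ l' := by rw [h1.eq]; group
        _ = _ := by rw [h2.eq]; group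
    | inv g _ hg =>
      obtain ⟨i, j, l, rfl⟩ := hg
      refine ⟨2 * i, 2 * j, 2 * l, ?_⟩
      have e : ∀ p : G, p ^ 3 = 1 → ∀ n : ℕ, p ^ (2 * n) = (p ^ n)⁻¹ := fun p hp n =>
        eq_inv_of_mul_eq_one_left (by rw [← pow_add, show 2 * n + n = 3 * n by ring, pow_mul, hp, one_pow])
      rw [e _ N.a3, e _ N.b3, e _ N.c3, mul_inv_rev, mul_inv_rev]
      have h1 : Commute (N.c ^ l)⁻¹ ((N.b ^ j)⁻¹) :=
        ((show Commute N.c N.b from N.bc.symm).pow_pow l j).inv_inv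
      have h2 : Commute (N.c ^ l)⁻¹ ((N.a ^ i)⁻¹) :=
        ((show Commute N.c N.a from N.ac.symm).pow_pow l i).inv_inv
      have h3 : Commute (N.b ^ j)⁻¹ ((N.a ^ i)⁻¹) :=
        ((show Commute N.b N.a from N.ab.symm).pow_pow j i).inv_inv
      rw [(h1.mul_right h2).eq, h3.eq]
  · rintro ⟨i, j, l, rfl⟩
    exact mul_mem (mul_mem (pow_mem N.a_mem i) (pow_mem N.b_mem j)) (pow_mem N.c_mem l)

theorem T_comm {g h : G} (hg : g ∈ N.T) (hh : h ∈ N.T) : g * h = h * g := by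
  have hT : N.T ≤ centralizer ({N.a, N.b, N.c} : Set G) := (closure_le _).2 (by
    rintro g (rfl | rfl | rfl) y (rfl | rfl | rfl)
    exacts [rfl, N.ab.symm, N.ac.symm, N.ab, rfl, N.bc.symm, N.ac, N.bc, rfl])
  have : N.T ≤ centralizer (N.T : Set G) := by
    rw [T, centralizer_closure]
    exact hT
  exact (mem_centralizer_iff.1 (this hg) h hh).symm

theorem cube {g : G} (hg : g ∈ N.T) : g ^ 3 = 1 := by
  obtain ⟨i, j, l, rfl⟩ := N.mem_T.1 hg
  have h : ∀ p : G, p ^ 3 = 1 → ∀ n : ℕ, (p ^ n) ^ 3 = 1 := fun p hp n => by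
    rw [← pow_mul, mul_comm, pow_mul, hp, one_pow]
  rw [Commute.mul_pow (N.T_comm (mul_mem (pow_mem N.a_mem i) (pow_mem N.b_mem j)) (pow_mem N.c_mem l)),
    Commute.mul_pow (N.T_comm (pow_mem N.a_mem i) (pow_mem N.b_mem j)), h _ N.a3, h _ N.b3, h _ N.c3,
    one_mul, one_mul]

theorem zT {g : G} (hg : g ∈ N.T) : N.z * g = g * N.z := by
  have : N.T ≤ centralizer ({N.z} : Set G) := (closure_le _).2 (by
    rintro g (rfl | rfl | rfl)
    exacts [mem_centralizer_singleton_iff.2 N.za.symm, mem_centralizer_singleton_iff.2 N.zb.symm,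
      mem_centralizer_singleton_iff.2 N.zc.symm])
  exact (mem_centralizer_singleton_iff.1 (this hg)).symm

theorem d_mem : N.d ∈ N.T := mul_mem N.a_mem (inv_mem N.b_mem)

theorem Az_le : N.Az ≤ N.T := (closure_le _).2 (by rintro g (rfl | rfl); exacts [N.d_mem, N.c_mem])

theorem d_mem_Az : N.d ∈ N.Az := subset_closure (by simp)
theorem c_mem_Az : N.c ∈ N.Az := subset_closure (by simp)

/-- The elements of `Az`. -/
theorem mem_Az {g : G} : g ∈ N.Az ↔ ∃ i l : ℕ, g = N.d ^ i * N.c ^ l := by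
  constructor
  · intro hg
    induction hg using closure_induction with
    | mem g hg =>
      rcases hg with rfl | rfl
      · exact ⟨1, 0, by simp⟩
      · exact ⟨0, 1, by simp⟩
    | one => exact ⟨0, 0, by simp⟩
    | mul g h _ _ hg hh =>
      obtain ⟨i, l, rfl⟩ := hg
      obtain ⟨i', l', rfl⟩ := hh
      refine ⟨i + i', l + l', ?_⟩
      have h1 : Commute (N.c ^ l) (N.d ^ i') :=
        N.T_comm (pow_mem N.c_mem l) (pow_mem N.d_mem i')
      rw [pow_add, pow_add]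
      calc N.d ^ i * N.c ^ l * (N.d ^ i' * N.c ^ l')
          = N.d ^ i * (N.c ^ l * N.d ^ i') * N.c ^ l' := by group
        _ = _ := by rw [h1.eq]; group
    | inv g _ hg =>
      obtain ⟨i, l, rfl⟩ := hg
      refine ⟨2 * i, 2 * l, ?_⟩
      have e : ∀ p ∈ N.T, ∀ n : ℕ, p ^ (2 * n) = (p ^ n)⁻¹ := fun p hp n =>
        eq_inv_of_mul_eq_one_left (by rw [← pow_add, show 2 * n + n = 3 * n by ring, pow_mul, N.cube hp, one_pow])
      rw [e _ N.d_mem, e _ N.c_mem, mul_inv_rev,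
        N.T_comm (inv_mem (pow_mem N.c_mem l)) (inv_mem (pow_mem N.d_mem i))]
  · rintro ⟨i, l, rfl⟩
    exact mul_mem (pow_mem N.d_mem_Az i) (pow_mem N.c_mem_Az l)

/-- `u` inverts `Az`. -/
theorem u_Az {g : G} (hg : g ∈ N.Az) : N.u * g * N.u = g⁻¹ := by
  induction hg using closure_induction with
  | mem g hg =>
    rcases hg with rfl | rfl
    · show N.u * (N.a * N.b⁻¹) * N.u = (N.a * N.b⁻¹)⁻¹
      have h : N.u * N.b⁻¹ * N.u = N.a⁻¹ := by
        rw [← N.ub, mul_inv_rev, mul_inv_rev, N.u_inv, mul_assoc]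
      calc N.u * (N.a * N.b⁻¹) * N.u = N.u * N.a * (N.u * N.u) * N.b⁻¹ * N.u := by rw [N.u_sq]; group
        _ = (N.u * N.a * N.u) * (N.u * N.b⁻¹ * N.u) := by group
        _ = _ := by rw [N.ua, h, mul_inv_rev, inv_inv]
    · exact N.uc
  | one => rw [mul_one, N.u_sq, inv_one]
  | mul g h hg' hh' hg hh =>
    calc N.u * (g * h) * N.u = N.u * g * (N.u * N.u) * h * N.u := by rw [N.u_sq]; group
      _ = (N.u * g * N.u) * (N.u * h * N.u) := by group
      _ = (g * h)⁻¹ := by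
        rw [hg, hh, ← mul_inv_rev, N.T_comm (N.Az_le hh') (N.Az_le hg')]
  | inv g _ hg =>
    rw [inv_inv]
    calc N.u * g⁻¹ * N.u = (N.u * g * N.u)⁻¹ := by rw [mul_inv_rev, mul_inv_rev, N.u_inv, mul_assoc]
      _ = g := by rw [hg, inv_inv]

/-- An element of `T` fixed by `u` is a power of `x`, and `T = ⟨x⟩ Az`. -/
theorem T_decomp {g : G} (hg : g ∈ N.T) : ∃ i : ℕ, ∃ y ∈ N.Az, g = N.x ^ i * y := by
  obtain ⟨i, j, l, rfl⟩ := N.mem_T.1 hg
  refine ⟨2 * i + 2 * j, N.d ^ (2 * i + j) * N.c ^ l, N.mem_Az.2 ⟨_, l, rfl⟩, ?_⟩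
  have hab : Commute N.a N.b := N.ab
  rw [← mul_assoc, x, d, hab.mul_pow, hab.inv_right.mul_pow]
  congr 1
  have e1 : N.a ^ (2 * i + 2 * j) * N.a ^ (2 * i + j) = N.a ^ i := by
    rw [← pow_add, show 2 * i + 2 * j + (2 * i + j) = i + 3 * (i + j) by ring, pow_add, pow_mul,
      N.a3, one_pow, mul_one]
  have e2 : N.b ^ (2 * i + 2 * j) * N.b⁻¹ ^ (2 * i + j) = N.b ^ j := by
    rw [inv_pow, show 2 * i + 2 * j = j + (2 * i + j) by ring, pow_add, mul_inv_cancel_right]
  calc N.a ^ i * N.b ^ j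
      = (N.a ^ (2 * i + 2 * j) * N.a ^ (2 * i + j)) * (N.b ^ (2 * i + 2 * j) * N.b⁻¹ ^ (2 * i + j)) := by
        rw [e1, e2]
    _ = N.a ^ (2 * i + 2 * j) * (N.a ^ (2 * i + j) * N.b ^ (2 * i + 2 * j)) * N.b⁻¹ ^ (2 * i + j) := by
        group
    _ = _ := by rw [(hab.pow_pow (2 * i + j) (2 * i + 2 * j)).eq]; group

theorem x_ne : N.x ≠ 1 := by
  intro h
  have := N.indep 1 1 0 (by rw [pow_one, pow_one, pow_zero, mul_one]; exact h)
  omega

theorem c_ne : N.c ≠ 1 := by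
  intro h
  have := N.indep 0 0 1 (by rw [pow_zero, pow_zero, pow_one, one_mul, one_mul]; exact h)
  omega

theorem d_ne : N.d ≠ 1 := by
  intro h
  have := N.indep 1 2 0 (by
    rw [pow_one, pow_zero, mul_one, show N.b ^ 2 = N.b⁻¹ from eq_inv_of_mul_eq_one_left
      (by rw [← pow_succ, N.b3])]
    exact h)
  omega

/-- `u` fixes only powers of `x` in `T`; in particular none but `1` in `Az`. -/
theorem sq_eq_one {g : G} (hg : g ∈ N.T) (h : g * g = 1) : g = 1 := by
  have := N.cube hg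
  rwa [show 3 = 2 + 1 from rfl, pow_succ, pow_two, h, one_mul] at this

end NineData

end CfsgLib.Recog.DoubleAlt
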