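import Mathlib.GroupTheory.Perm.Centralizer
import Mathlib.GroupTheory.SpecificGroups.Alternating.Simple
import Mathlib.Tactic

/-!
Permutations of nine points used for the double cover of the alternating group of degree nine.
-/

set_option autoImplicit false
set_option linter.style.haveILetI false

namespace CfsgLib.Recog.DoubleAlt.NinePerm

open Equiv

/-- `(0 2 4)` -/
def pa : Perm (Fin 9) := swap 0 4 * swap 0 2
/-- `(1 3 5)` -/
def pb : Perm (Fin 9) := swap 1 5 * swap 1 3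
/-- `(6 7 8)` -/
def pc : Perm (Fin 9) := swap 6 8 * swap 6 7
/-- `(0 1)(2 3)(4 5)(6 7)` -/
def pu : Perm (Fin 9) := swap 0 1 * swap 2 3 * (swap 4 5 * swap 6 7)
/-- `(2 4)(3 5)` -/
def pk : Perm (Fin 9) := swap 2 4 * swap 3 5
/-- `(2 5)(3 4)` -/
def pg : Perm (Fin 9) := swap 2 5 * swap 3 4

theorem apply_comm {σ p : Perm (Fin 9)} (h : σ * p = p * σ) (w : Fin 9) : σ (p w) = p (σ w) :=
  DFunLike.congr_fun h w

theorem apply_pow_comm {σ p : Perm (Fin 9)} (h : σ * p = p * σ) (i : ℕ) (w : Fin 9) :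
    σ ((p ^ i) w) = (p ^ i) (σ w) :=
  apply_comm (Commute.pow_right h i) w

theorem sign_facts : Perm.sign pa = 1 ∧ Perm.sign pb = 1 ∧ Perm.sign pc = 1 ∧ Perm.sign pu = 1 ∧
    Perm.sign pk = 1 ∧ Perm.sign pg = 1 := by decide +kernel

theorem pow_three : pa ^ 3 = 1 ∧ pb ^ 3 = 1 ∧ pc ^ 3 = 1 := by decide +kernel

/-- An even permutation fixing the first six points is a power of `pc`. -/
theorem fix_six {ρ : Perm (Fin 9)} (hs : Perm.sign ρ = 1) (hf : ∀ w : Fin 9, w.val < 6 → ρ w = w) :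
    ∃ l : ℕ, ρ = pc ^ l := by
  obtain ⟨l, hl⟩ : ∃ l : ℕ, (pc ^ l) 6 = ρ 6 := by
    have h0 : ∀ w : Fin 9, ¬ w.val < 6 → w = (pc ^ 0) 6 ∨ w = (pc ^ 1) 6 ∨ w = (pc ^ 2) 6 := by
      decide +kernel
    have hne : ¬ (ρ 6).val < 6 := fun e => absurd (ρ.injective (hf _ e)) fun e' => by
      rw [e'] at e; exact absurd e (by decide)
    rcases h0 _ hne with e | e | e <;> exact ⟨_, e.symm⟩
  set τ := (pc ^ l)⁻¹ * ρ with hτ
  have hfix : ∀ w : Fin 9, w.val < 6 → (pc ^ l) w = w := by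
    intro w hw
    refine Perm.pow_apply_eq_self_of_apply_eq_self ?_ l
    revert w; decide +kernel
  have h1 : ∀ w : Fin 9, w.val < 7 → τ w = w := by
    intro w hw
    rw [hτ, Perm.mul_apply, Perm.inv_eq_iff_eq]
    rcases (show w.val < 6 ∨ w = 6 by rw [Fin.ext_iff]; show w.val < 6 ∨ w.val = 6; omega) with e | e
    · rw [hf w e, hfix w e]
    · rw [e, hl]
  have hts : Perm.sign τ = 1 := by
    rw [hτ, map_mul, map_inv, map_pow, sign_facts.2.2.1, hs]; simp
  have h2 : ∀ w : Fin 9, w = τ 7 → w.val = 7 ∨ w.val = 8 := by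
    intro w hw
    by_contra hcon
    have hlt : w.val < 7 := by omega
    have := h1 w hlt
    rw [hw] at this
    exact absurd (congrArg Fin.val (τ.injective this)) (by rw [← hw]; show ¬ w.val = 7; omega)
  refine ⟨l, ?_⟩
  suffices τ = 1 by rw [hτ, inv_mul_eq_one] at this; exact this.symm
  rcases h2 _ rfl with e | e
  · ext w : 1
    rcases (show w.val < 7 ∨ w = 7 ∨ w = 8 by simp only [Fin.ext_iff]; show w.val < 7 ∨ w.val = 7 ∨ w.val = 8; omega) with g | g | g
    · exact h1 w g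
    · rw [g]; exact Fin.ext e
    · rw [g]
      have h8 : ∀ v : Fin 9, ¬ v.val < 7 → v ≠ 7 → v = 8 := by decide +kernel
      refine h8 _ (fun e' => absurd (τ.injective (h1 _ e')) fun e'' => by
        rw [e''] at e'; exact absurd e' (by decide)) fun e' => ?_
      rw [← (Fin.ext e : τ 7 = 7)] at e'
      exact absurd (τ.injective e') (by decide)
  · exfalso
    have hsw : τ = swap 7 8 := by
      ext w : 1
      rcases (show w.val < 7 ∨ w = 7 ∨ w = 8 by simp only [Fin.ext_iff]; show w.val < 7 ∨ w.val = 7 ∨ w.val = 8; omega) with g | g | g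
      · rw [h1 w g, swap_apply_of_ne_of_ne] <;> intro e' <;> rw [e'] at g <;> exact absurd g (by decide)
      · rw [g, swap_apply_left]; exact Fin.ext e
      · rw [g, swap_apply_right]
        have h8 : ∀ v : Fin 9, ¬ v.val < 7 → v ≠ 8 → v = 7 := by decide +kernel
        refine h8 _ (fun e' => absurd (τ.injective (h1 _ e')) fun e'' => by
          rw [e''] at e'; exact absurd e' (by decide)) fun e' => ?_
        exact absurd (τ.injective (e'.trans (Fin.ext e : τ 7 = 8).symm)) (by decide)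
    rw [hsw, Perm.sign_swap (by decide)] at hts
    exact absurd hts (by decide)

theorem cent_x {σ : Perm (Fin 9)} (hs : Perm.sign σ = 1) (h : σ * (pa * pb) = pa * pb * σ) :
    ∃ i j l : ℕ, σ = pa ^ i * pb ^ j * pc ^ l ∨ σ = pa ^ i * pb ^ j * pc ^ l * pu := by
  -- reduce `σ` step by step to the identity
  have key : ∀ τ : Perm (Fin 9), Perm.sign τ = 1 → τ * (pa * pb) = pa * pb * τ →
      (τ 0 = 0 ∨ τ 0 = 2 ∨ τ 0 = 4) →
      ∃ i j l : ℕ, τ = pa ^ i * pb ^ j * pc ^ l := by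
    intro τ hτs hτ hτ0
    obtain ⟨i, hi⟩ : ∃ i : ℕ, (pa ^ i) 0 = τ 0 := by
      rcases hτ0 with e | e | e <;> rw [e]
      exacts [⟨0, rfl⟩, ⟨1, by decide +kernel⟩, ⟨2, by decide +kernel⟩]
    obtain ⟨j, hj⟩ : ∃ j : ℕ, (pb ^ j) 1 = τ 1 := by
      have h0 : ∀ v w : Fin 9, (pa * pb) v ≠ v → v = 1 → ¬ (w = 0 ∨ w = 2 ∨ w = 4) → (pa * pb) w ≠ w →
          w = (pb ^ 0) 1 ∨ w = (pb ^ 1) 1 ∨ w = (pb ^ 2) 1 := by decide +kernel
      have hne : (pa * pb) (τ 1) ≠ τ 1 := by
        rw [← apply_comm hτ]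
        exact fun e => absurd (τ.injective e) (by decide +kernel)
      have hnot : ¬ (τ 1 = 0 ∨ τ 1 = 2 ∨ τ 1 = 4) := by
        intro e
        have h3 : ∀ k : ℕ, τ (((pa * pb) ^ k) 0) = ((pa * pb) ^ k) (τ 0) :=
          fun k => apply_pow_comm hτ k 0
        have h4 : ∀ v w : Fin 9, (v = 0 ∨ v = 2 ∨ v = 4) → (w = 0 ∨ w = 2 ∨ w = 4) →
            w = ((pa * pb) ^ 0) v ∨ w = ((pa * pb) ^ 1) v ∨ w = ((pa * pb) ^ 2) v := by decide +kernel
        rcases h4 _ _ hτ0 e with e' | e' | e' <;> rw [← h3] at e' <;>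
          exact absurd (τ.injective e') (by decide +kernel)
      rcases h0 1 (τ 1) (by decide +kernel) rfl hnot hne with e | e | e <;> exact ⟨_, e.symm⟩
    set ρ := (pa ^ i * pb ^ j)⁻¹ * τ with hρ
    have hcp : Commute (pa ^ i * pb ^ j) (pa * pb) := by
      have h1 : Commute pa pb := by unfold Commute SemiconjBy; decide +kernel
      exact ((((Commute.refl pa).mul_right h1)).pow_left i).mul_left
        ((h1.symm.mul_right (Commute.refl pb)).pow_left j)
    have hρc : ρ * (pa * pb) = pa * pb * ρ := (hcp.inv_left.mul_left hτ).eq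
    have hfix : (pb ^ j) 0 = 0 ∧ (pa ^ i) ((pb ^ j) 1) = (pb ^ j) 1 := by
      refine ⟨Perm.pow_apply_eq_self_of_apply_eq_self (by decide +kernel) j, ?_⟩
      refine Perm.pow_apply_eq_self_of_apply_eq_self ?_ i
      rw [apply_pow_comm (show pa * pb = pb * pa by decide +kernel) j,
        show pa 1 = 1 by decide +kernel]
    have e0 : ρ 0 = 0 := by
      rw [hρ, Perm.mul_apply, Perm.inv_eq_iff_eq, Perm.mul_apply, hfix.1, hi]
    have e1 : ρ 1 = 1 := by
      rw [hρ, Perm.mul_apply, Perm.inv_eq_iff_eq, Perm.mul_apply, hfix.2, hj]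
    have hρs : Perm.sign ρ = 1 := by
      rw [hρ, map_mul, map_inv, map_mul, map_pow, map_pow, sign_facts.1, sign_facts.2.1, hτs]
      simp
    have hlist : ∀ w : Fin 9, w.val < 6 → ∃ m < 3, w = ((pa * pb) ^ m) 0 ∨ w = ((pa * pb) ^ m) 1 := by
      decide +kernel
    obtain ⟨l, hl⟩ := fix_six hρs (fun w hw => by
      obtain ⟨m, -, e | e⟩ := hlist w hw <;> rw [e, apply_pow_comm hρc]
      exacts [by rw [e0], by rw [e1]])
    exact ⟨i, j, l, by rw [← hl, hρ, mul_inv_cancel_left]⟩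
  have hmem : (pa * pb) (σ 0) ≠ σ 0 := by
    rw [← apply_comm h]
    exact fun e => absurd (σ.injective e) (by decide +kernel)
  have h6 : ∀ w : Fin 9, (pa * pb) w ≠ w →
      (w = 0 ∨ w = 2 ∨ w = 4) ∨ (pu w = 0 ∨ pu w = 2 ∨ pu w = 4) := by decide +kernel
  rcases h6 _ hmem with e | e
  · obtain ⟨i, j, l, hl⟩ := key σ hs h e
    exact ⟨i, j, l, Or.inl hl⟩
  · have hu : Commute pu (pa * pb) := by unfold Commute SemiconjBy; decide +kernel
    obtain ⟨i, j, l, hl⟩ := key (pu * σ) (by rw [map_mul, sign_facts.2.2.2.1, hs, mul_one])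
      (hu.mul_left h).eq e
    have hσ : σ = pu * (pa ^ i * pb ^ j * pc ^ l) := by
      rw [← hl, ← mul_assoc, show pu * pu = 1 by decide +kernel, one_mul]
    have c1 : SemiconjBy pu pa pb := by unfold SemiconjBy; decide +kernel
    have c2 : SemiconjBy pu pb pa := by unfold SemiconjBy; decide +kernel
    have c3 : SemiconjBy pu pc (pc ^ 2) := by unfold SemiconjBy; decide +kernel
    have hab : Commute pa pb := by unfold Commute SemiconjBy; decide +kernel
    refine ⟨j, i, 2 * l, Or.inr ?_⟩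
    rw [hσ, (((c1.pow_right i).mul_right (c2.pow_right j)).mul_right (c3.pow_right l)).eq,
      ← pow_mul, (hab.symm.pow_pow i j).eq]

/-- An even permutation commuting with `pa * pb⁻¹` and `pc` commutes with `pa * pb`. -/
theorem cent_dc {σ : Perm (Fin 9)} (hs : Perm.sign σ = 1) (hd : σ * (pa * pb⁻¹) = pa * pb⁻¹ * σ)
    (hc : σ * pc = pc * σ) : σ * (pa * pb) = pa * pb * σ := by
  have h6 : ∀ w : Fin 9, w.val < 6 → (σ w).val < 6 := by
    intro w hw
    have h0 : ∀ v : Fin 9, v.val < 6 ↔ pc v = v := by decide +kernel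
    rw [h0, ← apply_comm hc, (h0 w).1 hw]
  obtain ⟨i, j, e0⟩ : ∃ i j : ℕ, (pa ^ i * pb ^ j) 0 = σ 0 ∨ (pa ^ i * pb ^ j) 1 = σ 0 := by
    have h0 : ∀ v : Fin 9, v.val < 6 →
        ((pa ^ 0 * pb ^ 0) 0 = v ∨ (pa ^ 0 * pb ^ 0) 1 = v) ∨
        ((pa ^ 1 * pb ^ 1) 0 = v ∨ (pa ^ 1 * pb ^ 1) 1 = v) ∨
        ((pa ^ 2 * pb ^ 2) 0 = v ∨ (pa ^ 2 * pb ^ 2) 1 = v) := by decide +kernel
    rcases h0 _ (h6 0 (by decide)) with e | e | e <;> exact ⟨_, _, e⟩
  have hab : Commute pa pb := by unfold Commute SemiconjBy; decide +kernel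
  have hpp : Commute (pa ^ i * pb ^ j) (pa * pb) :=
    ((((Commute.refl pa).mul_right hab)).pow_left i).mul_left
      ((hab.symm.mul_right (Commute.refl pb)).pow_left j)
  have hpd : Commute (pa ^ i * pb ^ j) (pa * pb⁻¹) :=
    ((((Commute.refl pa).mul_right hab.inv_right)).pow_left i).mul_left
      ((hab.symm.mul_right (Commute.refl pb).inv_right).pow_left j)
  set τ := (pa ^ i * pb ^ j)⁻¹ * σ with hτ
  have hτd : τ * (pa * pb⁻¹) = pa * pb⁻¹ * τ := (hpd.inv_left.mul_left hd).eq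
  suffices hf : ∃ k : ℕ, ∃ m : ℕ, τ = pb ^ k * pc ^ m by
    obtain ⟨k, m, e⟩ := hf
    have hbc : Commute pc pb := by unfold Commute SemiconjBy; decide +kernel
    have hac : Commute pc pa := by unfold Commute SemiconjBy; decide +kernel
    have h1 : Commute τ (pa * pb) := by
      rw [e]
      exact ((hab.symm.mul_right (Commute.refl pb)).pow_left k).mul_left
        ((hac.mul_right hbc).pow_left m)
    have h2 : σ = pa ^ i * pb ^ j * τ := by rw [hτ, mul_inv_cancel_left]
    rw [h2]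
    exact (hpp.mul_left h1).eq
  have hfix : ∀ w : Fin 9, ¬ w.val < 6 → (pa ^ i * pb ^ j) w = w := by
    intro w hw
    rw [Perm.mul_apply, Perm.pow_apply_eq_self_of_apply_eq_self _ j,
      Perm.pow_apply_eq_self_of_apply_eq_self _ i] <;> revert w <;> decide +kernel
  have t6 : ∀ w : Fin 9, w.val < 6 → (τ w).val < 6 := by
    intro w hw
    by_contra e
    have h2 := hfix _ e
    rw [hτ, Perm.mul_apply, ← hτ] at h2
    rw [← Perm.mul_apply] at h2
    have h3 : σ w = τ w := by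
      rw [← h2, hτ, ← Perm.mul_apply, mul_inv_cancel_left]
    exact e (h3 ▸ h6 w hw)
  have hts : Perm.sign τ = 1 := by
    rw [hτ, map_mul, map_inv, map_mul, map_pow, map_pow, sign_facts.1, sign_facts.2.1, hs]; simp
  have hd0 := apply_comm hτd
  rcases e0 with e0 | e0
  · -- the two cycles of `pa * pb⁻¹` are fixed
    have t0 : τ 0 = 0 := by rw [hτ, Perm.mul_apply, Perm.inv_eq_iff_eq, e0]
    have t2 : τ 2 = 2 := by
      have := hd0 0
      rw [t0, show (pa * pb⁻¹) 0 = 2 by decide +kernel] at this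
      exact this
    have t4 : τ 4 = 4 := by
      have := hd0 2
      rw [t2, show (pa * pb⁻¹) 2 = 4 by decide +kernel] at this
      exact this
    obtain ⟨k, hk⟩ : ∃ k : ℕ, (pb ^ k) 1 = τ 1 := by
      have h0 : ∀ v : Fin 9, v.val < 6 → v ≠ 0 → v ≠ 2 → v ≠ 4 →
          (pb ^ 0) 1 = v ∨ (pb ^ 1) 1 = v ∨ (pb ^ 2) 1 = v := by decide +kernel
      rcases h0 (τ 1) (t6 1 (by decide))
        (fun e => absurd (τ.injective (e.trans t0.symm)) (by decide))
        (fun e => absurd (τ.injective (e.trans t2.symm)) (by decide))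
        (fun e => absurd (τ.injective (e.trans t4.symm)) (by decide)) with e | e | e <;> exact ⟨_, e⟩
    have hbd : Commute pb (pa * pb⁻¹) := hab.symm.mul_right (Commute.refl pb).inv_right
    set ρ := (pb ^ k)⁻¹ * τ with hρ
    have hρd := apply_comm ((hbd.pow_left k).inv_left.mul_left hτd).eq
    have hb0 : ∀ w : Fin 9, (w = 0 ∨ w = 2 ∨ w = 4) → (pb ^ k) w = w := by
      intro w hw
      refine Perm.pow_apply_eq_self_of_apply_eq_self ?_ k
      revert w; decide +kernel
    have r1 : ρ 1 = 1 := by rw [hρ, Perm.mul_apply, Perm.inv_eq_iff_eq, hk]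
    have r5 : ρ 5 = 5 := by
      have := hρd 1
      rw [← hρ, r1, show (pa * pb⁻¹) 1 = 5 by decide +kernel] at this
      exact this
    have r3 : ρ 3 = 3 := by
      have := hρd 5
      rw [← hρ, r5, show (pa * pb⁻¹) 5 = 3 by decide +kernel] at this
      exact this
    have r0 : ρ 0 = 0 := by rw [hρ, Perm.mul_apply, Perm.inv_eq_iff_eq, t0, hb0 0 (by decide)]
    have r2 : ρ 2 = 2 := by rw [hρ, Perm.mul_apply, Perm.inv_eq_iff_eq, t2, hb0 2 (by decide)]
    have r4 : ρ 4 = 4 := by rw [hρ, Perm.mul_apply, Perm.inv_eq_iff_eq, t4, hb0 4 (by decide)]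
    have hlist : ∀ w : Fin 9, w.val < 6 → w = 0 ∨ w = 1 ∨ w = 2 ∨ w = 3 ∨ w = 4 ∨ w = 5 := by
      decide +kernel
    obtain ⟨m, hm⟩ := fix_six (ρ := ρ) (by rw [hρ, map_mul, map_inv, map_pow, sign_facts.2.1, hts]; simp)
      (fun w hw => by rcases hlist w hw with rfl | rfl | rfl | rfl | rfl | rfl <;> assumption)
    exact ⟨k, m, by rw [← hm, hρ, mul_inv_cancel_left]⟩
  · -- the exchange of the two cycles is odd
    exfalso
    have t0 : τ 0 = 1 := by rw [hτ, Perm.mul_apply, Perm.inv_eq_iff_eq, e0]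
    have t2 : τ 2 = 5 := by
      have := hd0 0
      rw [t0, show (pa * pb⁻¹) 0 = 2 by decide +kernel, show (pa * pb⁻¹) 1 = 5 by decide +kernel] at this
      exact this
    have t4 : τ 4 = 3 := by
      have := hd0 2
      rw [t2, show (pa * pb⁻¹) 2 = 4 by decide +kernel, show (pa * pb⁻¹) 5 = 3 by decide +kernel] at this
      exact this
    obtain ⟨k, hk⟩ : ∃ k : ℕ, (pa ^ k) 0 = τ 1 := by
      have h0 : ∀ v : Fin 9, v.val < 6 → v ≠ 1 → v ≠ 5 → v ≠ 3 →
          (pa ^ 0) 0 = v ∨ (pa ^ 1) 0 = v ∨ (pa ^ 2) 0 = v := by decide +kernel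
      rcases h0 (τ 1) (t6 1 (by decide))
        (fun e => absurd (τ.injective (e.trans t0.symm)) (by decide))
        (fun e => absurd (τ.injective (e.trans t2.symm)) (by decide))
        (fun e => absurd (τ.injective (e.trans t4.symm)) (by decide)) with e | e | e <;> exact ⟨_, e⟩
    have had : Commute pa (pa * pb⁻¹) := (Commute.refl pa).mul_right hab.inv_right
    let π₀ : Perm (Fin 9) := swap 0 1 * (swap 2 5 * swap 3 4)
    have hπd : Commute π₀ (pa * pb⁻¹) := by unfold Commute SemiconjBy; decide +kernel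
    set ρ := π₀ * ((pa ^ k)⁻¹ * τ) with hρ
    have hρd := apply_comm (hπd.mul_left ((had.pow_left k).inv_left.mul_left hτd)).eq
    have ha1 : ∀ w : Fin 9, (w = 1 ∨ w = 3 ∨ w = 5) → (pa ^ k) w = w := by
      intro w hw
      refine Perm.pow_apply_eq_self_of_apply_eq_self ?_ k
      revert w; decide +kernel
    have aux : ∀ v w : Fin 9, τ w = (pa ^ k) v → ρ w = π₀ v := fun v w e => by
      show π₀ (((pa ^ k)⁻¹) (τ w)) = π₀ v
      rw [e, show ((pa ^ k)⁻¹) ((pa ^ k) v) = v from (pa ^ k).symm_apply_apply v]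
    have r1 : ρ 1 = 1 := (aux 0 1 hk.symm).trans (by decide +kernel)
    have r5 : ρ 5 = 5 := by
      have := hρd 1
      rw [← hρ, r1, show (pa * pb⁻¹) 1 = 5 by decide +kernel] at this
      exact this
    have r3 : ρ 3 = 3 := by
      have := hρd 5
      rw [← hρ, r5, show (pa * pb⁻¹) 5 = 3 by decide +kernel] at this
      exact this
    have r0 : ρ 0 = 0 := (aux 1 0 (by rw [t0, ha1 1 (by decide)])).trans (by decide +kernel)
    have r2 : ρ 2 = 2 := (aux 5 2 (by rw [t2, ha1 5 (by decide)])).trans (by decide +kernel)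
    have r4 : ρ 4 = 4 := (aux 3 4 (by rw [t4, ha1 3 (by decide)])).trans (by decide +kernel)
    have hρs : Perm.sign ρ = -1 := by
      rw [hρ, map_mul, show Perm.sign π₀ = -1 by decide +kernel, map_mul, map_inv, map_pow,
        sign_facts.1, hts]
      simp
    -- correct the parity outside the six points
    have hlist : ∀ w : Fin 9, w.val < 6 → w = 0 ∨ w = 1 ∨ w = 2 ∨ w = 3 ∨ w = 4 ∨ w = 5 := by
      decide +kernel
    obtain ⟨m, hm⟩ := fix_six (ρ := swap 6 7 * ρ)
      (by rw [map_mul, hρs, Perm.sign_swap (by decide)]; simp)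
      (fun w hw => by
        rw [Perm.mul_apply]
        rcases hlist w hw with rfl | rfl | rfl | rfl | rfl | rfl <;>
          simp only [r0, r1, r2, r3, r4, r5] <;> decide +kernel)
    -- a permutation commuting with `pc` on the last three points is even there
    have hπc : Commute π₀ pc := by unfold Commute SemiconjBy; decide +kernel
    have hac : Commute pa pc := by unfold Commute SemiconjBy; decide +kernel
    have hbc : Commute pb pc := by unfold Commute SemiconjBy; decide +kernel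
    have hτc : Commute τ pc := ((hac.pow_left i).mul_left (hbc.pow_left j)).inv_left.mul_left hc
    have hρc : Commute ρ pc := hπc.mul_left ((hac.pow_left k).inv_left.mul_left hτc)
    have h1 : Commute (swap (6 : Fin 9) 7) pc := by
      have h2 : Commute (swap 6 7 * ρ) pc := by rw [hm]; exact (Commute.refl pc).pow_left m
      simpa using h2.mul_left hρc.inv_left
    exact absurd h1.eq (by decide +kernel)

/-- An involution commuting with a 3-cycle fixes the points it moves. -/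
theorem invol_fix {σ p : Perm (Fin 9)} {x₀ : Fin 9} (hp0 : p x₀ ≠ x₀) (hp00 : p (p x₀) ≠ x₀)
    (horb : ∀ w, p w ≠ w → w = x₀ ∨ w = p x₀ ∨ w = p (p x₀)) (hp3 : p (p (p x₀)) = x₀)
    (h2 : σ * σ = 1) (hc : σ * p = p * σ) : ∀ w, p w ≠ w → σ w = w := by
  have h0 : σ x₀ = x₀ := by
    have hm : p (σ x₀) ≠ σ x₀ := by
      rw [← apply_comm hc]; exact fun e => hp0 (σ.injective e)
    have hs : σ (σ x₀) = x₀ := DFunLike.congr_fun h2 x₀
    rcases horb _ hm with e | e | e
    · exact e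
    · rw [e, apply_comm hc, e] at hs
      exact absurd hs hp00
    · rw [e, apply_comm hc, apply_comm hc, e] at hs
      rw [hp3] at hs
      exact absurd hs hp0
  intro w hw
  rcases horb w hw with rfl | rfl | rfl
  · exact h0
  · rw [apply_comm hc, h0]
  · rw [apply_comm hc, apply_comm hc, h0]

/-- An odd-order normal subgroup of the centralizer of a 3-cycle consists of its powers. -/
theorem odd_normal {p : Perm (Fin 9)} {x₀ : Fin 9} (hp0 : p x₀ ≠ x₀)
    (horb : ∀ w, p w ≠ w → w = x₀ ∨ w = p x₀ ∨ w = p (p x₀))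
    (hfix : 5 ≤ Nat.card {w : Fin 9 // p w = w}) (K : Subgroup (Perm (Fin 9)))
    (hodd : Odd (Nat.card K)) (hK : ∀ σ ∈ K, Perm.sign σ = 1 ∧ σ * p = p * σ)
    (hn : ∀ τ, Perm.sign τ = 1 → τ * p = p * τ → ∀ σ ∈ K, τ * σ * τ⁻¹ ∈ K) :
    ∀ σ ∈ K, ∃ i : ℕ, σ = p ^ i := by
  haveI : IsSimpleGroup (alternatingGroup {w : Fin 9 // p w = w}) :=
    alternatingGroup.isSimpleGroup hfix
  haveI : Nontrivial {w : Fin 9 // p w = w} :=
    (Finite.one_lt_card_iff_nontrivial).1 (lt_of_lt_of_le (by norm_num) hfix)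
  let f : alternatingGroup {w : Fin 9 // p w = w} →* Perm (Fin 9) :=
    Perm.ofSubtype.comp (alternatingGroup {w : Fin 9 // p w = w}).subtype
  have hfs : ∀ τ, Perm.sign (f τ) = 1 := fun τ =>
    (Perm.sign_ofSubtype (τ : Perm {w : Fin 9 // p w = w})).trans (Perm.mem_alternatingGroup.1 τ.2)
  have hfm : ∀ τ w, p w ≠ w → f τ w = w := fun τ w hw =>
    Perm.ofSubtype_apply_of_not_mem (τ : Perm {w : Fin 9 // p w = w}) hw
  have hfc : ∀ τ, f τ * p = p * f τ := by
    intro τ
    refine Equiv.ext fun w => ?_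
    show f τ (p w) = p (f τ w)
    by_cases hw : p w = w
    · rw [hw]
      exact ((Perm.ofSubtype_apply_mem_iff_mem (τ : Perm {w : Fin 9 // p w = w}) w).2 hw).symm
    · rw [hfm τ w hw, hfm τ (p w) (fun e => hw (p.injective e))]
  have hN : (K.comap f).Normal := ⟨fun a ha b => by
    rw [Subgroup.mem_comap] at ha ⊢
    rw [map_mul, map_mul, map_inv]
    exact hn _ (hfs b) (hfc b) _ ha⟩
  have hinj : Function.Injective f := fun a b h =>
    Subtype.ext (Perm.ofSubtype_injective h)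
  have hbot : K.comap f = ⊥ := by
    refine (hN.eq_bot_or_eq_top).resolve_right fun htop => ?_
    have hd : Nat.card (alternatingGroup {w : Fin 9 // p w = w}) ∣ Nat.card K := by
      refine Subgroup.card_dvd_of_injective (f.codRestrict K fun a => ?_) (fun a b h => hinj
        (congrArg Subtype.val h))
      exact Subgroup.mem_comap.1 (htop ▸ Subgroup.mem_top a)
    have h2 := two_mul_nat_card_alternatingGroup (α := {w : Fin 9 // p w = w})
    rw [Nat.card_perm] at h2
    have h4 : 4 ∣ 2 * Nat.card (alternatingGroup {w : Fin 9 // p w = w}) := by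
      rw [h2]
      exact (Nat.dvd_factorial (by norm_num) (by omega))
    have h2' : 2 ∣ Nat.card (alternatingGroup {w : Fin 9 // p w = w}) :=
      Nat.dvd_of_mul_dvd_mul_left (by norm_num) (show 2 * 2 ∣ 2 * _ from h4)
    exact Nat.not_even_iff_odd.2 hodd (even_iff_two_dvd.2 (h2'.trans hd))
  intro σ hσ
  obtain ⟨hσs, hσc⟩ := hK σ hσ
  have hpres : ∀ w, p w = w ↔ p (σ w) = σ w := fun w => by
    rw [← apply_comm hσc]; exact σ.injective.eq_iff.symm
  have hcomm : ∀ τ, f τ * σ = σ * f τ := by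
    intro τ
    have hmem : σ * f τ * σ⁻¹ * (f τ)⁻¹ ∈ K := by
      rw [show σ * f τ * σ⁻¹ * (f τ)⁻¹ = σ * (f τ * σ⁻¹ * (f τ)⁻¹) by group]
      exact K.mul_mem hσ (hn _ (hfs τ) (hfc τ) _ (K.inv_mem hσ))
    set ρ := σ * f τ * σ⁻¹ * (f τ)⁻¹ with hρ
    have hρs : Perm.sign ρ = 1 := (hK ρ hmem).1
    have hρm : ∀ w, ρ w ≠ w → p w = w := by
      intro w hw
      by_contra hcon
      refine hw ?_
      rw [hρ, Perm.mul_apply, Perm.mul_apply, Perm.mul_apply]
      have h1 : (f τ)⁻¹ w = w := by rw [Perm.inv_eq_iff_eq, hfm τ w hcon]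
      rw [h1, hfm τ]
      · exact σ.apply_symm_apply w
      · intro e
        have h3 := (hpres (σ⁻¹ w)).1 e
        rw [show σ (σ⁻¹ w) = w from σ.apply_symm_apply w] at h3
        exact hcon h3
    have hρp : ∀ w, p (ρ w) = ρ w ↔ p w = w := fun w => by
      rw [← apply_comm (hK ρ hmem).2]; exact ρ.injective.eq_iff
    let ρ' : alternatingGroup {w : Fin 9 // p w = w} := ⟨Perm.subtypePerm ρ hρp, by
      rw [Perm.mem_alternatingGroup, ← Perm.sign_ofSubtype, Perm.ofSubtype_subtypePerm hρp hρm]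
      exact hρs⟩
    have h5 : f ρ' = ρ := Perm.ofSubtype_subtypePerm hρp hρm
    have h6 : ρ' ∈ K.comap f := by rw [Subgroup.mem_comap, h5]; exact hmem
    rw [hbot, Subgroup.mem_bot] at h6
    rw [h6, map_one] at h5
    exact (mul_inv_eq_iff_eq_mul.1 (mul_inv_eq_one.1 h5.symm)).symm
  have hfix' : ∀ w, p w = w → σ w = w := by
    intro w hw
    by_contra hne
    have hcard : 5 ≤ Fintype.card {w : Fin 9 // p w = w} := by rwa [← Nat.card_eq_fintype_card]
    obtain ⟨y, -, hy⟩ : ∃ y ∈ (Finset.univ : Finset {w : Fin 9 // p w = w}),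
        y ∉ ({⟨w, hw⟩, ⟨σ w, (hpres w).1 hw⟩} : Finset _) := by
      refine Finset.exists_mem_notMem_of_card_lt_card ?_
      rw [Finset.card_univ]
      exact lt_of_le_of_lt Finset.card_le_two (by omega)
    obtain ⟨y', -, hy'⟩ : ∃ y' ∈ (Finset.univ : Finset {w : Fin 9 // p w = w}),
        y' ∉ ({⟨w, hw⟩, ⟨σ w, (hpres w).1 hw⟩, y} : Finset _) := by
      refine Finset.exists_mem_notMem_of_card_lt_card ?_
      rw [Finset.card_univ]
      exact lt_of_le_of_lt Finset.card_le_three (by omega)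
    simp only [Finset.mem_insert, Finset.mem_singleton, not_or] at hy hy'
    have hne' : (⟨σ w, (hpres w).1 hw⟩ : {w : Fin 9 // p w = w}) ≠ ⟨w, hw⟩ :=
      fun e => hne (congrArg Subtype.val e)
    let τ : alternatingGroup {w : Fin 9 // p w = w} :=
      ⟨swap ⟨σ w, (hpres w).1 hw⟩ y * swap ⟨σ w, (hpres w).1 hw⟩ y', by
        rw [Perm.mem_alternatingGroup, map_mul, Perm.sign_swap (Ne.symm hy.2),
          Perm.sign_swap (Ne.symm hy'.2.1)]
        rfl⟩
    have h1 : f τ w = w := by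
      refine (Perm.ofSubtype_apply_of_mem (τ : Perm {w : Fin 9 // p w = w}) hw).trans ?_
      show (((swap (⟨σ w, _⟩ : {w : Fin 9 // p w = w}) y * swap ⟨σ w, _⟩ y') ⟨w, hw⟩ :
        {w : Fin 9 // p w = w}) : Fin 9) = w
      rw [Perm.mul_apply, swap_apply_of_ne_of_ne hne'.symm (Ne.symm hy'.1),
        swap_apply_of_ne_of_ne hne'.symm (Ne.symm hy.1)]
    have h2 : f τ (σ w) = σ w := by
      have := DFunLike.congr_fun (hcomm τ) w
      rw [Perm.mul_apply, Perm.mul_apply, h1] at this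
      exact this
    have h3 := (Perm.ofSubtype_apply_of_mem (τ : Perm {w : Fin 9 // p w = w})
      ((hpres w).1 hw)).symm.trans h2
    have h4 := Subtype.ext (a1 := (τ : Perm {w : Fin 9 // p w = w}) ⟨σ w, (hpres w).1 hw⟩)
      (a2 := ⟨σ w, (hpres w).1 hw⟩) h3
    change (swap (⟨σ w, _⟩ : {w : Fin 9 // p w = w}) y * swap ⟨σ w, _⟩ y') _ = _ at h4
    rw [Perm.mul_apply, swap_apply_left, swap_apply_of_ne_of_ne hy'.2.1 hy'.2.2] at h4
    exact hy'.2.1 h4
  obtain ⟨i, hi⟩ : ∃ i : ℕ, σ x₀ = (p ^ i) x₀ := by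
    rcases horb _ (fun e => hp0 ((hpres x₀).2 e)) with e | e | e
    exacts [⟨0, e⟩, ⟨1, e⟩, ⟨2, e⟩]
  refine ⟨i, Equiv.ext fun w => ?_⟩
  by_cases hw : p w = w
  · rw [hfix' w hw, Perm.pow_apply_eq_self_of_apply_eq_self hw]
  · have key : ∀ k : ℕ, σ ((p ^ k) x₀) = (p ^ i) ((p ^ k) x₀) := fun k => by
      rw [apply_pow_comm hσc, hi, ← Perm.mul_apply, ← Perm.mul_apply, ← pow_add, ← pow_add,
        Nat.add_comm]
    rcases horb w hw with e | e | e <;> rw [e]
    exacts [key 0, key 1, key 2]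

end CfsgLib.Recog.DoubleAlt.NinePerm
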