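import Cfsg.Agent.Lib.Recog.DoubleAlt.NineSelf
import Cfsg.Agent.Lib.InvChar.BSWSmall

/-!
`C(x) / ⟨x⟩` would satisfy the hypotheses of the Brauer-Suzuki-Wall theorem with a centralizer of
order 36, which is impossible.
-/

set_option autoImplicit false
set_option linter.unusedSectionVars false
set_option linter.style.haveILetI false

namespace CfsgLib.Recog.DoubleAlt

open Subgroup

variable {G : Type*} [Group G] [Finite G]

theorem zmod37 : ∀ m n : ZMod 37, m ^ 3 = 1 → n ^ 3 = 1 →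
    m = 1 ∨ n = 1 ∨ m * n = 1 ∨ m * n * n = 1 := by decide +kernel

theorem factorization_eq_of {n p k : ℕ} (hp : p.Prime) (h1 : p ^ k ∣ n) (h2 : ¬ p ^ (k + 1) ∣ n)
    (hn : n ≠ 0) : n.factorization p = k :=
  le_antisymm (not_lt.1 fun h => h2 ((hp.pow_dvd_iff_le_factorization hn).2 h))
    ((hp.pow_dvd_iff_le_factorization hn).1 h1)

namespace NineData

variable (N : NineData G)

/-- `C(x)`. -/
abbrev Cx : Subgroup G := centralizer ({N.x} : Set G)

theorem mem_Cx {g : G} : g ∈ N.Cx ↔ g * N.x = N.x * g := mem_centralizer_singleton_iff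

/-- `⟨x⟩` inside `C(x)`. -/
abbrev Px : Subgroup N.Cx := (zpowers N.x).subgroupOf N.Cx

instance : N.Px.Normal := ⟨fun q hq g => by
  rw [mem_subgroupOf] at hq ⊢
  obtain ⟨n, hn⟩ := hq
  have hc : Commute ((g : N.Cx) : G) N.x := N.mem_Cx.1 g.2
  push_cast
  rw [← hn, (hc.zpow_right n).eq, mul_inv_cancel_right]
  exact ⟨n, rfl⟩⟩

/-- The image of an element of `C(x)` in `C(x) / ⟨x⟩`. -/
noncomputable def bar (g : G) (hg : g * N.x = N.x * g) : N.Cx ⧸ N.Px :=
  QuotientGroup.mk (⟨g, N.mem_Cx.2 hg⟩ : N.Cx)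

theorem bar_eq {g h : G} {hg : g * N.x = N.x * g} {hh : h * N.x = N.x * h} :
    N.bar g hg = N.bar h hh ↔ g⁻¹ * h ∈ zpowers N.x := by
  rw [bar, bar, QuotientGroup.eq, mem_subgroupOf]
  rfl

theorem exists_bar (q : N.Cx ⧸ N.Px) : ∃ g, ∃ hg : g * N.x = N.x * g, q = N.bar g hg := by
  induction q using QuotientGroup.induction_on with
  | H g => exact ⟨g, N.mem_Cx.1 g.2, rfl⟩

theorem bar_mul {g h : G} (hg : g * N.x = N.x * g) (hh : h * N.x = N.x * h) :
    N.bar g hg * N.bar h hh = N.bar (g * h) ((show Commute g N.x from hg).mul_left hh).eq := rfl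

theorem bar_inv {g : G} (hg : g * N.x = N.x * g) :
    (N.bar g hg)⁻¹ = N.bar g⁻¹ (show Commute g N.x from hg).inv_left.eq := rfl

theorem bar_one : (1 : N.Cx ⧸ N.Px) = N.bar 1 (by rw [one_mul, mul_one]) := rfl

theorem xz_le : zpowers N.x ≤ N.T := zpowers_le.2 N.x_mem

/-- `Az` meets `⟨x⟩` trivially. -/
theorem eq_one_of_xpow {y : G} (hy : y ∈ N.Az) (h : y ∈ zpowers N.x) : y = 1 := by
  obtain ⟨n, hn⟩ := h
  refine N.sq_eq_one (N.Az_le hy) ?_
  have h1 : N.u * y * N.u = y := by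
    rw [← hn, ((show Commute N.u N.x from N.ux).zpow_right n).eq, mul_assoc, N.u_sq, mul_one]
  rw [N.u_Az hy] at h1
  nth_rewrite 1 [← h1]
  exact inv_mul_cancel y

theorem decomp {t : G} (ht : t ∈ N.T) : ∃ y ∈ N.Az, y⁻¹ * t ∈ zpowers N.x := by
  obtain ⟨i, y, hy, rfl⟩ := N.T_decomp ht
  refine ⟨y, hy, ?_⟩
  rw [N.T_comm (pow_mem N.x_mem i) (N.Az_le hy), inv_mul_cancel_left]
  exact pow_mem (mem_zpowers N.x) i

theorem z_not_mem : N.z ∉ zpowers N.x := fun h => N.z_ne (N.sq_eq_one (N.xz_le h) N.z_sq)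

theorem comm_of_z_conj {g : G} (hgx : g * N.x = N.x * g)
    (h : (g * N.z * g⁻¹)⁻¹ * N.z ∈ zpowers N.x) : g * N.z = N.z * g := by
  obtain ⟨n, hn⟩ := h
  set i := g * N.z * g⁻¹ with hi
  have hi2 : i * i = 1 := by
    rw [hi]
    calc g * N.z * g⁻¹ * (g * N.z * g⁻¹) = g * (N.z * N.z) * g⁻¹ := by group
      _ = 1 := by rw [N.z_sq, mul_one, mul_inv_cancel]
  have hix : Commute i N.x :=
    ((show Commute g N.x from hgx).mul_left N.zx).mul_left (show Commute g N.x from hgx).inv_left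
  simp only [] at hn
  have h1 : N.z = i * N.x ^ n := by rw [hn, mul_inv_cancel_left]
  have h2 : N.x ^ n * N.x ^ n = 1 := by
    have := N.z_sq
    rw [h1, show i * N.x ^ n * (i * N.x ^ n) = i * (N.x ^ n * i) * N.x ^ n by group,
      ← (hix.zpow_right n).eq, ← mul_assoc i, hi2, one_mul] at this
    exact this
  rw [N.sq_eq_one (zpow_mem N.x_mem n) h2, mul_one, hi] at h1
  exact (eq_mul_inv_iff_mul_eq.1 h1).symm

/-- The centralizer of the image of a non-identity element of `Az`. -/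
theorem cent_bar_y {g y y' : G} (hgx : g * N.x = N.x * g) (hy : y ∈ N.Az) (hy1 : y ≠ 1)
    (hy' : y' ∈ N.Az) (hy'1 : y' ≠ 1) (h : (g * y' * g⁻¹)⁻¹ * y ∈ zpowers N.x) :
    g * N.z = N.z * g := by
  obtain ⟨n, hn⟩ := h
  simp only [] at hn
  have e : g * y' * g⁻¹ = y * (N.x ^ n)⁻¹ := by rw [hn]; group
  set i := g * N.z * g⁻¹ with hi
  have hi2 : i * i = 1 := by
    rw [hi]
    calc g * N.z * g⁻¹ * (g * N.z * g⁻¹) = g * (N.z * N.z) * g⁻¹ := by group
      _ = 1 := by rw [N.z_sq, mul_one, mul_inv_cancel]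
  have hix : Commute i N.x :=
    ((show Commute g N.x from hgx).mul_left N.zx).mul_left (show Commute g N.x from hgx).inv_left
  have hi_y : Commute i y := by
    have h1 : Commute i (g * y' * g⁻¹) := by
      show i * (g * y' * g⁻¹) = g * y' * g⁻¹ * i
      rw [hi]
      calc g * N.z * g⁻¹ * (g * y' * g⁻¹) = g * (N.z * y') * g⁻¹ := by group
        _ = g * (y' * N.z) * g⁻¹ := by rw [N.zT (N.Az_le hy')]
        _ = _ := by group
    have h2 := h1.mul_right (hix.zpow_right n)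
    rwa [e, inv_mul_cancel_right] at h2
  rcases N.eq_z_of_mem hi2 (N.cent_xy hy hy1 hix.eq hi_y.eq) with h1 | h1
  · exact absurd (conj_eq_one_iff.1 h1) N.z_ne
  · exact mul_inv_eq_iff_eq_mul.1 h1

/-- Involutions of `C(x)` are conjugate in it to `z`. -/
theorem conj_z {h : G} (hx : h * N.x = N.x * h) (h2 : h * h = 1) (h1 : h ≠ 1) :
    ∃ g, g * N.x = N.x * g ∧ g * N.z * g⁻¹ = h := by
  -- first those commuting with `z`
  have hr : N.r * N.z * N.r⁻¹ = N.u := conj_eq_of N.rz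
  have key : ∀ i, i * N.x = N.x * i → i * i = 1 → i ≠ 1 → i * N.z = N.z * i →
      ∃ g, g * N.x = N.x * g ∧ g * N.z * g⁻¹ = i := by
    intro i hix hi2 hi1 hiz
    obtain ⟨t, ht, hc⟩ := N.cent_x i hiz hix
    have main : ∀ w : G, w = N.u ∨ w = N.u * N.z → t * w * (t * w) = 1 →
        ∃ g, g * N.x = N.x * g ∧ g * N.z * g⁻¹ = t * w := by
      intro w hw hsq
      obtain ⟨j, y, hy, rfl⟩ := N.T_decomp ht
      have hwy : w * y * w = y⁻¹ := by
        rcases hw with rfl | rfl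
        · exact N.u_Az hy
        · calc N.u * N.z * y * (N.u * N.z) = N.u * (N.z * y) * N.u * N.z := by group
            _ = N.u * y * (N.z * N.u) * N.z := by rw [N.zT (N.Az_le hy)]; group
            _ = N.u * y * N.u * (N.z * N.z) := by rw [N.zu]; group
            _ = y⁻¹ := by rw [N.z_sq, mul_one, N.u_Az hy]
      have hwx : Commute w N.x := by
        rcases hw with rfl | rfl
        · exact N.ux
        · exact (show Commute N.u N.x from N.ux).mul_left N.zx
      have hxj : N.x ^ j * N.x ^ j = 1 := by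
        have e : N.x ^ j * y * w * (N.x ^ j * y * w) = N.x ^ j * (y * N.x ^ j) * (w * y * w) := by
          calc N.x ^ j * y * w * (N.x ^ j * y * w) = N.x ^ j * y * (w * N.x ^ j) * y * w := by group
            _ = N.x ^ j * y * (N.x ^ j * w) * y * w := by rw [(hwx.pow_right j).eq]
            _ = _ := by group
        rw [e, hwy, N.T_comm (N.Az_le hy) (pow_mem N.x_mem j), ← mul_assoc,
          mul_inv_cancel_right] at hsq
        exact hsq
      rw [N.sq_eq_one (pow_mem N.x_mem j) hxj, one_mul]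
      obtain ⟨g₀, hg₀x, hg₀⟩ : ∃ g, Commute g N.x ∧ g * N.z * g⁻¹ = w := by
        rcases hw with rfl | rfl
        · exact ⟨N.r, N.rxc, hr⟩
        · refine ⟨N.r * N.r, (show Commute N.r N.x from N.rxc).mul_left N.rxc, ?_⟩
          calc N.r * N.r * N.z * (N.r * N.r)⁻¹ = N.r * (N.r * N.z * N.r⁻¹) * N.r⁻¹ := by group
            _ = N.r * N.u * N.r⁻¹ := by rw [hr]
            _ = _ := conj_eq_of N.ru
      refine ⟨y ^ 2 * g₀, ((show Commute y N.x from N.T_comm (N.Az_le hy) N.x_mem).pow_left 2).mul_left hg₀x,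
        ?_⟩
      have hwy2 : w * (y ^ 2)⁻¹ = y ^ 2 * w := by
        have hw2 : w * w = 1 := by
          rcases hw with rfl | rfl
          · exact N.u_sq
          · exact N.uz_sq
        have hc : w * y⁻¹ = y * w := by
          rw [← hwy, ← mul_assoc, ← mul_assoc, hw2, one_mul]
        rw [pow_two, mul_inv_rev, ← mul_assoc, hc, mul_assoc, hc, ← mul_assoc]
      calc y ^ 2 * g₀ * N.z * (y ^ 2 * g₀)⁻¹ = y ^ 2 * (g₀ * N.z * g₀⁻¹) * (y ^ 2)⁻¹ := by group
        _ = y ^ 2 * (w * (y ^ 2)⁻¹) := by rw [hg₀, mul_assoc]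
        _ = y ^ 3 * y * w := by rw [hwy2, ← mul_assoc, ← pow_add, ← pow_succ]
        _ = y * w := by rw [N.cube (N.Az_le hy), one_mul]
    rcases hc with rfl | rfl | rfl | rfl
    · exact absurd (N.sq_eq_one ht hi2) hi1
    · refine ⟨1, by rw [one_mul, mul_one], ?_⟩
      rcases N.eq_z_of_mem hi2 (Or.inr (by rw [mul_assoc, N.z_sq, mul_one]; exact ht)) with e | e
      · exact absurd e hi1
      · rw [e, one_mul, inv_one, mul_one]
    · exact main _ (Or.inl rfl) hi2
    · exact main _ (Or.inr rfl) hi2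
  set w := h * N.z with hw
  have hwx : Commute w N.x := (show Commute h N.x from hx).mul_left N.zx
  have hzw : N.z * w * N.z = w⁻¹ := by
    rw [hw, mul_inv_rev, N.z_inv, inv_eq_of_mul_eq_one_right h2, mul_assoc, mul_assoc, N.z_sq, mul_one]
  have hzwn : ∀ n : ℕ, N.z * w ^ n * N.z = (w ^ n)⁻¹ := by
    intro n
    have h1 := map_pow (MulAut.conj N.z) w n
    rw [MulAut.conj_apply, MulAut.conj_apply, N.z_inv, hzw, inv_pow] at h1
    exact h1
  rcases Nat.even_or_odd (orderOf w) with he | ⟨l, hl⟩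
  · obtain ⟨l, hl⟩ := he
    by_cases hl0 : l = 0
    · exfalso
      rw [hl0] at hl
      exact absurd hl (orderOf_pos w).ne'
    set j := w ^ l with hj
    have hj2 : j * j = 1 := by rw [hj, ← pow_add, ← hl, pow_orderOf_eq_one]
    have hj1 : j ≠ 1 := fun e => by
      have := Nat.le_of_dvd (by omega) (orderOf_dvd_of_pow_eq_one e)
      omega
    have hjz : j * N.z = N.z * j := by
      have h := hzwn l
      rw [← hj, inv_eq_of_mul_eq_one_right hj2] at h
      calc j * N.z = N.z * j * N.z * N.z := by rw [h]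
        _ = _ := by rw [mul_assoc, N.z_sq, mul_one]
    obtain ⟨g, hgx, hg⟩ := key j (hwx.pow_left l).eq hj2 hj1 hjz
    have hjh : Commute j h := by
      have e : h = w * N.z := by rw [hw, mul_assoc, N.z_sq, mul_one]
      rw [e]
      exact (hj ▸ (Commute.refl w).pow_left l).mul_right hjz
    obtain ⟨g', hg'x, hg'⟩ := key (g⁻¹ * h * g)
      (((show Commute g N.x from hgx).inv_left.mul_left hx).mul_left hgx).eq
      (by calc g⁻¹ * h * g * (g⁻¹ * h * g) = g⁻¹ * (h * h) * g := by group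
            _ = 1 := by rw [h2, mul_one, inv_mul_cancel])
      (fun e => h1 (by
        have : h = g * (g⁻¹ * h * g) * g⁻¹ := by group
        rw [this, e, mul_one, mul_inv_cancel]))
      (by
        have e : N.z = g⁻¹ * j * g := by rw [← hg]; group
        rw [e]
        calc g⁻¹ * h * g * (g⁻¹ * j * g) = g⁻¹ * (h * j) * g := by group
          _ = g⁻¹ * (j * h) * g := by rw [hjh.eq]
          _ = _ := by group)
    refine ⟨g * g', ((show Commute g N.x from hgx).mul_left hg'x).eq, ?_⟩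
    calc g * g' * N.z * (g * g')⁻¹ = g * (g' * N.z * g'⁻¹) * g⁻¹ := by group
      _ = h := by rw [hg']; group
  · refine ⟨(w ^ l)⁻¹, (hwx.pow_left l).inv_left.eq, ?_⟩
    have h0 : w ^ l * w ^ l * w = 1 := by
      rw [← pow_add, ← pow_succ, show l + l + 1 = orderOf w by omega, pow_orderOf_eq_one]
    have h1 : w = (w ^ l * w ^ l)⁻¹ := eq_inv_of_mul_eq_one_right h0
    calc (w ^ l)⁻¹ * N.z * ((w ^ l)⁻¹)⁻¹ = (w ^ l)⁻¹ * (N.z * w ^ l * N.z) * N.z := by
          rw [inv_inv, mul_assoc _ (N.z * w ^ l * N.z), mul_assoc (N.z * w ^ l), N.z_sq, mul_one,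
            mul_assoc]
      _ = (w ^ l * w ^ l)⁻¹ * N.z := by rw [hzwn, mul_inv_rev]
      _ = h := by rw [← h1, hw, mul_assoc, N.z_sq, mul_one]

include N in
/-- No group has these properties. -/
theorem absurd_data : False := by
  haveI : Fintype (N.Cx ⧸ N.Px) := Fintype.ofFinite _
  set zb := N.bar N.z N.zx with hzb
  set ub := N.bar N.u N.ux with hub
  -- the subgroup `K`
  set M : Subgroup G := N.T ⊔ zpowers N.z with hM
  have mM : ∀ g, g ∈ M ↔ g ∈ N.T ∨ g * N.z ∈ N.T := by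
    intro g
    constructor
    · intro hg
      have hle : M ≤ centralizer (N.T : Set G) := sup_le
        (fun t ht => mem_centralizer_iff.2 fun s hs => N.T_comm hs ht)
        (zpowers_le.2 (mem_centralizer_iff.2 fun t ht => (N.zT ht).symm))
      exact N.cent_T fun t ht => (mem_centralizer_iff.1 (hle hg) t ht).symm
    · rintro (h | h)
      · exact mem_sup_left h
      · have : g = g * N.z * N.z := by rw [mul_assoc, N.z_sq, mul_one]
        rw [this]; exact mul_mem (mem_sup_left h) (mem_sup_right (mem_zpowers _))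
  have hMx : ∀ g ∈ M, g * N.x = N.x * g := by
    intro g hg
    rcases (mM g).1 hg with h | h
    · exact N.T_comm h N.x_mem
    · have e : g = g * N.z * N.z := by rw [mul_assoc, N.z_sq, mul_one]
      rw [e]
      exact ((show Commute (g * N.z) N.x from N.T_comm h N.x_mem).mul_left N.zx).eq
  set K : Subgroup (N.Cx ⧸ N.Px) := (M.subgroupOf N.Cx).map (QuotientGroup.mk' N.Px) with hK
  have mK : ∀ q, q ∈ K ↔ ∃ g, ∃ hg : g * N.x = N.x * g, g ∈ M ∧ q = N.bar g hg := by
    intro q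
    constructor
    · rintro ⟨g, hg, rfl⟩; exact ⟨g, N.mem_Cx.1 g.2, hg, rfl⟩
    · rintro ⟨g, hg, hgM, rfl⟩; exact ⟨⟨g, N.mem_Cx.2 hg⟩, hgM, rfl⟩
  have hMcomm : ∀ g ∈ M, ∀ h ∈ M, g * h = h * g := by
    have hle : M ≤ centralizer (M : Set G) := by
      refine sup_le (fun t ht => mem_centralizer_iff.2 fun g hg => ?_)
        (zpowers_le.2 (mem_centralizer_iff.2 fun g hg => ?_))
      · have h2 : M ≤ centralizer (N.T : Set G) := sup_le
          (fun t ht => mem_centralizer_iff.2 fun s hs => N.T_comm hs ht)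
          (zpowers_le.2 (mem_centralizer_iff.2 fun t ht => (N.zT ht).symm))
        exact (mem_centralizer_iff.1 (h2 hg) t ht).symm
      · rcases (mM g).1 hg with h | h
        · exact (N.zT h).symm
        · have e : g = g * N.z * N.z := by rw [mul_assoc, N.z_sq, mul_one]
          rw [e]
          exact ((show Commute (g * N.z) N.z from (N.zT h).symm).mul_left (Commute.refl N.z)).eq
    exact fun g hg h hh => mem_centralizer_iff.1 (hle hh) g hg
  have hzM : N.z ∈ M := mem_sup_right (mem_zpowers _)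
  have hKcomm : ∀ p ∈ K, ∀ q ∈ K, p * q = q * p := by
    intro p hp q hq
    obtain ⟨g, hg, hgM, rfl⟩ := (mK p).1 hp
    obtain ⟨h, hh, hhM, rfl⟩ := (mK q).1 hq
    rw [N.bar_mul, N.bar_mul]
    simp only [hMcomm g hgM h hhM]
  have hzK : zb ∈ K := (mK _).2 ⟨_, _, hzM, rfl⟩
  have hzb2 : zb * zb = 1 := by rw [hzb, N.bar_mul, N.bar_one]; simp only [N.z_sq]
  have hzb1 : zb ≠ 1 := by
    rw [hzb, N.bar_one, Ne, N.bar_eq, mul_one]
    exact fun h => N.z_not_mem (by simpa using inv_mem h)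
  have hzbo : orderOf zb = 2 := orderOf_eq_prime (by rw [pow_two, hzb2]) hzb1
  have hu_nx : N.u ∉ zpowers N.x := fun h => N.u_ne (N.sq_eq_one (N.xz_le h) N.u_sq)
  have hub2 : ub * ub = 1 := by rw [hub, N.bar_mul, N.bar_one]; simp only [N.u_sq]
  have hubo : orderOf ub = 2 := orderOf_eq_prime (by rw [pow_two, hub2]) (by
    rw [hub, N.bar_one, Ne, N.bar_eq, mul_one]
    exact fun h => hu_nx (by simpa using inv_mem h))
  have hu_nM : N.u ∉ M := by
    intro h
    rcases (mM _).1 h with h | h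
    · exact N.u_ne (N.sq_eq_one h N.u_sq)
    · exact N.uz_ne (N.sq_eq_one h N.uz_sq)
  have hbarK : ∀ (g : G) (hg : g * N.x = N.x * g), N.bar g hg ∈ K → g ∈ M := by
    intro g hg h
    obtain ⟨g', hg', hg'M, e⟩ := (mK _).1 h
    rw [N.bar_eq] at e
    have e2 : g = g' * (g⁻¹ * g')⁻¹ := by group
    rw [e2]
    exact mul_mem hg'M (inv_mem (mem_sup_left (N.xz_le e)))
  -- `u` inverts `K`
  have hinvK : ∀ q ∈ K, ub * q * ub⁻¹ = q⁻¹ := by
    intro q hq
    obtain ⟨g, hg, hgM, rfl⟩ := (mK q).1 hq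
    rw [hub, N.bar_inv, N.bar_mul, N.bar_mul, N.bar_inv, N.bar_eq]
    rcases (mM g).1 hgM with h | h
    · obtain ⟨i, y, hy, rfl⟩ := N.T_decomp h
      have e : N.u * (N.x ^ i * y) * N.u⁻¹ = N.x ^ i * y⁻¹ := by
        rw [N.u_inv, ← mul_assoc, ((show Commute N.u N.x from N.ux).pow_right i).eq,
          show N.x ^ i * N.u * y * N.u = N.x ^ i * (N.u * y * N.u) by group, N.u_Az hy]
      rw [e, mul_inv_rev, inv_inv, mul_inv_rev,
        show y * (N.x ^ i)⁻¹ * (y⁻¹ * (N.x ^ i)⁻¹) = y * ((N.x ^ i)⁻¹ * y⁻¹) * (N.x ^ i)⁻¹ by group,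
        N.T_comm (inv_mem (pow_mem N.x_mem i)) (inv_mem (N.Az_le hy)), mul_inv_cancel_left]
      exact mul_mem (inv_mem (pow_mem (mem_zpowers _) i)) (inv_mem (pow_mem (mem_zpowers _) i))
    · obtain ⟨i, y, hy, he⟩ := N.T_decomp h
      have eg : g = N.x ^ i * y * N.z := by rw [← he, mul_assoc, N.z_sq, mul_one]
      have e : N.u * g * N.u⁻¹ = N.x ^ i * y⁻¹ * N.z := by
        rw [eg, N.u_inv]
        calc N.u * (N.x ^ i * y * N.z) * N.u = N.u * N.x ^ i * y * (N.z * N.u) := by group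
          _ = N.x ^ i * N.u * y * (N.u * N.z) := by
              rw [N.zu, ((show Commute N.u N.x from N.ux).pow_right i).eq]
          _ = N.x ^ i * (N.u * y * N.u) * N.z := by group
          _ = _ := by rw [N.u_Az hy]
      have hzi : N.z * (N.x ^ i)⁻¹ = (N.x ^ i)⁻¹ * N.z := N.zT (inv_mem (pow_mem N.x_mem i))
      rw [e, eg]
      have e3 : (N.x ^ i * y⁻¹ * N.z)⁻¹ * (N.x ^ i * y * N.z)⁻¹ = (N.x ^ i)⁻¹ * (N.x ^ i)⁻¹ := by
        rw [mul_inv_rev, mul_inv_rev, mul_inv_rev, mul_inv_rev, inv_inv, N.z_inv, ← mul_assoc N.z y,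
          N.zT (N.Az_le hy)]
        calc y * N.z * (N.x ^ i)⁻¹ * (N.z * (y⁻¹ * (N.x ^ i)⁻¹))
            = y * (N.z * (N.x ^ i)⁻¹) * N.z * (y⁻¹ * (N.x ^ i)⁻¹) := by group
          _ = y * (N.x ^ i)⁻¹ * (N.z * N.z) * (y⁻¹ * (N.x ^ i)⁻¹) := by rw [hzi]; group
          _ = y * ((N.x ^ i)⁻¹ * y⁻¹) * (N.x ^ i)⁻¹ := by rw [N.z_sq]; group
          _ = _ := by
              rw [N.T_comm (inv_mem (pow_mem N.x_mem i)) (inv_mem (N.Az_le hy)), mul_inv_cancel_left]
      rw [e3]
      exact mul_mem (inv_mem (pow_mem (mem_zpowers _) i)) (inv_mem (pow_mem (mem_zpowers _) i))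
  have hKH : K ≤ centralizer ({zb} : Set (N.Cx ⧸ N.Px)) := fun q hq =>
    mem_centralizer_singleton_iff.2 (hKcomm q hq zb hzK)
  have hcentz : ∀ (g : G) (hg : g * N.x = N.x * g), N.bar g hg * zb = zb * N.bar g hg →
      g * N.z = N.z * g := by
    intro g hg h
    have h' : N.bar g hg * zb * (N.bar g hg)⁻¹ = zb := by rw [h, mul_inv_cancel_right]
    rw [hzb, N.bar_inv, N.bar_mul, N.bar_mul, N.bar_eq] at h'
    exact N.comm_of_z_conj hg h'
  -- classification of the elements of `K`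
  have hKcases : ∀ q ∈ K, (∃ y ∈ N.Az, ∃ hyx : y * N.x = N.x * y, q = N.bar y hyx) ∨
      q ^ 3 = zb := by
    intro q hq
    obtain ⟨g, hg, hgM, rfl⟩ := (mK q).1 hq
    rcases (mM g).1 hgM with h | h
    · obtain ⟨y, hy, hyg⟩ := N.decomp h
      left
      refine ⟨y, hy, N.T_comm (N.Az_le hy) N.x_mem, ?_⟩
      rw [N.bar_eq]
      simpa using inv_mem hyg
    · right
      have e : g = g * N.z * N.z := by rw [mul_assoc, N.z_sq, mul_one]
      have hgz : Commute (g * N.z) N.z := (N.zT h).symm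
      have e3 : g ^ 3 = N.z := by
        rw [e, hgz.mul_pow, N.cube h, one_mul, pow_succ, pow_two, N.z_sq, one_mul]
      show (QuotientGroup.mk (⟨g, _⟩ : N.Cx) : N.Cx ⧸ N.Px) ^ 3 = _
      rw [← QuotientGroup.mk_pow]
      exact congrArg _ (Subtype.ext (by push_cast; exact e3))
  have hcube : ∀ (y : G) (hy : y ∈ N.Az) (hyx : y * N.x = N.x * y), N.bar y hyx ^ 3 = 1 := by
    intro y hy hyx
    show (QuotientGroup.mk (⟨y, _⟩ : N.Cx) : N.Cx ⧸ N.Px) ^ 3 = _
    rw [← QuotientGroup.mk_pow]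
    exact congrArg _ (Subtype.ext (by push_cast; exact N.cube (N.Az_le hy)))
  have hS : InvChar.BSW.Setup zb K ub :=
    { ht := hzbo
      hcomm := hKcomm
      hKH := hKH
      htK := hzK
      hs := hubo
      hsH := mem_centralizer_singleton_iff.2 (by
        rw [hub, hzb, N.bar_mul, N.bar_mul]; simp only [N.zu])
      hsK := fun h => hu_nM (hbarK _ _ h)
      hH := by
        refine le_antisymm (sup_le hKH (zpowers_le.2 (mem_centralizer_singleton_iff.2 (by
          rw [hub, hzb, N.bar_mul, N.bar_mul]; simp only [N.zu])))) fun q hq => ?_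
        obtain ⟨g, hg, rfl⟩ := N.exists_bar q
        obtain ⟨t, ht, hc⟩ := N.cent_x g (hcentz g hg (mem_centralizer_singleton_iff.1 hq)) hg
        have htM : t ∈ M := mem_sup_left ht
        rcases hc with rfl | rfl | rfl | rfl
        · exact mem_sup_left ((mK _).2 ⟨_, _, htM, rfl⟩)
        · exact mem_sup_left ((mK _).2 ⟨_, _, mul_mem htM hzM, rfl⟩)
        · have e : N.bar (t * N.u) hg = N.bar t (hMx t htM) * ub := by rw [hub, N.bar_mul]
          rw [e]
          exact mul_mem (mem_sup_left ((mK _).2 ⟨_, _, htM, rfl⟩)) (mem_sup_right (mem_zpowers _))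
        · have e : N.bar (t * (N.u * N.z)) hg =
              N.bar (t * N.z) (hMx _ (mul_mem htM hzM)) * ub := by
            rw [hub, N.bar_mul]
            simp only [← N.zu, ← mul_assoc]
          rw [e]
          exact mul_mem (mem_sup_left ((mK _).2 ⟨_, _, mul_mem htM hzM, rfl⟩))
            (mem_sup_right (mem_zpowers _))
      hCK := by
        refine le_antisymm (fun q hq => ?_) (zpowers_le.2 ⟨hzK, mem_centralizer_singleton_iff.2 (by
          rw [hub, hzb, N.bar_mul, N.bar_mul]; simp only [N.zu])⟩)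
        have hc := mem_centralizer_singleton_iff.1 hq.2
        have h1 := hinvK q hq.1
        rw [← hc, mul_inv_cancel_right] at h1
        have hq2 : q * q = 1 := by nth_rewrite 1 [h1]; exact inv_mul_cancel q
        rcases hKcases q hq.1 with ⟨y, hy, hyx, rfl⟩ | h3
        · have h := hcube y hy hyx
          rw [pow_succ, pow_two, hq2, one_mul] at h
          rw [h]; exact one_mem _
        · rw [pow_succ, pow_two, hq2, one_mul] at h3
          rw [h3]; exact mem_zpowers _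
      hinv := hinvK
      hTI := by
        intro g hg
        rw [eq_bot_iff]
        rintro q ⟨hq, p, hp, rfl⟩
        simp only [MulEquiv.toMonoidHom_eq_coe, MonoidHom.coe_coe, MulAut.conj_apply] at hq ⊢
        rw [mem_bot]
        by_contra h1
        obtain ⟨g₀, hg₀, rfl⟩ := N.exists_bar g
        refine hg (mem_centralizer_singleton_iff.2 ?_)
        suffices g₀ * N.z = N.z * g₀ by
          rw [hzb, N.bar_mul, N.bar_mul]; simp only [this]
        rcases hKcases p hp with ⟨y', hy', hy'x, rfl⟩ | hp3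
        · rcases hKcases _ hq with ⟨y, hy, hyx, e⟩ | h3
          · rw [N.bar_inv, N.bar_mul, N.bar_mul, N.bar_eq] at e
            refine N.cent_bar_y hg₀ hy (fun h => ?_) hy' (fun h => ?_) e
            · subst h
              rw [← N.bar_eq (hg := ?_) (hh := hyx)] at e
              · apply h1
                rw [N.bar_inv, N.bar_mul, N.bar_mul, e]
                rfl
              · exact (((show Commute g₀ N.x from hg₀).mul_left hy'x).mul_left
                  (show Commute g₀ N.x from hg₀).inv_left).eq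
            · subst h
              exact h1 (by rw [← N.bar_one, mul_one, mul_inv_cancel])
          · exfalso
            rw [conj_pow, hcube y' hy' hy'x, mul_one, mul_inv_cancel] at h3
            exact hzb1 h3.symm
        · rcases hKcases _ hq with ⟨y, hy, hyx, e⟩ | h3
          · exfalso
            have h := congrArg (· ^ 3) e
            simp only [conj_pow, hp3, hcube y hy hyx] at h
            exact hzb1 (conj_eq_one_iff.1 h)
          · rw [conj_pow, hp3] at h3
            exact hcentz g₀ hg₀ (mul_inv_eq_iff_eq_mul.1 h3)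
      hconj := by
        have key : ∀ q : N.Cx ⧸ N.Px, orderOf q = 2 → IsConj zb q := by
          intro q hq
          obtain ⟨g, hg, rfl⟩ := N.exists_bar q
          have hq2 : N.bar g hg * N.bar g hg = 1 := by rw [← pow_two, ← hq]; exact pow_orderOf_eq_one _
          have hgg : g * g ∈ zpowers N.x := by
            rw [N.bar_mul, N.bar_one, N.bar_eq, mul_one] at hq2
            simpa using inv_mem hq2
          have h6 : (g * g) ^ 3 = 1 := N.cube (N.xz_le hgg)
          have hh2 : g ^ 3 * g ^ 3 = 1 := by rw [← h6, ← pow_two g, ← pow_mul, ← pow_add]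
          have hgx : Commute g N.x := hg
          have e : N.bar (g ^ 3) (hgx.pow_left 3).eq = N.bar g hg := by
            rw [N.bar_eq]
            have : (g ^ 3)⁻¹ * g = (g * g)⁻¹ := by group
            rw [this]; exact inv_mem hgg
          have hh1 : g ^ 3 ≠ 1 := fun h => by
            simp only [h] at e
            rw [← e, ← N.bar_one, orderOf_one] at hq
            omega
          obtain ⟨k, hk, hkz⟩ := N.conj_z (hgx.pow_left 3).eq hh2 hh1
          refine isConj_iff.2 ⟨N.bar k hk, ?_⟩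
          rw [← e, hzb, N.bar_inv, N.bar_mul, N.bar_mul]
          simp only [hkz]
        exact fun p q hp hq => (key p hp).symm.trans (key q hq) }
  -- `|K| = 18`
  let φ : N.Az × Bool → K := fun p =>
    ⟨N.bar (p.1.1 * cond p.2 N.z 1) (hMx _ (mul_mem (mem_sup_left (N.Az_le p.1.2))
      (by cases p.2 <;> first | exact one_mem _ | exact hzM))),
      (mK _).2 ⟨_, _, mul_mem (mem_sup_left (N.Az_le p.1.2))
        (by cases p.2 <;> first | exact one_mem _ | exact hzM), rfl⟩⟩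
  have hφ : Function.Bijective φ := by
    constructor
    · rintro ⟨⟨y, hy⟩, i⟩ ⟨⟨y', hy'⟩, i'⟩ h
      have h' := congrArg Subtype.val h
      simp only [φ, N.bar_eq] at h'
      have hy0 : y⁻¹ * y' ∈ N.Az := mul_mem (inv_mem hy) hy'
      have hz0 : ∀ w ∈ N.Az, N.z * w ∉ zpowers N.x := fun w hw h => N.z_ne (N.sq_eq_one
        (by simpa using mul_mem (N.xz_le h) (inv_mem (N.Az_le hw))) N.z_sq)
      cases i <;> cases i' <;> simp only [cond_false, cond_true, mul_one, mul_inv_rev, N.z_inv] at h'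
      · simp only [inv_mul_eq_one.1 (N.eq_one_of_xpow hy0 h')]
      · rw [← mul_assoc, ← N.zT (N.Az_le hy0)] at h'
        exact absurd h' (hz0 _ hy0)
      · rw [mul_assoc] at h'
        exact absurd h' (hz0 _ hy0)
      · rw [show N.z * y⁻¹ * (y' * N.z) = N.z * (y⁻¹ * y') * N.z by group, N.zT (N.Az_le hy0),
          mul_assoc, N.z_sq, mul_one] at h'
        simp only [inv_mul_eq_one.1 (N.eq_one_of_xpow hy0 h')]
    · rintro ⟨q, hq⟩
      obtain ⟨g, hg, hgM, rfl⟩ := (mK q).1 hq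
      rcases (mM g).1 hgM with h | h
      · obtain ⟨y, hy, hyg⟩ := N.decomp h
        refine ⟨(⟨y, hy⟩, false), Subtype.ext ?_⟩
        simp only [φ, N.bar_eq, cond_false, mul_one]
        exact hyg
      · obtain ⟨y, hy, hyg⟩ := N.decomp h
        refine ⟨(⟨y, hy⟩, true), Subtype.ext ?_⟩
        simp only [φ, N.bar_eq, cond_true, mul_inv_rev, N.z_inv]
        have e : N.z * y⁻¹ * g = y⁻¹ * (g * N.z) := by
          rw [N.zT (inv_mem (N.Az_le hy)), mul_assoc, hMcomm _ hzM g hgM]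
        rw [e]; exact hyg
  have hKcard : Nat.card K = 18 := by
    rw [← Nat.card_eq_of_bijective φ hφ, Nat.card_prod, N.card_Az]
    simp
  obtain ⟨ψ, θ, e, q, m, Dt⟩ := hS.exists_data (by omega)
  have hG := Dt.card_G hS
  obtain ⟨p, v, hp, hv, hq⟩ := Dt.q_prime_pow hS
  obtain ⟨hq37, hm⟩ : q = 37 ∧ m = 19 := by
    rcases Dt.hcase with ⟨-, h1, h2⟩ | ⟨-, h1, h2⟩
    · exact ⟨by omega, by omega⟩
    · exfalso
      have hq35 : q = 35 := by omega
      have h5 : p ∣ 35 := hq35 ▸ hq ▸ dvd_pow_self p hv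
      have h35 : p = 5 ∨ p = 7 := by
        have := (Nat.prime_dvd_prime_iff_eq hp Nat.prime_five).1
        rcases (Nat.Prime.dvd_mul hp).1 (show p ∣ 5 * 7 from h5) with h | h
        · exact Or.inl (this h)
        · exact Or.inr ((Nat.prime_dvd_prime_iff_eq hp (by norm_num)).1 h)
      have hp5 : 5 ∣ p ^ v := by rw [← hq, hq35]; norm_num
      have hp7 : 7 ∣ p ^ v := by rw [← hq, hq35]; norm_num
      rcases h35 with rfl | rfl
      · exact absurd (Nat.Prime.dvd_of_dvd_pow (by norm_num) hp7) (by norm_num)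
      · exact absurd (Nat.Prime.dvd_of_dvd_pow (by norm_num) hp5) (by norm_num)
  rw [hq37, hm, hKcard] at hG
  -- a Sylow 37-subgroup normalized by `Az`
  haveI : Fact (Nat.Prime 37) := ⟨by norm_num⟩
  haveI : Fact (Nat.Prime 3) := ⟨Nat.prime_three⟩
  let f : N.Az →* N.Cx ⧸ N.Px := (QuotientGroup.mk' N.Px).comp
    (Subgroup.inclusion (fun y hy => N.mem_Cx.2 (N.T_comm (N.Az_le hy) N.x_mem)))
  have hf : Function.Injective f := by
    intro y y' h
    have h' : N.bar y.1 (N.T_comm (N.Az_le y.2) N.x_mem) =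
      N.bar y'.1 (N.T_comm (N.Az_le y'.2) N.x_mem) := h
    rw [N.bar_eq] at h'
    exact Subtype.ext (inv_mul_eq_one.1 (N.eq_one_of_xpow (mul_mem (inv_mem y.2) y'.2) h'))
  have hA : Nat.card f.range = 3 ^ (Nat.card (N.Cx ⧸ N.Px)).factorization 3 := by
    rw [← Nat.card_congr (MonoidHom.ofInjective hf).toEquiv, N.card_Az, hG]
    have h9 : (2 * 18 * (37 * 19)).factorization 3 = 2 :=
      factorization_eq_of (by norm_num) (by norm_num) (by norm_num) (by norm_num)
    rw [h9]; norm_num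
  let A3 : Sylow 3 (N.Cx ⧸ N.Px) := Sylow.ofCard f.range hA
  obtain ⟨P⟩ := (Sylow.nonempty : Nonempty (Sylow 37 (N.Cx ⧸ N.Px)))
  have hP37 : Nat.card (P : Subgroup (N.Cx ⧸ N.Px)) = 37 := by
    rw [P.card_eq_multiplicity, hG]
    have h1 : (2 * 18 * (37 * 19)).factorization 37 = 1 :=
      factorization_eq_of (by norm_num) (by norm_num) (by norm_num) (by norm_num)
    rw [h1, pow_one]
  have hn : Nat.card (Sylow 37 (N.Cx ⧸ N.Px)) ∈ ({1, 38} : Finset ℕ) := by
    have hd : Nat.card (Sylow 37 (N.Cx ⧸ N.Px)) ∣ 684 := by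
      have h1 := P.card_dvd_index
      have h2 := (P : Subgroup (N.Cx ⧸ N.Px)).card_mul_index
      rw [hP37, hG] at h2
      rwa [show (P : Subgroup (N.Cx ⧸ N.Px)).index = 684 by omega] at h1
    have hm1 : Nat.card (Sylow 37 (N.Cx ⧸ N.Px)) % 37 = 1 := card_sylow_modEq_one 37 _
    have key : ∀ n ∈ Nat.divisors 684, n % 37 = 1 → n ∈ ({1, 38} : Finset ℕ) := by decide +kernel
    exact key _ (Nat.mem_divisors.2 ⟨hd, by norm_num⟩) hm1
  set NP := normalizer ((P : Subgroup (N.Cx ⧸ N.Px)) : Set (N.Cx ⧸ N.Px)) with hNP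
  have h9N : 9 ∣ Nat.card NP := by
    have h1 := NP.card_mul_index
    have h2 : Nat.card (Sylow 37 (N.Cx ⧸ N.Px)) = (normalizer ((P : Subgroup (N.Cx ⧸ N.Px)) :
        Set (N.Cx ⧸ N.Px))).index := Sylow.card_eq_index_normalizer P
    rw [hNP] at h1
    rw [← h2, hG] at h1
    rw [hNP]
    rw [Finset.mem_insert, Finset.mem_singleton] at hn
    rcases hn with h | h <;> rw [h] at h1 <;> omega
  obtain ⟨B, hB⟩ := Sylow.exists_subgroup_card_pow_prime (G := NP) 3 (n := 2) (by norm_num; exact h9N)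
  have hBp : IsPGroup 3 (B.map NP.subtype) := IsPGroup.of_card (n := 2) (by
    rw [card_map_of_injective NP.subtype_injective, hB])
  obtain ⟨Q, hQ⟩ := hBp.exists_le_sylow
  obtain ⟨g, hg⟩ := MulAction.exists_smul_eq (N.Cx ⧸ N.Px) A3 Q
  -- `Az` normalizes the conjugate `P^g`
  have hQeq : B.map NP.subtype = (Q : Subgroup (N.Cx ⧸ N.Px)) := by
    refine Subgroup.eq_of_le_of_card_ge hQ ?_
    have h9 : Nat.factorization (2 * 18 * (37 * 19)) 3 = 2 :=
      factorization_eq_of (by norm_num) (by norm_num) (by norm_num) (by norm_num)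
    rw [card_map_of_injective NP.subtype_injective, hB, Q.card_eq_multiplicity, hG, h9]
  have hconjN : ∀ y : N.Az, g * f y * g⁻¹ ∈ NP := by
    intro y
    have h1 : g * f y * g⁻¹ ∈ (Q : Subgroup (N.Cx ⧸ N.Px)) := by
      rw [← hg, Sylow.coe_subgroup_smul]
      exact ⟨f y, ⟨y, rfl⟩, by simp [MulAut.smul_def]⟩
    rw [← hQeq] at h1
    obtain ⟨b, -, hb⟩ := h1
    rw [← hb]
    exact b.2
  haveI : IsCyclic (P : Subgroup (N.Cx ⧸ N.Px)) := isCyclic_of_prime_card hP37
  obtain ⟨π₀, hπ₀⟩ := IsCyclic.exists_generator (α := (P : Subgroup (N.Cx ⧸ N.Px)))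
  have hπ1 : (π₀ : N.Cx ⧸ N.Px) ≠ 1 := by
    intro h
    have h1 : π₀ = 1 := Subtype.ext h
    have : Subgroup.zpowers π₀ = ⊤ := by ext w; simp [hπ₀ w]
    rw [h1, Subgroup.zpowers_one_eq_bot] at this
    have h2 := congrArg (fun H : Subgroup (P : Subgroup (N.Cx ⧸ N.Px)) => Nat.card H) this
    simp only [card_bot, card_top, hP37] at h2
    omega
  have hπo : orderOf (π₀ : N.Cx ⧸ N.Px) = 37 := by
    rw [Subgroup.orderOf_coe, orderOf_eq_card_of_forall_mem_zpowers hπ₀, hP37]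
  have hexp : ∀ y : N.Az, ∃ i : ℕ, (g * f y * g⁻¹) * π₀ * (g * f y * g⁻¹)⁻¹ = (π₀ : N.Cx ⧸ N.Px) ^ i ∧
      ((i : ZMod 37)) ^ 3 = 1 := by
    intro y
    set a := g * f y * g⁻¹ with ha
    have hmem := (mem_normalizer_iff.1 (hconjN y) π₀).1 π₀.2
    obtain ⟨i, hi⟩ := (isOfFinOrder_of_finite π₀).mem_powers_iff_mem_zpowers.2 (hπ₀ ⟨_, hmem⟩)
    have hi' : a * π₀ * a⁻¹ = (π₀ : N.Cx ⧸ N.Px) ^ i := by
      exact (congrArg Subtype.val hi).symm.trans (by simp)
    refine ⟨i, hi', ?_⟩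
    have hc : ∀ k : ℕ, a ^ k * π₀ * (a ^ k)⁻¹ = (π₀ : N.Cx ⧸ N.Px) ^ (i ^ k) := by
      intro k
      induction k with
      | zero => simp
      | succ k ih =>
        rw [pow_succ a k, mul_inv_rev, show a ^ k * a * π₀ * (a⁻¹ * (a ^ k)⁻¹) =
          a ^ k * (a * π₀ * a⁻¹) * (a ^ k)⁻¹ by group, hi', ← conj_pow, ih, ← pow_mul, ← pow_succ]
    have h3 := hc 3
    have hy3 : a ^ 3 = 1 := by
      rw [ha, conj_pow, ← map_pow, show y ^ 3 = 1 from Subtype.ext (N.cube (N.Az_le y.2)), map_one,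
        mul_one, mul_inv_cancel]
    rw [hy3, one_mul, inv_one, mul_one] at h3
    nth_rewrite 1 [← pow_one (π₀ : N.Cx ⧸ N.Px)] at h3
    have := pow_eq_pow_iff_modEq.1 h3
    rw [hπo, ← ZMod.natCast_eq_natCast_iff] at this
    push_cast at this
    exact this.symm
  have hmul : ∀ y y' : N.Az, ∀ i j : ℕ,
      (g * f y * g⁻¹) * π₀ * (g * f y * g⁻¹)⁻¹ = (π₀ : N.Cx ⧸ N.Px) ^ i →
      (g * f y' * g⁻¹) * π₀ * (g * f y' * g⁻¹)⁻¹ = (π₀ : N.Cx ⧸ N.Px) ^ j →
      (g * f (y * y') * g⁻¹) * π₀ * (g * f (y * y') * g⁻¹)⁻¹ = (π₀ : N.Cx ⧸ N.Px) ^ (i * j) := by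
    intro y y' i j h h'
    have e : g * f (y * y') * g⁻¹ = (g * f y * g⁻¹) * (g * f y' * g⁻¹) := by rw [map_mul]; group
    rw [e, mul_inv_rev, show g * f y * g⁻¹ * (g * f y' * g⁻¹) * π₀ * ((g * f y' * g⁻¹)⁻¹ *
      (g * f y * g⁻¹)⁻¹) = g * f y * g⁻¹ * ((g * f y' * g⁻¹) * π₀ * (g * f y' * g⁻¹)⁻¹) *
      (g * f y * g⁻¹)⁻¹ by group, h', ← conj_pow, h, ← pow_mul]
  -- a non-identity element of `Az` fixing the generator
  have hfix : ∀ (y : N.Az), y ≠ 1 → ∀ i : ℕ,
      (g * f y * g⁻¹) * π₀ * (g * f y * g⁻¹)⁻¹ = (π₀ : N.Cx ⧸ N.Px) ^ i → (i : ZMod 37) ≠ 1 := by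
    intro y hy1 i h hi1
    have hi37 : (π₀ : N.Cx ⧸ N.Px) ^ i = π₀ := by
      nth_rewrite 2 [← pow_one (π₀ : N.Cx ⧸ N.Px)]
      rw [pow_eq_pow_iff_modEq, hπo, ← ZMod.natCast_eq_natCast_iff, hi1, Nat.cast_one]
    rw [hi37] at h
    set w := g⁻¹ * (π₀ : N.Cx ⧸ N.Px) * g with hw
    have hwy : w * f y * w⁻¹ = f y := by
      have h' : g * f y * g⁻¹ * π₀ = (π₀ : N.Cx ⧸ N.Px) * (g * f y * g⁻¹) := mul_inv_eq_iff_eq_mul.1 h
      rw [hw]
      calc g⁻¹ * (π₀ : N.Cx ⧸ N.Px) * g * f y * (g⁻¹ * π₀ * g)⁻¹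
          = g⁻¹ * ((π₀ : N.Cx ⧸ N.Px) * (g * f y * g⁻¹)) * (π₀ : N.Cx ⧸ N.Px)⁻¹ * g := by group
        _ = g⁻¹ * (g * f y * g⁻¹ * π₀) * (π₀ : N.Cx ⧸ N.Px)⁻¹ * g := by rw [h']
        _ = _ := by group
    have hw37 : orderOf w = 37 := by
      rw [hw, show g⁻¹ * (π₀ : N.Cx ⧸ N.Px) * g = MulAut.conj g⁻¹ π₀ by
        rw [MulAut.conj_apply, inv_inv], MulEquiv.orderOf_eq, hπo]
    obtain ⟨k, hk, hwk⟩ := N.exists_bar w
    have hy1' : (y : G) ≠ 1 := fun e => hy1 (Subtype.ext e)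
    have hfy : f y = N.bar y (N.T_comm (N.Az_le y.2) N.x_mem) := rfl
    rw [hwk, hfy, N.bar_inv, N.bar_mul, N.bar_mul, N.bar_eq] at hwy
    have hkz : k * N.z = N.z * k := N.cent_bar_y hk y.2 hy1' y.2 hy1' hwy
    have hwC : w ∈ centralizer ({zb} : Set (N.Cx ⧸ N.Px)) := mem_centralizer_singleton_iff.2 (by
      rw [hwk, hzb, N.bar_mul, N.bar_mul]; simp only [hkz])
    rcases (hS.mem_H).1 hwC with hj | hj
    · have := (Subgroup.orderOf_dvd_natCard K hj)
      rw [hw37, hKcard] at this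
      norm_num at this
    · have hinv := hinvK _ hj
      have hw2 : w * w = 1 := by
        have e : ub * (w * ub) * ub⁻¹ = ub * w := by group
        rw [e, mul_inv_rev, inv_eq_of_mul_eq_one_right hub2] at hinv
        have := mul_left_cancel hinv
        nth_rewrite 1 [this]
        exact inv_mul_cancel w
      have := orderOf_dvd_of_pow_eq_one (show w ^ 2 = 1 by rw [pow_two, hw2])
      rw [hw37] at this
      norm_num at this
  let yd : N.Az := ⟨N.d, N.d_mem_Az⟩
  let yc : N.Az := ⟨N.c, N.c_mem_Az⟩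
  obtain ⟨i, hi, hi3⟩ := hexp yd
  obtain ⟨j, hj, hj3⟩ := hexp yc
  have hne : ∀ a b : ℕ, a < 3 → b < 3 → (a, b) ≠ (0, 0) → yd ^ a * yc ^ b ≠ 1 := by
    intro a b ha hb hab h
    have h' : N.d ^ a * N.c ^ b = 1 := congrArg Subtype.val h
    have hab' : Commute N.a N.b := N.ab
    rw [d, hab'.inv_right.mul_pow, inv_pow,
      (eq_inv_of_mul_eq_one_left (by rw [← pow_add, show 2 * a + a = 3 * a by ring, pow_mul, N.b3, one_pow]) :
        N.b ^ (2 * a) = (N.b ^ a)⁻¹).symm] at h'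
    obtain ⟨h1, -, h3⟩ := N.indep _ _ _ h'
    refine hab ?_
    simp only [Prod.mk.injEq]
    omega
  rcases zmod37 _ _ hi3 hj3 with h | h | h | h
  · exact hfix yd (by simpa using hne 1 0 (by norm_num) (by norm_num) (by simp)) i hi h
  · exact hfix yc (by simpa using hne 0 1 (by norm_num) (by norm_num) (by simp)) j hj h
  · refine hfix (yd * yc) (by simpa using hne 1 1 (by norm_num) (by norm_num) (by simp)) _
      (hmul _ _ _ _ hi hj) ?_
    push_cast
    exact h
  · refine hfix (yd * yc * yc) (by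
        rw [mul_assoc, ← pow_two]
        simpa using hne 1 2 (by norm_num) (by norm_num) (by simp)) _
      (hmul _ _ _ _ (hmul _ _ _ _ hi hj) hj) ?_
    push_cast
    exact h

end NineData

end CfsgLib.Recog.DoubleAlt
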