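import Cfsg.Agent.Lib.Recog.DoubleAlt.Fusion
import Cfsg.Agent.Lib.Recog.DoubleAlt.NinePerm
import Cfsg.Agent.Lib.Recog.DoubleAlt.NineQuot

/-!
The local data of the odd-local argument, obtained from a set-up of degree nine.
-/

set_option autoImplicit false
set_option linter.unusedSectionVars false
set_option linter.style.haveILetI false

namespace CfsgLib.Recog.DoubleAlt

open Equiv Subgroup NinePerm

variable {G : Type*} [Group G] [Finite G] (S : Setup G 9)

namespace Setup

/-- A lift of order dividing three. -/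
theorem lift_three {p : Perm (Fin 9)} (hs : Perm.sign p = 1) (h3 : p ^ 3 = 1) :
    ∃ x, S.π x = p ∧ x ^ 3 = 1 :=
  (S.exists_odd_lift hs (by decide) h3).exists

theorem eq_of_three {x y : centralizer ({S.z} : Set G)} (h : S.π x = S.π y) (hx : x ^ 3 = 1)
    (hy : y ^ 3 = 1) : x = y := by
  have h3 : S.π y ^ 3 = 1 := by rw [← map_pow, hy, map_one]
  exact (S.exists_odd_lift (S.sign_π y) (by decide) h3).unique ⟨h, hx⟩ ⟨rfl, hy⟩

/-- Conjugation is computed in the image for elements of order three. -/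
theorem conj_three {g x y : centralizer ({S.z} : Set G)} (hx : x ^ 3 = 1) (hy : y ^ 3 = 1)
    (h : S.π g * S.π x = S.π y * S.π g) : g * x = y * g := by
  refine mul_inv_eq_iff_eq_mul.1 (S.eq_of_three ?_ (by rw [conj_pow, hx, mul_one, mul_inv_cancel]) hy)
  rw [map_mul, map_mul, map_inv, h, mul_inv_cancel_right]

/-- Odd-order elements do not meet the central involution. -/
theorem eq_one_of_odd {w : centralizer ({S.z} : Set G)} (h : S.π w = 1) (ho : Odd (orderOf w)) :
    w = 1 := by
  refine ((S.ker' w).1 h).resolve_right fun e => ?_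
  have h2 : orderOf w ∣ 2 := orderOf_dvd_of_pow_eq_one (by rw [e, pow_two, S.zc_sq])
  rcases (Nat.dvd_prime Nat.prime_two).1 h2 with e1 | e1
  · exact S.zc_ne (e ▸ orderOf_eq_one_iff.1 e1)
  · rw [e1] at ho
    exact absurd ho (by decide)

/-- The properties of the centralizer of a 3-cycle. -/
theorem core_aux {q : centralizer ({S.z} : Set G)} {p : Perm (Fin 9)} {x₀ : Fin 9}
    (hq : S.π q = p) (hq3 : q ^ 3 = 1) (hp0 : p x₀ ≠ x₀) (hp00 : p (p x₀) ≠ x₀)
    (horb : ∀ w, p w ≠ w → w = x₀ ∨ w = p x₀ ∨ w = p (p x₀)) (hp3 : p (p (p x₀)) = x₀)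
    (hsupp : p.support.card = 3) (hfix : 5 ≤ Nat.card {w : Fin 9 // p w = w}) :
    (∀ i : G, i * i = 1 → i * S.z = S.z * i → i * (q : G) = q * i → i = 1 ∨ i = S.z) ∧
    ∀ H : Subgroup G, Odd (Nat.card H) → (∀ h ∈ H, h * S.z = S.z * h ∧ h * (q : G) = q * h) →
      (∀ g, g * S.z = S.z * g → g * (q : G) = q * g → ∀ h ∈ H, g * h * g⁻¹ ∈ H) →
      H ≤ zpowers (q : G) := by
  constructor
  · intro i hi hiz hiq
    by_contra hcon
    obtain ⟨hi1, hi2⟩ := not_or.1 hcon
    set ic : centralizer ({S.z} : Set G) := ⟨i, mem_centralizer_singleton_iff.2 hiz⟩ with hic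
    have h2 : ic * ic = 1 := Subtype.ext hi
    have h8 := S.invol_eight (x := ic) (by norm_num) h2 (fun e => hi1 (congrArg Subtype.val e))
      (fun e => hi2 (congrArg Subtype.val e))
    have hc : S.π ic * p = p * S.π ic := by
      rw [← hq, ← map_mul, ← map_mul, show ic * q = q * ic from Subtype.ext hiq]
    have hpi : S.π ic * S.π ic = 1 := by rw [← map_mul, h2, map_one]
    have hd : _root_.Disjoint (S.π ic).support p.support := by
      rw [Finset.disjoint_left]
      intro w hw hw'
      exact Perm.mem_support.1 hw (invol_fix hp0 hp00 horb hp3 hpi hc w (Perm.mem_support.1 hw'))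
    have h9 : (S.π ic).support.card + p.support.card ≤ 9 := by
      rw [← Finset.card_union_of_disjoint hd]
      exact (Finset.card_le_univ _).trans_eq (Fintype.card_fin 9)
    omega
  · intro H hodd hH hn h hh
    let Hc : Subgroup (centralizer ({S.z} : Set G)) := H.subgroupOf _
    have hle : H ≤ centralizer ({S.z} : Set G) :=
      fun g hg => mem_centralizer_singleton_iff.2 (hH g hg).1
    have hHc : Nat.card Hc = Nat.card H := Nat.card_congr (subgroupOfEquivOfLe hle).toEquiv
    have hKodd : Odd (Nat.card (Hc.map S.π)) :=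
      Odd.of_dvd_nat hodd (hHc ▸ Subgroup.card_map_dvd _ _)
    have hK : ∀ σ ∈ Hc.map S.π, Perm.sign σ = 1 ∧ σ * p = p * σ := by
      rintro σ ⟨g, hg, rfl⟩
      refine ⟨S.sign_π g, ?_⟩
      rw [← hq, ← map_mul, ← map_mul, show g * q = q * g from Subtype.ext (hH _ hg).2]
    have hKn : ∀ τ, Perm.sign τ = 1 → τ * p = p * τ → ∀ σ ∈ Hc.map S.π,
        τ * σ * τ⁻¹ ∈ Hc.map S.π := by
      rintro τ hτ hτp σ ⟨g, hg, rfl⟩
      obtain ⟨t, rfl⟩ := S.exists_lift hτ
      have htq : t * q = q * t := S.conj_three hq3 hq3 (by rw [hq]; exact hτp)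
      refine ⟨t * g * t⁻¹, ?_, by rw [map_mul, map_mul, map_inv]⟩
      exact hn _ (mem_centralizer_singleton_iff.1 t.2) (congrArg Subtype.val htq) _ hg
    set hc : centralizer ({S.z} : Set G) := ⟨h, hle hh⟩ with hhc
    have hhmem : hc ∈ Hc := hh
    obtain ⟨i, hi⟩ := odd_normal hp0 horb hfix _ hKodd hK hKn (S.π hc) ⟨hc, hhmem, rfl⟩
    have hcq : Commute hc q := Subtype.ext (hH h hh).2
    have ho : Odd (orderOf ((q ^ i)⁻¹ * hc)) := by
      have h1 : orderOf hc ∣ Nat.card H := hHc ▸ orderOf_dvd_natCard Hc hhmem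
      have h2 : orderOf (q ^ i)⁻¹ ∣ 3 := orderOf_dvd_of_pow_eq_one (by
        rw [inv_pow, ← pow_mul, Nat.mul_comm, pow_mul, hq3, one_pow, inv_one])
      exact Odd.of_dvd_nat ((Nat.odd_mul.2 ⟨by decide, hodd⟩))
        ((hcq.symm.pow_left i).inv_left.orderOf_mul_dvd_lcm.trans
          ((Nat.lcm_dvd_mul _ _).trans (Nat.mul_dvd_mul h2 h1)))
    have he := S.eq_one_of_odd (by rw [map_mul, map_inv, map_pow, hq, hi, inv_mul_cancel]) ho
    refine mem_zpowers_iff.2 ⟨(i : ℤ), ?_⟩
    rw [zpow_natCast]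
    have := congrArg Subtype.val (inv_mul_eq_one.1 he)
    simpa using this

/-- A subgroup of order nine does not centralize the two involutions. -/
theorem not_nine_dvd {u : centralizer ({S.z} : Set G)} (hu : S.π u = pu) :
    ¬ 9 ∣ Nat.card (centralizer ({u} : Set (centralizer ({S.z} : Set G)))) := by
  intro h9
  haveI : Fact (Nat.Prime 3) := ⟨Nat.prime_three⟩
  obtain ⟨P, hP⟩ := Sylow.exists_subgroup_card_pow_prime
    (G := centralizer ({u} : Set (centralizer ({S.z} : Set G)))) 3 (n := 2) (by norm_num; exact h9)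
  let f : P →* centralizer ({pu} : Set (Perm (Fin 9))) :=
    (S.π.comp ((centralizer ({u} : Set (centralizer ({S.z} : Set G)))).subtype.comp P.subtype)).codRestrict _
      fun w => mem_centralizer_singleton_iff.2 (by
        show S.π w.1.1 * pu = pu * S.π w.1.1
        rw [← hu, ← map_mul, ← map_mul, mem_centralizer_singleton_iff.1 w.1.2])
  have hf : Function.Injective f := by
    rw [injective_iff_map_eq_one]
    intro w hw
    have h1 : S.π w.1.1 = 1 := congrArg Subtype.val hw
    have h2 : orderOf w.1.1 ∣ 3 ^ 2 := by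
      rw [Subgroup.orderOf_coe, Subgroup.orderOf_coe, ← hP]
      exact orderOf_dvd_natCard w
    have h3 := S.eq_one_of_odd h1 (Odd.of_dvd_nat (by decide) h2)
    exact Subtype.ext (Subtype.ext h3)
  have hd := Subgroup.card_dvd_of_injective f hf
  rw [hP, Perm.nat_card_centralizer] at hd
  have hct : pu.cycleType = {2, 2, 2, 2} := by decide +kernel
  rw [hct] at hd
  revert hd
  decide +kernel

/-- An element rotating `z, u, u * z` and centralizing `x`. -/
theorem exists_rotation {u k x : centralizer ({S.z} : Set G)} (hu : S.π u = pu) (hu2 : u * u = 1)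
    (hu1 : u ≠ 1) (huz : u ≠ S.zc) (hku : k * u = u * S.zc * k) (hx3 : x ^ 3 = 1) (hx1 : x ≠ 1)
    (hxu : u * x = x * u) :
    ∃ r : G, r * (x : G) = x * r ∧ r * S.z = u * r ∧ r * (u : G) = (u : G) * S.z * r := by
  haveI : Fact (Nat.Prime 3) := ⟨Nat.prime_three⟩
  obtain ⟨g, hgz, hgu⟩ := S.exists_exchange (by norm_num) hu2 hu1 huz
  have hgz' : g * S.z = u * g := mul_inv_eq_iff_eq_mul.1 hgz
  have hgu' : g * (u : G) = S.z * g := mul_inv_eq_iff_eq_mul.1 hgu
  have huz' : (u : G) * S.z = S.z * u := mem_centralizer_singleton_iff.1 u.2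
  have hkz : (k : G) * S.z = S.z * k := mem_centralizer_singleton_iff.1 k.2
  have hku' : (k : G) * u = u * S.z * k := congrArg Subtype.val hku
  set r₀ := g * (k : G) with hr₀
  have hr0z : SemiconjBy r₀ S.z (u : G) := by
    show g * (k : G) * S.z = u * (g * k)
    rw [mul_assoc, hkz, ← mul_assoc, hgz', mul_assoc]
  have hr0u : SemiconjBy r₀ (u : G) ((u : G) * S.z) := by
    show g * (k : G) * u = u * S.z * (g * k)
    calc g * (k : G) * u = g * ((k : G) * u) := mul_assoc _ _ _
      _ = (g * u) * S.z * k := by rw [hku']; group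
      _ = S.z * (g * S.z) * k := by rw [hgu']; group
      _ = S.z * u * (g * k) := by rw [hgz']; group
      _ = _ := by rw [huz']
  set C := centralizer ({u} : Set (centralizer ({S.z} : Set G))) with hC
  have hxC : x ∈ C := mem_centralizer_singleton_iff.2 hxu.symm
  set y : G := r₀ * (x : G) * r₀⁻¹ with hy
  have hcy : ∀ v v' : G, SemiconjBy r₀ v v' → Commute (x : G) v → Commute y v' := by
    intro v v' h hc
    show r₀ * (x : G) * r₀⁻¹ * v' = v' * (r₀ * (x : G) * r₀⁻¹)
    have e : v' = r₀ * v * r₀⁻¹ := by rw [h.eq, mul_inv_cancel_right]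
    rw [e, show r₀ * (x : G) * r₀⁻¹ * (r₀ * v * r₀⁻¹) = r₀ * ((x : G) * v) * r₀⁻¹ by group, hc.eq]
    group
  have hcxz : Commute (x : G) S.z := mem_centralizer_singleton_iff.1 x.2
  have hcxu : Commute (x : G) u := congrArg Subtype.val hxu.symm
  have hyu : Commute y u := hcy _ _ hr0z hcxz
  have hyz : Commute y S.z := by
    have h1 := hyu.mul_right (hcy _ _ hr0u hcxu)
    rwa [← mul_assoc, show (u : G) * u = 1 from congrArg Subtype.val hu2, one_mul] at h1
  let yc : centralizer ({S.z} : Set G) := ⟨y, mem_centralizer_singleton_iff.2 hyz⟩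
  have hyC : yc ∈ C := mem_centralizer_singleton_iff.2 (Subtype.ext hyu)
  have hox : orderOf (⟨x, hxC⟩ : C) = 3 := by
    rw [← Subgroup.orderOf_coe]
    exact orderOf_eq_prime hx3 hx1
  have hoy : orderOf (⟨yc, hyC⟩ : C) = 3 := by
    rw [← Subgroup.orderOf_coe, ← Subgroup.orderOf_coe]
    show orderOf y = 3
    refine orderOf_eq_prime ?_ ?_
    · rw [hy, conj_pow, show (x : G) ^ 3 = 1 from congrArg Subtype.val hx3, mul_one, mul_inv_cancel]
    · intro e
      exact hx1 (Subtype.ext (conj_eq_one_iff.1 e))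
  have hfac : (Nat.card C).factorization 3 = 1 := by
    refine factorization_eq_of Nat.prime_three ?_ (S.not_nine_dvd hu) Nat.card_pos.ne'
    rw [pow_one, ← hox]
    exact orderOf_dvd_natCard _
  let P : Sylow 3 C := Sylow.ofCard (zpowers ⟨x, hxC⟩)
    (by rw [Nat.card_zpowers, hox, hfac]; norm_num)
  let Q : Sylow 3 C := Sylow.ofCard (zpowers ⟨yc, hyC⟩)
    (by rw [Nat.card_zpowers, hoy, hfac]; norm_num)
  obtain ⟨h, hh⟩ := MulAction.exists_smul_eq C Q P
  have hmem : h * ⟨yc, hyC⟩ * h⁻¹ ∈ zpowers (⟨x, hxC⟩ : C) := by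
    have h1 : h * ⟨yc, hyC⟩ * h⁻¹ ∈ ((h • Q : Sylow 3 C) : Subgroup C) := by
      rw [Sylow.coe_subgroup_smul]
      exact ⟨⟨yc, hyC⟩, mem_zpowers _, by simp [MulAut.smul_def]⟩
    rw [hh] at h1
    exact h1
  obtain ⟨m, hm3, hm⟩ : ∃ m < 3, (⟨x, hxC⟩ : C) ^ m = h * ⟨yc, hyC⟩ * h⁻¹ := by
    obtain ⟨m, hm⟩ := (isOfFinOrder_of_finite _).mem_powers_iff_mem_zpowers.2 hmem
    exact ⟨m % 3, Nat.mod_lt _ (by norm_num), by rw [← hox, pow_mod_orderOf]; exact hm⟩
  set r₁ : G := (h.1.1 : G) * r₀ with hr₁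
  have hhz : Commute (h.1.1 : G) S.z := mem_centralizer_singleton_iff.1 h.1.2
  have hhu : Commute (h.1.1 : G) u :=
    congrArg Subtype.val (mem_centralizer_singleton_iff.1 h.2)
  have hr1z : SemiconjBy r₁ S.z (u : G) := SemiconjBy.mul_left hhu hr0z
  have hr1u : SemiconjBy r₁ (u : G) ((u : G) * S.z) := SemiconjBy.mul_left (hhu.mul_right hhz) hr0u
  have hr1x : SemiconjBy r₁ (x : G) ((x : G) ^ m) := by
    have e : ((x : G)) ^ m = (h.1.1 : G) * y * (h.1.1 : G)⁻¹ :=
      congrArg (fun w : C => ((w : centralizer ({S.z} : Set G)) : G)) hm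
    show r₁ * x = (x : G) ^ m * r₁
    rw [e, hr₁, hy]
    group
  have hr1w : SemiconjBy r₁ ((u : G) * S.z) S.z := by
    have := hr1u.mul_right hr1z
    rwa [mul_assoc, ← huz', ← mul_assoc, show (u : G) * u = 1 from congrArg Subtype.val hu2,
      one_mul] at this
  have hxm : ∀ n : ℕ, SemiconjBy (r₁ ^ n) (x : G) ((x : G) ^ (m ^ n)) := by
    intro n
    induction n with
    | zero => simp
    | succ n ih =>
      rw [pow_succ' r₁, pow_succ m n, Nat.mul_comm, pow_mul]
      exact SemiconjBy.mul_left (hr1x.pow_right _) ih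
  have hsq : r₁ ^ 4 = r₁ * (r₁ * (r₁ * r₁)) := by simp [pow_succ, mul_assoc]
  refine ⟨r₁ ^ 4, ?_, ?_, ?_⟩
  · have h4 := hxm 4
    have hm4 : ∀ m' < 3, m' ≠ 0 → m' ^ 4 % 3 = 1 := by decide +kernel
    have hm0 : m ≠ 0 := by
      intro e
      rw [e, pow_zero] at hm
      have h5 : (⟨yc, hyC⟩ : C) = 1 := conj_eq_one_iff.1 hm.symm
      rw [h5, orderOf_one] at hoy
      exact absurd hoy (by norm_num)
    rw [pow_eq_pow_mod (m ^ 4) (show (x : G) ^ 3 = 1 from congrArg Subtype.val hx3),
      hm4 m hm3 hm0, pow_one] at h4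
    exact h4
  · rw [hsq]
    exact SemiconjBy.mul_left hr1z (SemiconjBy.mul_left hr1w (SemiconjBy.mul_left hr1u hr1z))
  · rw [hsq]
    exact SemiconjBy.mul_left hr1u (SemiconjBy.mul_left hr1z (SemiconjBy.mul_left hr1w hr1u))

include S in
/-- The local data of the odd-local argument. -/
theorem exists_nineData : Nonempty (NineData G) := by
  obtain ⟨a, hπa, ha3⟩ := S.lift_three sign_facts.1 pow_three.1
  obtain ⟨b, hπb, hb3⟩ := S.lift_three sign_facts.2.1 pow_three.2.1
  obtain ⟨c, hπc, hc3⟩ := S.lift_three sign_facts.2.2.1 pow_three.2.2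
  obtain ⟨u, hπu⟩ := S.exists_lift sign_facts.2.2.2.1
  obtain ⟨k, hπk⟩ := S.exists_lift sign_facts.2.2.2.2.1
  obtain ⟨g, hπg⟩ := S.exists_lift sign_facts.2.2.2.2.2
  have pab : Perm.Disjoint pa pb ∧ Perm.Disjoint pa pc ∧ Perm.Disjoint pb pc := by
    unfold Perm.Disjoint; decide +kernel
  have hab : a * b = b * a := (S.commute_disjoint (by rw [hπa, hπb]; exact pab.1)).eq
  have hac : a * c = c * a := (S.commute_disjoint (by rw [hπa, hπc]; exact pab.2.1)).eq
  have hbc : b * c = c * b := (S.commute_disjoint (by rw [hπb, hπc]; exact pab.2.2)).eq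
  have hu2 : u * u = 1 := by
    rw [S.sq_support (k := 2) (by rw [hπu]; decide +kernel) (by rw [hπu]; decide +kernel), pow_two,
      S.zc_sq]
  have hu1 : u ≠ 1 := fun e => by
    rw [e, map_one] at hπu; exact absurd hπu (by decide +kernel)
  have huz : u ≠ S.zc := fun e => by
    rw [e, S.π_zc] at hπu; exact absurd hπu (by decide +kernel)
  have huinv : u⁻¹ = u := inv_eq_of_mul_eq_one_right hu2
  have inv3 : ∀ w : centralizer ({S.z} : Set G), w ^ 3 = 1 → w⁻¹ ^ 3 = 1 := fun w hw => by
    rw [inv_pow, hw, inv_one]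
  have hua : u * a = b * u := S.conj_three ha3 hb3 (by rw [hπu, hπa, hπb]; decide +kernel)
  have hub : u * b = a * u := S.conj_three hb3 ha3 (by rw [hπu, hπb, hπa]; decide +kernel)
  have huc : u * c = c⁻¹ * u :=
    S.conj_three hc3 (inv3 c hc3) (by rw [map_inv, hπu, hπc]; decide +kernel)
  have hka : k * a = a⁻¹ * k :=
    S.conj_three ha3 (inv3 a ha3) (by rw [map_inv, hπk, hπa]; decide +kernel)
  have hkb : k * b = b⁻¹ * k :=
    S.conj_three hb3 (inv3 b hb3) (by rw [map_inv, hπk, hπb]; decide +kernel)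
  have hkc : k * c = c * k := S.conj_three hc3 hc3 (by rw [hπk, hπc]; decide +kernel)
  have hku : k * u = u * S.zc * k := by
    have h := S.mul_eq_pow (x := k) (y := u) (i := 1) (j := 2) (k := 2)
      (by rw [hπk]; decide +kernel) (by rw [hπu]; decide +kernel) (by rw [hπk, hπu]; decide +kernel)
      (by rw [hπk]; decide +kernel) (by rw [hπu]; decide +kernel) (by rw [hπk, hπu]; decide +kernel)
    rw [h, show S.zc ^ (2 + 1 + 2) = S.zc by
      rw [show (2 + 1 + 2 : ℕ) = 2 * 2 + 1 by norm_num, pow_succ, pow_mul, pow_two S.zc, S.zc_sq,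
        one_pow, one_mul], mul_assoc, mul_assoc, S.zc_comm k]
  have hx3 : (a * b) ^ 3 = 1 := by rw [(show Commute a b from hab).mul_pow, ha3, hb3, one_mul]
  have hx1 : a * b ≠ 1 := fun e => by
    have h := congrArg S.π e
    rw [map_mul, hπa, hπb, map_one] at h
    exact absurd h (by decide +kernel)
  have hxu : u * (a * b) = a * b * u := by
    rw [← mul_assoc, hua, mul_assoc, hub, ← mul_assoc, ← hab]
  obtain ⟨r, hrx, hrz, hru⟩ := S.exists_rotation hπu hu2 hu1 huz hku hx3 hx1 hxu
  have toC : ∀ w : G, w * S.z = S.z * w → ∃ wc : centralizer ({S.z} : Set G), (wc : G) = w :=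
    fun w hw => ⟨⟨w, mem_centralizer_singleton_iff.2 hw⟩, rfl⟩
  refine ⟨{ z := S.z, u := u, a := a, b := b, c := c, r := r, k := k
            z_sq := S.z_sq, z_ne := S.ne
            u_sq := congrArg Subtype.val hu2
            u_ne := fun e => hu1 (Subtype.ext e)
            zu := (mem_centralizer_singleton_iff.1 u.2).symm
            u_ne_z := fun e => huz (Subtype.ext e)
            a3 := congrArg Subtype.val ha3, b3 := congrArg Subtype.val hb3
            c3 := congrArg Subtype.val hc3
            za := (mem_centralizer_singleton_iff.1 a.2).symm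
            zb := (mem_centralizer_singleton_iff.1 b.2).symm
            zc := (mem_centralizer_singleton_iff.1 c.2).symm
            ab := congrArg Subtype.val hab, ac := congrArg Subtype.val hac
            bc := congrArg Subtype.val hbc
            ua := ?ua, uc := ?uc, indep := ?indep
            kz := mem_centralizer_singleton_iff.1 k.2
            ku := congrArg Subtype.val hku
            ka := congrArg Subtype.val hka, kb := congrArg Subtype.val hkb
            kc := congrArg Subtype.val hkc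
            rx := hrx, rz := hrz, ru := hru
            cent_x := ?cx, cent_dc := ?cdc, core := ?core, cov := ?cov }⟩
  case ua =>
    have h : u * a * u = b := by rw [hua, mul_assoc, hu2, mul_one]
    exact congrArg Subtype.val h
  case uc =>
    have h : u * c * u = c⁻¹ := by rw [huc, mul_assoc, hu2, mul_one]
    exact congrArg Subtype.val h
  case indep =>
    intro i j l h
    have h' : a ^ i * b ^ j * c ^ l = 1 := Subtype.ext (by simpa using h)
    have hp := congrArg S.π h'
    rw [map_mul, map_mul, map_pow, map_pow, map_pow, hπa, hπb, hπc, map_one,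
      pow_eq_pow_mod i pow_three.1, pow_eq_pow_mod j pow_three.2.1,
      pow_eq_pow_mod l pow_three.2.2] at hp
    have key : ∀ i' : Fin 3, ∀ j' : Fin 3, ∀ l' : Fin 3,
        pa ^ i'.val * pb ^ j'.val * pc ^ l'.val = 1 →
        i'.val = 0 ∧ j'.val = 0 ∧ l'.val = 0 := by decide +kernel
    obtain ⟨e1, e2, e3⟩ := key ⟨i % 3, Nat.mod_lt _ (by norm_num)⟩ ⟨j % 3, Nat.mod_lt _ (by norm_num)⟩
      ⟨l % 3, Nat.mod_lt _ (by norm_num)⟩ hp
    exact ⟨Nat.dvd_of_mod_eq_zero e1, Nat.dvd_of_mod_eq_zero e2, Nat.dvd_of_mod_eq_zero e3⟩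
  case cx =>
    intro w hwz hwx
    obtain ⟨wc, rfl⟩ := toC w hwz
    have hwx' : wc * (a * b) = a * b * wc := Subtype.ext hwx
    have hp := congrArg S.π hwx'
    simp only [map_mul, hπa, hπb] at hp
    obtain ⟨i, j, l, e⟩ := cent_x (S.sign_π wc) hp
    refine ⟨(a : G) ^ i * (b : G) ^ j * (c : G) ^ l,
      mul_mem (mul_mem (pow_mem (subset_closure (by simp)) _) (pow_mem (subset_closure (by simp)) _))
        (pow_mem (subset_closure (by simp)) _), ?_⟩
    have ht : S.π (a ^ i * b ^ j * c ^ l) = pa ^ i * pb ^ j * pc ^ l := by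
      rw [map_mul, map_mul, map_pow, map_pow, map_pow, hπa, hπb, hπc]
    rcases e with e | e
    · rcases S.eq_or (e.trans ht.symm) with h | h <;> rw [h]
      · exact Or.inl (by simp)
      · exact Or.inr (Or.inl (by simp [Setup.zc]))
    · rcases S.eq_or (x := wc) (y := a ^ i * b ^ j * c ^ l * u)
        (by rw [map_mul, ht, hπu, e]) with h | h <;> rw [h]
      · exact Or.inr (Or.inr (Or.inl (by simp)))
      · exact Or.inr (Or.inr (Or.inr (by simp [Setup.zc, mul_assoc])))
  case cdc =>
    intro w hwz hwd hwc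
    obtain ⟨wc, rfl⟩ := toC w hwz
    have hd' : wc * (a * b⁻¹) = a * b⁻¹ * wc := Subtype.ext (by simpa using hwd)
    have hc' : wc * c = c * wc := Subtype.ext hwc
    have hp := congrArg S.π hd'
    have hq := congrArg S.π hc'
    simp only [map_mul, map_inv, hπa, hπb, hπc] at hp hq
    have := S.conj_three (g := wc) hx3 hx3
      (by rw [map_mul, hπa, hπb]; exact cent_dc (S.sign_π wc) hp hq)
    exact congrArg Subtype.val this
  case core =>
    rintro p (rfl | rfl)
    · exact S.core_aux (x₀ := 0) hπa ha3 (by decide +kernel) (by decide +kernel) (by decide +kernel)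
        (by decide +kernel) (by decide +kernel)
        (by rw [Nat.card_eq_fintype_card]; decide +kernel)
    · exact S.core_aux (x₀ := 6) hπc hc3 (by decide +kernel) (by decide +kernel) (by decide +kernel)
        (by decide +kernel) (by decide +kernel)
        (by rw [Nat.card_eq_fintype_card]; decide +kernel)
  case cov =>
    have hgc : g * c = c * g := S.conj_three hc3 hc3 (by rw [hπg, hπc]; decide +kernel)
    set w := a * b * (g * (a * b) * g⁻¹) with hw
    have hπw : S.π w = swap 0 1 * swap 2 3 := by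
      rw [hw]
      simp only [map_mul, map_inv, hπa, hπb, hπg]
      decide +kernel
    have hwz : (w : G) * w = S.z := congrArg Subtype.val (S.sq_two (by decide) hπw)
    have h1 : (a : G) * b ∈ closure {y | ∃ v, v * S.z = S.z * v ∧ v * (c : G) = c * v ∧
        y = v * ((a : G) * b) * v⁻¹} :=
      subset_closure ⟨1, by group, by group, by group⟩
    have h2 : (g : G) * ((a : G) * b) * (g : G)⁻¹ ∈ closure {y | ∃ v, v * S.z = S.z * v ∧
        v * (c : G) = c * v ∧ y = v * ((a : G) * b) * v⁻¹} :=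
      subset_closure ⟨g, mem_centralizer_singleton_iff.1 g.2, congrArg Subtype.val hgc, rfl⟩
    have e : (w : G) = a * b * (g * (a * b) * (g : G)⁻¹) := by rw [hw]; simp
    have h3 : (w : G) * w ∈ closure {y | ∃ v, v * S.z = S.z * v ∧ v * (c : G) = c * v ∧
        y = v * ((a : G) * b) * v⁻¹} := by
      rw [e]
      exact mul_mem (mul_mem h1 h2) (mul_mem h1 h2)
    rw [hwz] at h3
    exact h3

end Setup

/-- Degree nine is impossible. -/
theorem false_nine (S : Setup G 9) : False := by
  obtain ⟨N⟩ := S.exists_nineData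
  exact N.absurd_data

end CfsgLib.Recog.DoubleAlt
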