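import Cfsg.Agent.Lib.Recog.DoubleAlt.NineAxes

/-!
No non-identity element of `Au` centralizes `Az`.
-/

set_option autoImplicit false
set_option linter.unusedSectionVars false

namespace CfsgLib.Recog.DoubleAlt

open Subgroup

variable {G : Type*} [Group G] [Finite G]

namespace NineData

variable (N : NineData G)

theorem card_Az : Nat.card N.Az = 9 := by
  let f : Fin 3 × Fin 3 → N.Az := fun p =>
    ⟨N.d ^ (p.1 : ℕ) * N.c ^ (p.2 : ℕ), N.mem_Az.2 ⟨_, _, rfl⟩⟩
  have hd : N.d ^ 3 = 1 := N.cube N.d_mem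
  have hinj : Function.Injective f := by
    rintro ⟨i, l⟩ ⟨i', l'⟩ h
    have h' : N.d ^ (i : ℕ) * N.c ^ (l : ℕ) = N.d ^ (i' : ℕ) * N.c ^ (l' : ℕ) := congrArg Subtype.val h
    have h1 : N.d ^ ((i : ℕ) + 2 * i') * N.c ^ ((l : ℕ) + 2 * l') = 1 := by
      rw [pow_add, pow_add]
      calc N.d ^ (i : ℕ) * N.d ^ (2 * (i' : ℕ)) * (N.c ^ (l : ℕ) * N.c ^ (2 * (l' : ℕ)))
          = N.d ^ (i : ℕ) * N.c ^ (l : ℕ) * (N.d ^ (2 * (i' : ℕ)) * N.c ^ (2 * (l' : ℕ))) := by
            rw [Commute.mul_mul_mul_comm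
              (N.T_comm (pow_mem N.d_mem _) (pow_mem N.c_mem _))]
        _ = N.d ^ (i' : ℕ) * N.c ^ (l' : ℕ) * (N.d ^ (2 * (i' : ℕ)) * N.c ^ (2 * (l' : ℕ))) := by rw [h']
        _ = N.d ^ ((i' : ℕ) + 2 * i') * N.c ^ ((l' : ℕ) + 2 * l') := by
            rw [pow_add, pow_add, Commute.mul_mul_mul_comm
              (N.T_comm (pow_mem N.c_mem _) (pow_mem N.d_mem _))]
        _ = 1 := by
            rw [show (i' : ℕ) + 2 * i' = 3 * i' by ring, show (l' : ℕ) + 2 * l' = 3 * l' by ring,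
              pow_mul, pow_mul, hd, N.c3, one_pow, one_pow, one_mul]
    rw [d, (show Commute N.a N.b⁻¹ from (show Commute N.a N.b from N.ab).inv_right).mul_pow, inv_pow] at h1
    have h2 : ∀ m : ℕ, (N.b ^ m)⁻¹ = N.b ^ (2 * m) := fun m =>
      (eq_inv_of_mul_eq_one_left (by
        rw [← pow_add, show 2 * m + m = 3 * m by ring, pow_mul, N.b3, one_pow])).symm
    rw [h2] at h1
    obtain ⟨ha, -, hc⟩ := N.indep _ _ _ h1
    have hi := i.isLt
    have hi' := i'.isLt
    have hl := l.isLt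
    have hl' := l'.isLt
    refine Prod.ext (Fin.ext ?_) (Fin.ext ?_) <;> dsimp only <;> omega
  have hsurj : Function.Surjective f := by
    rintro ⟨g, hg⟩
    obtain ⟨i, l, rfl⟩ := N.mem_Az.1 hg
    refine ⟨(⟨i % 3, Nat.mod_lt _ (by norm_num)⟩, ⟨l % 3, Nat.mod_lt _ (by norm_num)⟩), Subtype.ext ?_⟩
    show N.d ^ (i % 3) * N.c ^ (l % 3) = N.d ^ i * N.c ^ l
    rw [← pow_eq_pow_mod i hd, ← pow_eq_pow_mod l N.c3]
  rw [← Nat.card_eq_of_bijective f ⟨hinj, hsurj⟩]
  simp

/-- No non-identity element of `Au` centralizes `Az`. -/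
theorem Au_inf_centralizer : N.Au ⊓ centralizer (N.Az : Set G) = ⊥ := by
  by_contra hQ
  let φr : G ≃* G := MulAut.conj N.r
  let φk : G ≃* G := MulAut.conj N.k
  have rz : N.Az.map φr.toMonoidHom = N.Au := rfl
  have ru : N.Au.map φr.toMonoidHom = N.Aw := rfl
  have rw' : N.Aw.map φr.toMonoidHom = N.Az := N.map_r_Aw
  set P := N.Az ⊓ centralizer (N.Au : Set G) with hP
  set P' := N.Az ⊓ centralizer (N.Aw : Set G) with hP'
  set Q := N.Au ⊓ centralizer (N.Az : Set G) with hQd
  set Q' := N.Aw ⊓ centralizer (N.Az : Set G) with hQ'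
  set R := N.Au ⊓ centralizer (N.Aw : Set G) with hR
  set R' := N.Aw ⊓ centralizer (N.Au : Set G) with hR'
  have mP : P.map φr.toMonoidHom = R := by rw [hP, map_inf_centralizer, rz, ru]
  have mP' : P'.map φr.toMonoidHom = Q := by rw [hP', map_inf_centralizer, rz, rw']
  have mQ : Q.map φr.toMonoidHom = R' := by rw [hQd, map_inf_centralizer, ru, rz]
  have mR : R.map φr.toMonoidHom = Q' := by rw [hR, map_inf_centralizer, ru, rw']
  have mQ' : Q'.map φr.toMonoidHom = P := by rw [hQ', map_inf_centralizer, rw', rz]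
  have kP : P.map φk.toMonoidHom = P' := by rw [hP, map_inf_centralizer, N.map_k_Az, N.map_k_Au]
  have kQ : Q.map φk.toMonoidHom = Q' := by rw [hQd, map_inf_centralizer, N.map_k_Az, N.map_k_Au]
  have cardP : Nat.card P = Nat.card Q := by
    rw [← mQ', card_map_conj, ← kQ, card_map_conj]
  have cardPP' : Nat.card P = Nat.card P' := by rw [← kP, card_map_conj]
  -- if `c` centralizes `Au` it centralizes `Aw`
  have hcfalse : N.c ∈ P → False := by
    intro hc
    refine N.false_of_c_commutes (fun w hw => mem_centralizer_iff.1 hc.2 w hw) fun w hw => ?_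
    have h1 : φk N.c ∈ P' := kP ▸ ⟨N.c, hc, rfl⟩
    have h2 : φk N.c = N.c := by
      show MulAut.conj N.k N.c = N.c
      rw [MulAut.conj_apply, N.kc, mul_inv_cancel_right]
    rw [h2] at h1
    exact mem_centralizer_iff.1 h1.2 w hw
  by_cases hle : P' ≤ P
  · have heq : P' = P := Subgroup.eq_of_le_of_card_ge hle cardPP'.le
    have hPne : P ≠ ⊥ := fun h => hQ (Subgroup.eq_bot_of_card_eq _ (by
      rw [← cardP, h, card_bot]))
    obtain ⟨g, hg, hg1⟩ := (ne_bot_iff_exists_ne_one.1 hPne : ∃ g : P, g ≠ 1) |>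
      fun ⟨g, h⟩ => (⟨(g : G), g.2, fun e => h (Subtype.ext e)⟩ : ∃ g, g ∈ P ∧ g ≠ 1)
    obtain ⟨i, l, rfl⟩ := N.mem_Az.1 hg.1
    have hkg : φk (N.d ^ i * N.c ^ l) ∈ P := heq ▸ kP ▸ ⟨_, hg, rfl⟩
    have hkd : φk N.d = N.d⁻¹ := by
      show MulAut.conj N.k (N.a * N.b⁻¹) = _
      rw [map_mul, map_inv, MulAut.conj_apply, MulAut.conj_apply, N.ka, N.kb, mul_inv_cancel_right,
        mul_inv_cancel_right, inv_inv, d, mul_inv_rev, inv_inv,
        ((show Commute N.a N.b from N.ab).inv_left).eq]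
    have hkc : φk N.c = N.c := by
      show MulAut.conj N.k N.c = N.c
      rw [MulAut.conj_apply, N.kc, mul_inv_cancel_right]
    rw [map_mul, map_pow, map_pow, hkd, hkc] at hkg
    have hcomm : ∀ i j : ℕ, Commute (N.d ^ i) (N.c ^ j) := fun i j =>
      N.T_comm (pow_mem N.d_mem i) (pow_mem N.c_mem j)
    have hcl : N.c ^ (2 * l) ∈ P := by
      have := mul_mem hg hkg
      rwa [inv_pow, ← mul_assoc, mul_assoc (N.d ^ i), ((hcomm i l).symm.inv_right).eq, ← mul_assoc,
        mul_inv_cancel, one_mul, ← pow_add, ← two_mul] at this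
    have hdi : N.d ^ (2 * i) ∈ P := by
      have := mul_mem hg (inv_mem hkg)
      rwa [inv_pow, mul_inv_rev, inv_inv, ← mul_assoc, mul_inv_cancel_right, ← pow_add, ← two_mul] at this
    by_cases h3 : 3 ∣ l
    · obtain ⟨j, rfl⟩ := h3
      rw [pow_mul N.c, N.c3, one_pow, mul_one] at hg1
      have h3i : ¬ 3 ∣ i := fun ⟨j, hj⟩ => hg1 (by rw [hj, pow_mul, N.cube N.d_mem, one_pow])
      have hd : N.d ∈ P := by
        rcases (show 2 * i % 3 = 1 ∨ 2 * i % 3 = 2 by omega) with h | h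
        · rw [pow_eq_pow_mod _ (N.cube N.d_mem), h, pow_one] at hdi; exact hdi
        · rw [pow_eq_pow_mod _ (N.cube N.d_mem), h] at hdi
          have := mul_mem hdi hdi
          rwa [← pow_add, pow_eq_pow_mod _ (N.cube N.d_mem), show (2 + 2) % 3 = 1 from rfl, pow_one] at this
      have hd' : N.d ∈ P' := heq ▸ hd
      have hRtop : R = N.Au := by
        rw [hR, inf_eq_left]
        intro w hw
        exact mem_centralizer_iff.2 fun t ht => (N.commute_pair hw ht
          (mem_centralizer_iff.1 hd.2 w hw) (mem_centralizer_iff.1 hd'.2 t ht)).symm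
      have hPtop : P = N.Az := by rw [← mQ', ← mR, hRtop, ru, rw']
      exact hcfalse (hPtop ▸ N.c_mem_Az)
    · refine hcfalse ?_
      rcases (show 2 * l % 3 = 1 ∨ 2 * l % 3 = 2 by omega) with h | h
      · rw [pow_eq_pow_mod _ N.c3, h, pow_one] at hcl; exact hcl
      · rw [pow_eq_pow_mod _ N.c3, h] at hcl
        have := mul_mem hcl hcl
        rwa [← pow_add, pow_eq_pow_mod _ N.c3, show (2 + 2) % 3 = 1 from rfl, pow_one] at this
  · have hlt : P < P ⊔ P' := lt_of_le_of_ne le_sup_left fun h => hle (h ▸ le_sup_right)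
    have hne : 1 < Nat.card P := by
      rw [cardP]
      exact (one_lt_card_iff_ne_bot Q).2 hQ
    have hsup : P ⊔ P' = N.Az := by
      refine Subgroup.eq_of_le_of_card_ge (sup_le inf_le_left inf_le_left) ?_
      rw [N.card_Az]
      have h1 : Nat.card P < Nat.card ↥(P ⊔ P') := by
        refine lt_of_le_of_ne (card_le_of_le hlt.le) fun e => hlt.ne ?_
        exact Subgroup.eq_of_le_of_card_ge hlt.le e.ge
      have h2 : Nat.card ↥(P ⊔ P') ∣ 3 ^ 2 := by
        have := card_dvd_of_le (show P ⊔ P' ≤ N.Az from sup_le inf_le_left inf_le_left)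
        rwa [N.card_Az] at this
      have h3 : Nat.card P ∣ 3 ^ 2 := by
        have := card_dvd_of_le (show P ≤ N.Az from inf_le_left)
        rwa [N.card_Az] at this
      obtain ⟨i, hi, hi'⟩ := (Nat.dvd_prime_pow Nat.prime_three).1 h2
      obtain ⟨j, hj, hj'⟩ := (Nat.dvd_prime_pow Nat.prime_three).1 h3
      rw [hi', hj'] at h1
      rw [hj'] at hne
      rw [hi']
      have hij : j < i := (Nat.pow_lt_pow_iff_right (by norm_num)).1 h1
      have hj0 : j ≠ 0 := fun e => by rw [e, pow_zero] at hne; omega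
      rw [show i = 2 by omega]
      norm_num
    have hAw : Q' ⊔ R' = N.Aw := by
      rw [← mR, ← mQ, ← mP, ← mP', ← Subgroup.map_sup, ← Subgroup.map_sup, hsup, rz, ru]
    have hQR : Q ≤ R := by
      intro f hf
      refine ⟨hf.1, mem_centralizer_iff.2 fun t ht => ?_⟩
      have : N.Aw ≤ centralizer ({f} : Set G) := by
        rw [← hAw]
        refine sup_le (fun t ht => ?_) fun t ht => ?_
        · exact mem_centralizer_singleton_iff.2 (N.commute_pair hf.1 ht.1
            (mem_centralizer_iff.1 hf.2 _ N.d_mem_Az).symm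
            (mem_centralizer_iff.1 ht.2 _ N.d_mem_Az).symm).symm
        · exact mem_centralizer_singleton_iff.2 (mem_centralizer_iff.1 ht.2 f hf.1).symm
      exact mem_centralizer_singleton_iff.1 (this ht)
    rw [← mP', ← mP, map_le_map_iff_of_injective φr.injective] at hQR
    exact hle hQR

end NineData

end CfsgLib.Recog.DoubleAlt
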