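import Cfsg.Agent.Lib.Recog.DoubleAlt.NineLines
import Mathlib.GroupTheory.Transfer
import Mathlib.GroupTheory.Sylow

/-!
The groups `C(T)` and `C(x, y)` for `y` in `Az` are `T × ⟨z⟩`.
-/

set_option autoImplicit false
set_option linter.unusedSectionVars false
set_option linter.style.haveILetI false

namespace CfsgLib.Recog.DoubleAlt

open Subgroup

variable {G : Type*} [Group G] [Finite G]

namespace NineData

variable (N : NineData G)

theorem Aw_inf_centralizer : N.Aw ⊓ centralizer (N.Az : Set G) = ⊥ := by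
  have h := map_inf_centralizer N.Au N.Az (MulAut.conj N.k)
  rw [N.Au_inf_centralizer, Subgroup.map_bot, N.map_k_Au, N.map_k_Az] at h
  exact h.symm

theorem y_ne_inv {y : G} (hy : y ∈ N.Az) (hy1 : y ≠ 1) : y⁻¹ ≠ y := fun h =>
  hy1 (N.sq_eq_one (N.Az_le hy) (by nth_rewrite 1 [← h]; exact inv_mul_cancel y))

/-- An element of `C(x, z)` centralizing a non-identity element of `Az` lies in `T ∪ T z`. -/
theorem mem_or_of_comm {g y : G} (hz : g * N.z = N.z * g) (hx : g * N.x = N.x * g)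
    (hy : y ∈ N.Az) (hy1 : y ≠ 1) (hgy : g * y = y * g) : g ∈ N.T ∨ g * N.z ∈ N.T := by
  obtain ⟨t, ht, h⟩ := N.cent_x g hz hx
  have hty : t * y = y * t := N.T_comm ht (N.Az_le hy)
  have hu : N.u * y = y⁻¹ * N.u := by rw [← N.u_Az hy, mul_assoc, N.u_sq, mul_one]
  rcases h with rfl | rfl | rfl | rfl
  · exact Or.inl ht
  · right; rw [mul_assoc, N.z_sq, mul_one]; exact ht
  · refine absurd ?_ (N.y_ne_inv hy hy1)
    have : t * N.u * y = t * y⁻¹ * N.u := by rw [mul_assoc, hu, ← mul_assoc]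
    rw [this, ← mul_assoc, ← hty] at hgy
    exact mul_left_cancel (mul_right_cancel hgy)
  · refine absurd ?_ (N.y_ne_inv hy hy1)
    have : t * (N.u * N.z) * y = t * y⁻¹ * (N.u * N.z) := by
      rw [mul_assoc, mul_assoc N.u, N.zT (N.Az_le hy), ← mul_assoc N.u, hu]; group
    rw [this, ← mul_assoc y t, ← hty] at hgy
    exact mul_left_cancel (mul_right_cancel hgy)

theorem eq_z_of_mem {i : G} (hi2 : i * i = 1) (h : i ∈ N.T ∨ i * N.z ∈ N.T) : i = 1 ∨ i = N.z := by
  rcases h with h | h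
  · exact Or.inl (N.sq_eq_one h hi2)
  · refine Or.inr ?_
    have e : i = i * N.z * N.z := by rw [mul_assoc, N.z_sq, mul_one]
    have hc := N.zT h
    have h2 : i * N.z * (i * N.z) = 1 := by
      calc i * N.z * (i * N.z) = i * N.z * (i * N.z) * (N.z * N.z) := by rw [N.z_sq, mul_one]
        _ = i * N.z * ((i * N.z) * N.z) * N.z := by group
        _ = i * N.z * (N.z * (i * N.z)) * N.z := by rw [hc]
        _ = i * (N.z * N.z) * i * (N.z * N.z) := by group
        _ = 1 := by rw [N.z_sq, mul_one, mul_one, hi2]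
    rw [e, N.sq_eq_one h h2, one_mul]

theorem comm_z_of_mem {g : G} (h : N.z * g * N.z * g⁻¹ ∈ N.T) : g * N.z = N.z * g := by
  obtain ⟨y, hy⟩ : ∃ y, y = N.z * g * N.z * g⁻¹ := ⟨_, rfl⟩
  rw [← hy] at h
  have e1 : N.z * g * N.z = y * g := by rw [hy]; group
  have e2 : g = y * y * g := by
    calc g = N.z * (N.z * g * N.z) * N.z := by
          rw [show N.z * (N.z * g * N.z) * N.z = N.z * N.z * g * (N.z * N.z) by group, N.z_sq, one_mul,
            mul_one]
      _ = (N.z * y) * g * N.z := by rw [e1]; group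
      _ = y * (N.z * g * N.z) := by rw [N.zT h]; group
      _ = _ := by rw [e1, mul_assoc]
  rw [N.sq_eq_one h (mul_eq_right.1 e2.symm), one_mul] at e1
  calc g * N.z = (N.z * g * N.z) * N.z := by rw [e1]
    _ = N.z * g * (N.z * N.z) := by group
    _ = N.z * g := by rw [N.z_sq, mul_one]

/-- Elements of odd order of `C(u, x)` are `x ^ i * w` with `w` in `Au`. -/
theorem mem_u_fixed {o : G} (ho : Odd (orderOf o)) (hu : o * N.u = N.u * o) (hx : o * N.x = N.x * o) :
    o ^ 3 = 1 ∧ ∃ i : ℕ, ∃ w ∈ N.Au, o = N.x ^ i * w := by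
  have e1 : N.r⁻¹ * N.u = N.z * N.r⁻¹ := by
    rw [eq_mul_inv_iff_mul_eq, mul_assoc, ← N.rz, inv_mul_cancel_left]
  have e3 : N.r⁻¹ * N.x = N.x * N.r⁻¹ := by
    rw [eq_mul_inv_iff_mul_eq, mul_assoc, ← N.rxc, inv_mul_cancel_left]
  have c1 := conj_commute e1 hu
  have c2 := conj_commute e3 hx
  simp only [inv_inv] at c1 c2
  have c0 := odd_order_conj (h := N.r⁻¹) ho
  rw [inv_inv] at c0
  have hT := N.mem_T_of_odd c0 c1 c2
  obtain ⟨i, y, hy, he⟩ := N.T_decomp hT
  have hcube := N.cube hT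
  constructor
  · rw [show o = MulAut.conj N.r (N.r⁻¹ * o * N.r) by rw [MulAut.conj_apply]; group, ← map_pow, hcube,
      map_one]
  · refine ⟨i, MulAut.conj N.r y, ⟨y, hy, rfl⟩, ?_⟩
    calc o = MulAut.conj N.r (N.r⁻¹ * o * N.r) := by rw [MulAut.conj_apply]; group
      _ = _ := by
        rw [he, map_mul, map_pow, show MulAut.conj N.r N.x = N.x by
          rw [MulAut.conj_apply, N.rxc, mul_inv_cancel_right]]

/-- Elements of odd order of `C(uz, x)` are `x ^ i * w` with `w` in `Aw`. -/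
theorem mem_uz_fixed {o : G} (ho : Odd (orderOf o)) (hu : o * (N.u * N.z) = N.u * N.z * o)
    (hx : o * N.x = N.x * o) :
    o ^ 3 = 1 ∧ ∃ i : ℕ, ∃ w ∈ N.Aw, o = N.x ^ i * w := by
  have e1 : N.r⁻¹ * (N.u * N.z) = N.u * N.r⁻¹ := by
    rw [eq_mul_inv_iff_mul_eq, mul_assoc, ← N.ru, inv_mul_cancel_left]
  have e3 : N.r⁻¹ * N.x = N.x * N.r⁻¹ := by
    rw [eq_mul_inv_iff_mul_eq, mul_assoc, ← N.rxc, inv_mul_cancel_left]
  have c1 := conj_commute e1 hu
  have c2 := conj_commute e3 hx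
  simp only [inv_inv] at c1 c2
  have c0 := odd_order_conj (h := N.r⁻¹) ho
  rw [inv_inv] at c0
  obtain ⟨hcube, i, w, hw, he⟩ := N.mem_u_fixed c0 c1 c2
  have eo : o = MulAut.conj N.r (N.r⁻¹ * o * N.r) := by rw [MulAut.conj_apply]; group
  refine ⟨by rw [eo, ← map_pow, hcube, map_one], i, MulAut.conj N.r w, ⟨w, hw, rfl⟩, ?_⟩
  rw [eo, he, map_mul, map_pow, show MulAut.conj N.r N.x = N.x by
    rw [MulAut.conj_apply, N.rxc, mul_inv_cancel_right]]

/-- `C(T) = T × ⟨z⟩`. -/
theorem cent_T {g : G} (hg : ∀ t ∈ N.T, g * t = t * g) : g ∈ N.T ∨ g * N.z ∈ N.T := by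
  set H : Subgroup G := centralizer (N.T : Set G) with hH
  have mH : ∀ g, g ∈ H ↔ ∀ t ∈ N.T, g * t = t * g := fun g => by
    rw [hH, mem_centralizer_iff]
    exact ⟨fun h t ht => (h t ht).symm, fun h t ht => (h t ht).symm⟩
  have hzH : N.z ∈ H := (mH _).2 fun t ht => N.zT ht
  have hiso : ∀ i, i ∈ H → i * i = 1 → i * N.z = N.z * i → i = 1 ∨ i = N.z := fun i hi h1 h2 =>
    (N.core N.a (Or.inl rfl)).1 i h1 h2 ((mH i).1 hi _ N.a_mem)
  obtain ⟨O, hOH, hodd, -, hzs, hchar⟩ := N.oddPart H hzH hiso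
  have huT : ∀ t ∈ N.T, N.u * t * N.u ∈ N.T := by
    intro t ht
    obtain ⟨i, y, hy, rfl⟩ := N.T_decomp ht
    rw [← mul_assoc, ((show Commute N.u N.x from N.ux).pow_right i).eq,
      show N.x ^ i * N.u * y * N.u = N.x ^ i * (N.u * y * N.u) by group, N.u_Az hy]
    exact mul_mem (pow_mem N.x_mem i) (inv_mem (N.Az_le hy))
  have huH : N.u ∈ normalizer (H : Set G) := by
    have key : ∀ g ∈ H, N.u * g * N.u⁻¹ ∈ H := by
      intro g hg
      rw [mH]
      intro t ht
      have h := (mH g).1 hg _ (huT t ht)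
      rw [N.u_inv]
      calc N.u * g * N.u * t = N.u * (g * (N.u * t * N.u)) * N.u := by
            rw [show N.u * (g * (N.u * t * N.u)) * N.u = N.u * g * N.u * t * (N.u * N.u) by group,
              N.u_sq, mul_one]
        _ = N.u * ((N.u * t * N.u) * g) * N.u := by rw [h]
        _ = _ := by
            rw [show N.u * (N.u * t * N.u * g) * N.u = N.u * N.u * (t * (N.u * g * N.u)) by group,
              N.u_sq, one_mul]
    refine mem_normalizer_iff.2 fun g => ⟨key g, fun h => ?_⟩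
    have := key _ h
    rwa [N.u_inv, show N.u * (N.u * g * N.u) * N.u = N.u * N.u * g * (N.u * N.u) by group, N.u_sq,
      one_mul, mul_one] at this
  have hnorm : ∀ v, v * v = 1 → v ∈ normalizer (H : Set G) → v ∈ normalizer (O : Set G) := by
    intro v hv hvN
    refine mem_normalizer_iff.2 fun g => ⟨fun hg => hchar _ hvN g hg, fun hg => ?_⟩
    have := hchar _ hvN _ hg
    rwa [inv_eq_of_mul_eq_one_right hv, show v * (v * g * v) * v = v * v * g * (v * v) by group, hv,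
      one_mul, mul_one] at this
  have hOT : O ≤ N.T := by
    have hord : ∀ o ∈ O, Odd (orderOf o) := fun o ho =>
      hodd.of_dvd_nat (Subgroup.orderOf_dvd_natCard _ ho)
    refine InvChar.ComClosed.le_of_four hodd N.z_order N.u_order N.u_ne_z.symm N.zu
      (hnorm _ N.z_sq (le_normalizer hzH)) (hnorm _ N.u_sq huH) ?_ ?_ ?_
    · rintro o ⟨ho, hoz⟩
      exact N.mem_T_of_odd (hord o ho) (mem_centralizer_singleton_iff.1 hoz)
        ((mH o).1 (hOH ho) _ N.x_mem)
    · rintro o ⟨ho, hou⟩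
      obtain ⟨-, i, w, hw, rfl⟩ := N.mem_u_fixed (hord o ho) (mem_centralizer_singleton_iff.1 hou)
        ((mH o).1 (hOH ho) _ N.x_mem)
      have hwH : w ∈ H := by
        have := mul_mem (inv_mem ((mH _).2 fun t ht => N.T_comm (pow_mem N.x_mem i) ht)) (hOH ho)
        rwa [inv_mul_cancel_left] at this
      have : w ∈ N.Au ⊓ centralizer (N.Az : Set G) :=
        ⟨hw, mem_centralizer_iff.2 fun y hy => ((mH w).1 hwH y (N.Az_le hy)).symm⟩
      rw [N.Au_inf_centralizer, mem_bot] at this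
      rw [this, mul_one]
      exact pow_mem N.x_mem i
    · rintro o ⟨ho, hou⟩
      obtain ⟨-, i, w, hw, rfl⟩ := N.mem_uz_fixed (hord o ho)
        (by rw [← N.zu]; exact mem_centralizer_singleton_iff.1 hou) ((mH o).1 (hOH ho) _ N.x_mem)
      have hwH : w ∈ H := by
        have := mul_mem (inv_mem ((mH _).2 fun t ht => N.T_comm (pow_mem N.x_mem i) ht)) (hOH ho)
        rwa [inv_mul_cancel_left] at this
      have : w ∈ N.Aw ⊓ centralizer (N.Az : Set G) :=
        ⟨hw, mem_centralizer_iff.2 fun y hy => ((mH w).1 hwH y (N.Az_le hy)).symm⟩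
      rw [N.Aw_inf_centralizer, mem_bot] at this
      rw [this, mul_one]
      exact pow_mem N.x_mem i
  exact N.mem_or_of_comm (N.comm_z_of_mem (hOT (hzs g ((mH g).2 hg)))) (hg _ N.x_mem)
    N.c_mem_Az N.c_ne (hg _ N.c_mem)

/-- An element normalizing `T` centralizes `z`. -/
theorem comm_z_of_normalizer {g : G} (hg : ∀ t ∈ N.T, g * t * g⁻¹ ∈ N.T) : g * N.z = N.z * g := by
  have hmap : N.T.map (MulAut.conj g).toMonoidHom = N.T :=
    Subgroup.eq_of_le_of_card_ge (by rintro _ ⟨t, ht, rfl⟩; exact hg t ht) (by rw [card_map_conj])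
  have hi : g * N.z * g⁻¹ * (g * N.z * g⁻¹) = 1 := by
    calc g * N.z * g⁻¹ * (g * N.z * g⁻¹) = g * (N.z * N.z) * g⁻¹ := by group
      _ = 1 := by rw [N.z_sq, mul_one, mul_inv_cancel]
  have hc : ∀ t ∈ N.T, g * N.z * g⁻¹ * t = t * (g * N.z * g⁻¹) := by
    intro t ht
    rw [← hmap] at ht
    obtain ⟨t', ht', rfl⟩ := ht
    simp only [MulEquiv.toMonoidHom_eq_coe, MonoidHom.coe_coe, MulAut.conj_apply]
    calc g * N.z * g⁻¹ * (g * t' * g⁻¹) = g * (N.z * t') * g⁻¹ := by group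
      _ = g * (t' * N.z) * g⁻¹ := by rw [N.zT ht']
      _ = _ := by group
  rcases N.eq_z_of_mem hi (N.cent_T hc) with h | h
  · exact absurd (conj_eq_one_iff.1 h) N.z_ne
  · exact mul_inv_eq_iff_eq_mul.1 h

/-- `C(x, y) = T × ⟨z⟩` for `y` in `Az`. -/
theorem cent_xy {g y : G} (hy : y ∈ N.Az) (hy1 : y ≠ 1) (hgx : g * N.x = N.x * g)
    (hgy : g * y = y * g) : g ∈ N.T ∨ g * N.z ∈ N.T := by
  set H : Subgroup G := centralizer ({N.x} : Set G) ⊓ centralizer ({y} : Set G) with hH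
  have mH : ∀ g, g ∈ H ↔ g * N.x = N.x * g ∧ g * y = y * g := fun g => by
    rw [hH, mem_inf, mem_centralizer_singleton_iff, mem_centralizer_singleton_iff]
  have hTH : N.T ≤ H := fun t ht => (mH t).2 ⟨N.T_comm ht N.x_mem, N.T_comm ht (N.Az_le hy)⟩
  have hzH : N.z ∈ H := (mH _).2 ⟨N.zx, N.zT (N.Az_le hy)⟩
  have hiso : ∀ i, i ∈ H → i * i = 1 → i * N.z = N.z * i → i = 1 ∨ i = N.z := fun i hi h1 h2 =>
    N.eq_z_of_mem h1 (N.mem_or_of_comm h2 ((mH i).1 hi).1 hy hy1 ((mH i).1 hi).2)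
  obtain ⟨O, hOH, hodd, hO, hzs, hchar⟩ := N.oddPart H hzH hiso
  have huy : N.u * y = y⁻¹ * N.u := by rw [← N.u_Az hy, mul_assoc, N.u_sq, mul_one]
  have huH : N.u ∈ normalizer (H : Set G) := by
    have key : ∀ g ∈ H, N.u * g * N.u⁻¹ ∈ H := by
      intro g hg
      rw [mH] at hg ⊢
      refine ⟨conj_commute N.ux hg.1, ?_⟩
      have := (show Commute (N.u * g * N.u⁻¹) y⁻¹ from conj_commute huy hg.2).inv_right
      rwa [inv_inv] at this
    refine mem_normalizer_iff.2 fun g => ⟨key g, fun h => ?_⟩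
    have := key _ h
    rwa [N.u_inv, show N.u * (N.u * g * N.u) * N.u = N.u * N.u * g * (N.u * N.u) by group, N.u_sq,
      one_mul, mul_one] at this
  -- the odd group `X = O T`
  set X : Subgroup G := O ⊔ N.T with hX
  have hTN : N.T ≤ normalizer (O : Set G) := fun t ht => mem_normalizer_iff.2 fun o =>
    ⟨fun ho => hO t (hTH ht) o ho, fun ho => by
      have := hO t⁻¹ (inv_mem (hTH ht)) _ ho
      simpa [mul_assoc] using this⟩
  have hTodd : Odd (Nat.card N.T) := by
    rw [← Nat.not_even_iff_odd, even_iff_two_dvd]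
    intro h
    obtain ⟨⟨t, ht⟩, ht2⟩ := exists_prime_orderOf_dvd_card' 2 h
    have h2 := orderOf_dvd_of_pow_eq_one (show (⟨t, ht⟩ : N.T) ^ 3 = 1 from Subtype.ext (N.cube ht))
    rw [ht2] at h2
    norm_num at h2
  have hXodd : Odd (Nat.card X) := by
    have h1 := (O.subgroupOf X).card_mul_index
    rw [Nat.card_congr (subgroupOfEquivOfLe (le_sup_left (b := N.T))).toEquiv] at h1
    rw [← h1]
    refine hodd.mul ?_
    refine hTodd.of_dvd_nat ?_
    show O.relIndex (O ⊔ N.T) ∣ _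
    rw [← relIndex_subgroupOf (sup_le le_normalizer hTN), subgroupOf_sup le_normalizer hTN]
    haveI : (O.subgroupOf (normalizer (O : Set G))).Normal := normal_in_normalizer
    rw [sup_comm, relIndex_sup_right, relIndex_subgroupOf hTN]
    exact relIndex_dvd_card O N.T
  have hXH : X ≤ H := sup_le hOH hTH
  have hXz : ∀ o ∈ X, o * N.z = N.z * o → o ∈ N.T := fun o ho hoz =>
    N.mem_T_of_odd (hXodd.of_dvd_nat (Subgroup.orderOf_dvd_natCard _ ho)) hoz ((mH o).1 (hXH ho)).1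
  -- `T` is a Sylow 3-subgroup of `X`, with trivial automizer
  set TX := N.T.subgroupOf X with hTX
  have hTXp : IsPGroup 3 TX := fun ⟨t, ht⟩ => ⟨1, Subtype.ext (Subtype.ext (by
    push_cast
    exact N.cube (mem_subgroupOf.1 ht)))⟩
  obtain ⟨P, hTP⟩ := hTXp.exists_le_sylow
  have hN : ∀ n : X, n ∈ normalizer (TX : Set X) → (n : G) ∈ N.T := by
    intro n hn
    refine hXz n n.2 (N.comm_z_of_normalizer fun t ht => ?_)
    have h := (mem_normalizer_iff.1 hn ⟨t, le_sup_right (a := O) ht⟩).1 ht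
    exact mem_subgroupOf.1 h
  have hP : (P : Subgroup X) = TX := by
    refine le_antisymm ?_ hTP
    by_contra hlt
    haveI := P.2.isNilpotent
    have h : TX.subgroupOf P < ⊤ := by
      rw [lt_top_iff_ne_top, Ne, subgroupOf_eq_top]
      exact hlt
    obtain ⟨n, hn, hn'⟩ := SetLike.exists_of_lt (Group.normalizerCondition_of_isNilpotent _ h)
    refine hn' (mem_subgroupOf.2 (mem_subgroupOf.2 (hN n ?_)))
    refine mem_normalizer_iff.2 fun t => ?_
    rw [mem_normalizer_iff] at hn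
    by_cases ht : t ∈ (P : Subgroup X)
    · have := hn ⟨t, ht⟩
      simpa [mem_subgroupOf] using this
    · constructor
      · exact fun h => absurd (hTP h) ht
      · intro h
        refine absurd ?_ ht
        have h2 := mul_mem (mul_mem (inv_mem n.2) (hTP h)) n.2
        simpa [mul_assoc] using h2
  have hPc : normalizer ((P : Subgroup X) : Set X) ≤ centralizer ((P : Subgroup X) : Set X) := by
    intro n hn
    refine mem_centralizer_iff.2 fun t ht => Subtype.ext ?_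
    rw [hP] at hn ht
    exact N.T_comm (mem_subgroupOf.1 ht) (hN n hn)
  haveI : Fact (Nat.Prime 3) := ⟨Nat.prime_three⟩
  set K := (MonoidHom.transferSylow P hPc).ker with hK
  have hKc : IsComplement' K (P : Subgroup X) := MonoidHom.ker_transferSylow_isComplement' P hPc
  have hK3 : ¬ 3 ∣ Nat.card K := MonoidHom.not_dvd_card_ker_transferSylow P hPc
  set KG := K.map X.subtype with hKG
  have hKmem : ∀ o, o ∈ KG ↔ o ∈ X ∧ ¬ 3 ∣ orderOf o := by
    intro o
    constructor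
    · rintro ⟨k, hk, rfl⟩
      refine ⟨k.2, fun h3 => hK3 (h3.trans ?_)⟩
      rw [Subgroup.coe_subtype, Subgroup.orderOf_coe]
      exact Subgroup.orderOf_dvd_natCard _ hk
    · rintro ⟨hoX, h3⟩
      refine ⟨⟨o, hoX⟩, MonoidHom.mem_ker.2 ?_, rfl⟩
      have hd := orderOf_map_dvd (MonoidHom.transferSylow P hPc) ⟨o, hoX⟩
      obtain ⟨i, hi⟩ := P.2 (MonoidHom.transferSylow P hPc ⟨o, hoX⟩)
      obtain ⟨j, -, hj⟩ := (Nat.dvd_prime_pow Nat.prime_three).1 (orderOf_dvd_of_pow_eq_one hi)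
      rw [hj, Subgroup.orderOf_mk] at hd
      rw [← orderOf_eq_one_iff, hj]
      rcases Nat.eq_zero_or_pos j with rfl | hjp
      · exact pow_zero 3
      · exact absurd ((dvd_pow_self 3 hjp.ne').trans hd) h3
  have hXinv : ∀ v, v ∈ normalizer (H : Set G) → (∀ t ∈ N.T, v * t * v⁻¹ ∈ N.T) →
      ∀ o ∈ X, v * o * v⁻¹ ∈ X := by
    intro v hv hvT o ho
    have h : X ≤ X.comap (MulAut.conj v).toMonoidHom := sup_le
      (fun o ho => le_sup_left (b := N.T) (hchar v hv o ho))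
      (fun t ht => le_sup_right (a := O) (hvT t ht))
    exact h ho
  have hKnorm : ∀ v, v * v = 1 → v ∈ normalizer (H : Set G) → (∀ t ∈ N.T, v * t * v⁻¹ ∈ N.T) →
      v ∈ normalizer (KG : Set G) := by
    intro v hv hvN hvT
    have key : ∀ o ∈ KG, v * o * v⁻¹ ∈ KG := by
      intro o ho
      rw [hKmem] at ho ⊢
      refine ⟨hXinv v hvN hvT o ho.1, ?_⟩
      rw [← MulAut.conj_apply, MulEquiv.orderOf_eq]
      exact ho.2
    refine mem_normalizer_iff.2 fun o => ⟨key o, fun h => ?_⟩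
    have := key _ h
    rwa [inv_eq_of_mul_eq_one_right hv, show v * (v * o * v) * v = v * v * o * (v * v) by group, hv,
      one_mul, mul_one] at this
  have huT : ∀ t ∈ N.T, N.u * t * N.u⁻¹ ∈ N.T := by
    intro t ht
    obtain ⟨i, w, hw, rfl⟩ := N.T_decomp ht
    rw [N.u_inv, ← mul_assoc, ((show Commute N.u N.x from N.ux).pow_right i).eq,
      show N.x ^ i * N.u * w * N.u = N.x ^ i * (N.u * w * N.u) by group, N.u_Az hw]
    exact mul_mem (pow_mem N.x_mem i) (inv_mem (N.Az_le hw))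
  have hzT : ∀ t ∈ N.T, N.z * t * N.z⁻¹ ∈ N.T := fun t ht => by
    rw [N.zT ht, mul_inv_cancel_right]; exact ht
  have h3one : ∀ o ∈ KG, o ^ 3 = 1 → o ∈ (⊥ : Subgroup G) := by
    intro o ho h3
    rw [mem_bot, ← orderOf_eq_one_iff]
    rcases (Nat.dvd_prime Nat.prime_three).1 (orderOf_dvd_of_pow_eq_one h3) with e | e
    · exact e
    · exact absurd e.symm.dvd ((hKmem o).1 ho).2
  have hKG : KG ≤ ⊥ := by
    have hKGodd : Odd (Nat.card KG) := hXodd.of_dvd_nat (card_dvd_of_le (map_subtype_le K))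
    have hord : ∀ o ∈ KG, Odd (orderOf o) := fun o ho =>
      hKGodd.of_dvd_nat (Subgroup.orderOf_dvd_natCard _ ho)
    refine InvChar.ComClosed.le_of_four hKGodd N.z_order N.u_order N.u_ne_z.symm N.zu
      (hKnorm _ N.z_sq (le_normalizer hzH) hzT) (hKnorm _ N.u_sq huH huT) ?_ ?_ ?_
    · rintro o ⟨ho, hoz⟩
      exact h3one o ho (N.cube (hXz o ((hKmem o).1 ho).1 (mem_centralizer_singleton_iff.1 hoz)))
    · rintro o ⟨ho, hou⟩
      exact h3one o ho (N.mem_u_fixed (hord o ho) (mem_centralizer_singleton_iff.1 hou)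
        ((mH o).1 (hXH ((hKmem o).1 ho).1)).1).1
    · rintro o ⟨ho, hou⟩
      exact h3one o ho (N.mem_uz_fixed (hord o ho)
        (by rw [← N.zu]; exact mem_centralizer_singleton_iff.1 hou)
        ((mH o).1 (hXH ((hKmem o).1 ho).1)).1).1
  have hOT : O ≤ N.T := by
    intro o ho
    have hKbot : K = ⊥ := by
      rw [← map_eq_bot_iff_of_injective K X.subtype_injective]
      exact le_bot_iff.1 hKG
    rw [hKbot, isComplement'_bot_left] at hKc
    have : (⟨o, le_sup_left (b := N.T) ho⟩ : X) ∈ (P : Subgroup X) := hKc ▸ mem_top _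
    rw [hP] at this
    exact mem_subgroupOf.1 this
  exact N.mem_or_of_comm (N.comm_z_of_mem (hOT (hzs g ((mH g).2 ⟨hgx, hgy⟩)))) hgx hy hy1 hgy

end NineData

end CfsgLib.Recog.DoubleAlt
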