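import Cfsg.Agent.Lib.Recog.DoubleAlt.Lifts

/-!
The double covers of the alternating groups of degree at most seven have one involution.
-/

set_option autoImplicit false

namespace CfsgLib.Recog.DoubleAlt

open Equiv

/-- An even permutation of order two of at most seven points is a double transposition. -/
theorem exists_double_swap {n : ℕ} (hn : n ≤ 7) {p : Perm (Fin n)} (h1 : p ≠ 1) (h2 : p * p = 1)
    (hp : Perm.sign p = 1) :
    ∃ a b c d : Fin n, a ≠ b ∧ c ≠ d ∧ a ≠ c ∧ a ≠ d ∧ b ≠ c ∧ b ≠ d ∧ p = swap a b * swap c d := by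
  have hinv : ∀ x, p (p x) = x := fun x => by rw [← Perm.mul_apply, h2, Perm.one_apply]
  obtain ⟨a, ha⟩ : ∃ a, p a ≠ a := by
    by_contra h; push Not at h; exact h1 (Equiv.ext h)
  -- remove the cycle through `a`
  set q := swap a (p a) * p with hq
  have hpq : p = swap a (p a) * q := by rw [hq, swap_mul_self_mul]
  have hsq : Perm.sign q = -1 := by
    rw [hq, map_mul, hp, Perm.sign_swap (Ne.symm ha), mul_one]
  have hq1 : q ≠ 1 := fun h => by rw [h, map_one] at hsq; exact absurd hsq (by decide)
  obtain ⟨c, hc⟩ : ∃ c, q c ≠ c := by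
    by_contra h; push Not at h; exact hq1 (Equiv.ext h)
  have hqa : q a = a := by rw [hq, Perm.mul_apply, swap_apply_right]
  have hqb : q (p a) = p a := by rw [hq, Perm.mul_apply, hinv, swap_apply_left]
  have hne : ∀ x, q x ≠ x → q x = p x ∧ x ≠ a ∧ x ≠ p a := by
    intro x hx
    have hxa : x ≠ a := fun e => hx (by rw [e, hqa])
    have hxb : x ≠ p a := fun e => hx (by rw [e, hqb])
    exact ⟨by rw [hq, Perm.mul_apply, swap_apply_of_ne_of_ne
      (fun e => hxb (by rw [← e, hinv])) (fun e => hxa (p.injective e))], hxa, hxb⟩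
  obtain ⟨hqc, hca, hcb⟩ := hne c hc
  have hd : p c ≠ c := hqc ▸ hc
  set r := swap c (p c) * q with hr
  by_cases hr1 : r = 1
  · refine ⟨a, p a, c, p c, Ne.symm ha, Ne.symm hd, Ne.symm hca, fun e => hcb ?_, Ne.symm hcb,
      fun e => hca ?_, ?_⟩
    · rw [e, hinv]
    · exact (p.injective e).symm
    · have e : q = swap c (p c) * r := by rw [hr, swap_mul_self_mul]
      rw [hr1, mul_one] at e
      exact hpq.trans (congrArg (swap a (p a) * ·) e)
  · -- a third cycle forces a fourth one, hence eight moved points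
    exfalso
    have hsr : Perm.sign r = 1 := by
      rw [hr, map_mul, hsq, Perm.sign_swap (Ne.symm hd)]; rfl
    obtain ⟨e, he⟩ : ∃ e, r e ≠ e := by
      by_contra h; push Not at h; exact hr1 (Equiv.ext h)
    have hrc : r c = c := by rw [hr, Perm.mul_apply, hqc, swap_apply_right]
    have hqd : q (p c) = c := by
      rcases eq_or_ne (q (p c)) (p c) with h | h
      · exact absurd (q.injective (h.trans hqc.symm)) hd
      · rw [(hne _ h).1, hinv]
    have hrd : r (p c) = p c := by rw [hr, Perm.mul_apply, hqd, swap_apply_left]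
    have hner : ∀ x, r x ≠ x → r x = p x ∧ x ≠ a ∧ x ≠ p a ∧ x ≠ c ∧ x ≠ p c := by
      intro x hx
      have hxc : x ≠ c := fun e => hx (by rw [e, hrc])
      have hxd : x ≠ p c := fun e => hx (by rw [e, hrd])
      by_cases hqx : q x = x
      · exfalso
        exact hx (by rw [hr, Perm.mul_apply, hqx, swap_apply_of_ne_of_ne hxc hxd])
      · obtain ⟨h3, h4, h5⟩ := hne x hqx
        exact ⟨by rw [hr, Perm.mul_apply, h3, swap_apply_of_ne_of_ne
          (fun e => hxd (by rw [← e, hinv])) (fun e => hxc (p.injective e))], h4, h5, hxc, hxd⟩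
    obtain ⟨hre, hea, heb, hec, hed⟩ := hner e he
    have hpe : p e ≠ e := hre ▸ he
    set s := swap e (p e) * r with hs
    have hss : Perm.sign s = -1 := by
      rw [hs, map_mul, hsr, Perm.sign_swap (Ne.symm hpe), mul_one]
    have hs1 : s ≠ 1 := fun h => by rw [h, map_one] at hss; exact absurd hss (by decide)
    obtain ⟨f, hf⟩ : ∃ f, s f ≠ f := by
      by_contra h; push Not at h; exact hs1 (Equiv.ext h)
    have hfe : f ≠ e := fun h => hf (by rw [h, hs, Perm.mul_apply, hre, swap_apply_right])
    have hfpe : f ≠ p e := by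
      intro h
      apply hf
      rw [h, hs, Perm.mul_apply]
      rcases eq_or_ne (r (p e)) (p e) with h' | h'
      · exact absurd (r.injective (h'.trans hre.symm)) hpe
      · rw [(hner _ h').1, hinv, swap_apply_left]
    have hrf : r f ≠ f := fun h => hf (by rw [hs, Perm.mul_apply, h, swap_apply_of_ne_of_ne hfe hfpe])
    obtain ⟨hrf', hfa, hfb, hfc, hfd⟩ := hner f hrf
    have hpf : p f ≠ f := hrf' ▸ hrf
    -- eight distinct points
    have sw : ∀ x y : Fin n, x ≠ p y → p x ≠ y := fun x y h h' => h (by rw [← h', hinv])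
    have hinj : ∀ x y : Fin n, x ≠ y → p x ≠ p y := fun x y h h' => h (p.injective h')
    have hcard : ([a, p a, c, p c, e, p e, f, p f] : List (Fin n)).length ≤ n := by
      refine le_trans (List.Nodup.length_le_card ?_) (le_of_eq (Fintype.card_fin n))
      simp only [List.nodup_cons, List.mem_cons, List.not_mem_nil, or_false, not_or,
        not_false_iff, and_true, List.nodup_nil]
      exact ⟨⟨Ne.symm ha, Ne.symm hca, fun h => sw c a hcb h.symm, Ne.symm hea,
          fun h => sw e a heb h.symm, Ne.symm hfa, fun h => sw f a hfb h.symm⟩,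
        ⟨Ne.symm hcb, fun h => hinj c a hca h.symm, Ne.symm heb, fun h => hinj e a hea h.symm,
          Ne.symm hfb, fun h => hinj f a hfa h.symm⟩,
        ⟨Ne.symm hd, Ne.symm hec, fun h => sw e c hed h.symm, Ne.symm hfc,
          fun h => sw f c hfd h.symm⟩,
        ⟨Ne.symm hed, fun h => hinj e c hec h.symm, Ne.symm hfd, fun h => hinj f c hfc h.symm⟩,
        ⟨Ne.symm hpe, Ne.symm hfe, fun h => sw f e hfpe h.symm⟩,
        ⟨Ne.symm hfpe, fun h => hinj f e hfe h.symm⟩,
        Ne.symm hpf⟩
    simp only [List.length_cons, List.length_nil] at hcard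
    omega

/-- No set-up in degree five, six or seven. -/
theorem false_small {G : Type*} [Group G] [Finite G] {n : ℕ} (S : Setup G n) (hn : n ≤ 7) :
    False := by
  obtain ⟨g, hcomm, hne⟩ := S.fused
  have hu : g * S.z * g⁻¹ * (g * S.z * g⁻¹) = 1 := by
    calc g * S.z * g⁻¹ * (g * S.z * g⁻¹) = g * (S.z * S.z) * g⁻¹ := by group
      _ = 1 := by rw [S.z_sq, mul_one, mul_inv_cancel]
  let u : Subgroup.centralizer ({S.z} : Set G) :=
    ⟨g * S.z * g⁻¹, Subgroup.mem_centralizer_singleton_iff.2 hcomm⟩
  have hu2 : u * u = 1 := Subtype.ext hu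
  have hπ1 : S.π u ≠ 1 := by
    intro h
    rcases (S.ker u).1 h with h' | h'
    · exact S.ne (by
        have : g * S.z * g⁻¹ = 1 := h'
        calc S.z = g⁻¹ * (g * S.z * g⁻¹) * g := by group
          _ = 1 := by rw [this]; group)
    · exact hne h'
  obtain ⟨a, b, c, d, hab, hcd, hac, had, hbc, hbd, hp⟩ := exists_double_swap hn hπ1
    (by rw [← map_mul, hu2, map_one]) (S.sign_π u)
  exact S.zc_ne ((S.sq_two (by simp [hab, hcd, hac, had, hbc, hbd]) hp).symm.trans hu2)

end CfsgLib.Recog.DoubleAlt
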