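import Cfsg.Agent.Lib.Recog.DoubleAlt.TenData
import Cfsg.Agent.Lib.Recog.DoubleAlt.NineCore

/-!
Glauberman's Z*-theorem in the centralizers of `a` and `b`, degree ten.
-/

set_option autoImplicit false
set_option linter.unusedSectionVars false
set_option linter.style.haveILetI false

namespace CfsgLib.Recog.DoubleAlt

open Subgroup

variable {G : Type*} [Group G]

namespace TenData

variable [Finite G] (N : TenData G)

theorem z_inv : N.z⁻¹ = N.z := inv_eq_of_mul_eq_one_right N.z_sq

theorem z_order : orderOf N.z = 2 := orderOf_eq_prime (by rw [pow_two, N.z_sq]) N.z_ne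

theorem u_order : orderOf N.u = 2 := orderOf_eq_prime (by rw [pow_two, N.u_sq]) N.u_ne

/-- Glauberman's theorem in a subgroup in which `z` is the only involution commuting with `z`. -/
theorem oddPart (H : Subgroup G) (hz : N.z ∈ H)
    (hiso : ∀ i, i ∈ H → i * i = 1 → i * N.z = N.z * i → i = 1 ∨ i = N.z) :
    ∃ O : Subgroup G, O ≤ H ∧ Odd (Nat.card O) ∧ (∀ g ∈ H, ∀ o ∈ O, g * o * g⁻¹ ∈ O) ∧
      (∀ g ∈ H, N.z * g * N.z * g⁻¹ ∈ O) ∧
      (∀ g : G, g ∈ normalizer (H : Set G) → ∀ o ∈ O, g * o * g⁻¹ ∈ O) := by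
  have hisol : Cfsg.IsIsolatedInvolution (⟨N.z, hz⟩ : H) := by
    refine ⟨by rw [← orderOf_coe]; exact N.z_order, fun g hg => ?_⟩
    set w := (g : G) * N.z * (g : G)⁻¹ with hw
    have hsq : w * w = 1 := by
      rw [hw]
      calc (g : G) * N.z * (g : G)⁻¹ * ((g : G) * N.z * (g : G)⁻¹) = (g : G) * (N.z * N.z) * (g : G)⁻¹ := by group
        _ = 1 := by rw [N.z_sq, mul_one, mul_inv_cancel]
    rcases hiso w (mul_mem (mul_mem g.2 hz) (inv_mem g.2)) hsq
      (congrArg Subtype.val hg.eq).symm with h | h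
    · exact absurd (conj_eq_one_iff.1 h) N.z_ne
    · exact Subtype.ext h
  refine ⟨(Cfsg.oddCore H).map H.subtype, map_subtype_le _, ?_, ?_, ?_, ?_⟩
  · rw [card_map_of_injective H.subtype_injective]
    exact Invol.odd_card_oddCore H
  · rintro g hg _ ⟨o, ho, rfl⟩
    haveI : (Cfsg.oddCore H).Normal := by
      haveI := CfsgLib.Solvable.pPrimeCore_characteristic 2 H
      infer_instance
    exact ⟨⟨g, hg⟩ * o * ⟨g, hg⟩⁻¹, Normal.conj_mem inferInstance o ho _, rfl⟩
  · intro g hg
    refine ⟨_, Invol.zstar H hisol ⟨g, hg⟩, ?_⟩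
    simp [N.z_inv]
  · rintro g hg _ ⟨o, ho, rfl⟩
    have hgH : H.map (MulAut.conj g).toMonoidHom = H := by
      ext y
      constructor
      · rintro ⟨h, hh, rfl⟩
        exact (Subgroup.mem_normalizer_iff.1 hg h).1 hh
      · intro hy
        exact ⟨g⁻¹ * y * g, (Subgroup.mem_normalizer_iff.1 hg _).2 (by simpa [mul_assoc] using hy),
          by simp [mul_assoc]⟩
    let e : H ≃* H := ((MulAut.conj g).subgroupMap H).trans (MulEquiv.subgroupCongr hgH)
    refine ⟨e o, ?_, rfl⟩
    haveI := CfsgLib.Solvable.pPrimeCore_characteristic 2 H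
    have h := Characteristic.fixed (inferInstance : (Cfsg.oddCore H).Characteristic) e
    rw [← h] at ho
    exact ho

/-- The odd core of the centralizer of `a` or `b`. -/
theorem coreFacts {p : G} (hp : p = N.a ∨ p = N.b) :
    ∃ O : Subgroup G, Odd (Nat.card O) ∧ (∀ o ∈ O, o * p = p * o) ∧
      (∀ g, g ∈ normalizer ((centralizer ({p} : Set G) : Subgroup G) : Set G) →
        ∀ o ∈ O, g * o * g⁻¹ ∈ O) ∧
      (∀ o ∈ O, o * N.z = N.z * o → o ∈ zpowers p) ∧
      (∀ s, Odd (orderOf s) → s * p = p * s → N.z * s * N.z = s⁻¹ → s ∈ O) ∧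
      (∀ s ∈ O, ∀ t ∈ O, s * t * s⁻¹ * t⁻¹ ∈ zpowers p) := by
  obtain ⟨hinv, hfix⟩ := N.core p hp
  have hpz : N.z * p = p * N.z := by rcases hp with rfl | rfl; exacts [N.za, N.zb]
  set H := centralizer ({p} : Set G) with hH
  have mH : ∀ g, g ∈ H ↔ g * p = p * g := fun g => mem_centralizer_singleton_iff
  have hzH : N.z ∈ H := (mH _).2 hpz
  obtain ⟨O, hOH, hodd, hnorm, hzs, hchar⟩ := N.oddPart H hzH
    (fun i hi h1 h2 => hinv i h1 h2 ((mH i).1 hi))
  have hOz : ∀ o ∈ O, o * N.z = N.z * o → o ∈ zpowers p := by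
    intro o ho hoz
    refine hfix (O ⊓ centralizer ({N.z} : Set G)) ?_ ?_ ?_ ⟨ho, mem_centralizer_singleton_iff.2 hoz⟩
    · exact hodd.of_dvd_nat (card_dvd_of_le inf_le_left)
    · exact fun h hh => ⟨mem_centralizer_singleton_iff.1 hh.2, (mH _).1 (hOH hh.1)⟩
    · intro g hgz hgp h hh
      refine ⟨hnorm g ((mH g).2 hgp) h hh.1, mem_centralizer_singleton_iff.2 ?_⟩
      exact conj_commute hgz (mem_centralizer_singleton_iff.1 hh.2)
  refine ⟨O, hodd, fun o ho => (mH o).1 (hOH ho), hchar, hOz, ?_, ?_⟩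
  · intro s hs hsp hinvs
    refine mem_of_sq_mem hs ?_
    have h := hzs s ((mH s).2 hsp)
    rw [hinvs] at h
    simpa using inv_mem h
  · -- `z` inverts `O / (O ⊓ C(z))`
    have key : ∀ o ∈ O, ∃ q ∈ zpowers p, N.z * o * N.z = o⁻¹ * q := by
      intro o ho
      set P : Subgroup O := (zpowers p).subgroupOf O with hP
      haveI : P.Normal := ⟨fun q hq g => by
        rw [hP, mem_subgroupOf] at hq ⊢
        obtain ⟨n, hn⟩ := hq
        have hc : Commute ((g : O) : G) p := (mH _).1 (hOH g.2)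
        push_cast
        rw [← hn, (hc.zpow_right n).eq, mul_inv_cancel_right]
        exact ⟨n, rfl⟩⟩
      have hz1 : ∀ o ∈ O, N.z * o * N.z ∈ O := fun o ho => by
        have := hnorm N.z hzH o ho; rwa [N.z_inv] at this
      let φ : O →* O :=
        { toFun := fun o => ⟨N.z * (o : G) * N.z, hz1 o o.2⟩
          map_one' := Subtype.ext (by simp [N.z_sq])
          map_mul' := fun s t => Subtype.ext (by
            show N.z * ((s : G) * t) * N.z = N.z * s * N.z * (N.z * t * N.z)
            calc N.z * ((s : G) * t) * N.z = N.z * s * (N.z * N.z) * t * N.z := by rw [N.z_sq]; group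
              _ = _ := by group) }
      have hφ2 : ∀ o, φ (φ o) = o := fun o => Subtype.ext (by
        show N.z * (N.z * (o : G) * N.z) * N.z = o
        calc N.z * (N.z * (o : G) * N.z) * N.z = N.z * N.z * o * (N.z * N.z) := by group
          _ = _ := by rw [N.z_sq, one_mul, mul_one])
      have hle : P ≤ P.comap φ := by
        intro q hq
        rw [mem_comap, hP, mem_subgroupOf]
        rw [hP, mem_subgroupOf] at hq
        obtain ⟨n, hn⟩ := hq
        show N.z * (q : G) * N.z ∈ zpowers p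
        rw [← hn, ((show Commute N.z p from hpz).zpow_right n).eq, mul_assoc, N.z_sq, mul_one]
        exact ⟨n, rfl⟩
      let ψ : O ⧸ P →* O ⧸ P := QuotientGroup.map P P φ hle
      have hψ2 : Function.Involutive ψ := fun y => by
        induction y using QuotientGroup.induction_on with
        | H o => show ((φ (φ o) : O) : O ⧸ P) = o; rw [hφ2]
      have hψ : MonoidHom.FixedPointFree ψ := by
        intro y hy
        induction y using QuotientGroup.induction_on with
        | H o =>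
          rw [QuotientGroup.eq_one_iff, hP, mem_subgroupOf]
          have h : ((φ o : O) : O ⧸ P) = o := hy
          rw [QuotientGroup.eq, hP, mem_subgroupOf] at h
          push_cast at h
          -- `o = z o z * q`
          obtain ⟨n, hn⟩ := h
          have hn' : p ^ n = (N.z * (o : G) * N.z)⁻¹ * o := hn
          have hq1 : (o : G) = N.z * o * N.z * p ^ n := by rw [hn', mul_inv_cancel_left]
          have hq2 : p ^ n * p ^ n = 1 := by
            have hzn : N.z * p ^ n = p ^ n * N.z := ((show Commute N.z p from hpz).zpow_right n).eq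
            have e1 : N.z * (o : G) * N.z = o * p ^ n := by
              calc N.z * (o : G) * N.z = N.z * (N.z * o * N.z * p ^ n) * N.z := by rw [← hq1]
                _ = N.z * N.z * o * N.z * (p ^ n * N.z) := by group
                _ = o * N.z * (N.z * p ^ n) := by rw [N.z_sq, one_mul, hzn]
                _ = (o : G) * (N.z * N.z) * p ^ n := by group
                _ = o * p ^ n := by rw [N.z_sq, mul_one]
            have e : (o : G) = o * (p ^ n * p ^ n) := by
              nth_rewrite 1 [hq1]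
              rw [e1, mul_assoc]
            exact (mul_eq_left.1 e.symm)
          have hpn : p ^ n = 1 := by
            refine eq_one_of_odd_sq ?_ hq2
            rw [hn']
            exact hodd.of_dvd_nat (Subgroup.orderOf_dvd_natCard _
              (mul_mem (inv_mem (hz1 _ o.2)) o.2))
          rw [hpn, mul_one] at hq1
          refine hOz o o.2 ?_
          nth_rewrite 1 [hq1]
          rw [mul_assoc, N.z_sq, mul_one]
      have h := congrFun (hψ.coe_eq_inv_of_involutive hψ2) ((⟨o, ho⟩ : O) : O ⧸ P)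
      have h' : ((φ ⟨o, ho⟩ : O) : O ⧸ P) = (((⟨o, ho⟩ : O)⁻¹ : O) : O ⧸ P) := h
      rw [QuotientGroup.eq, hP, mem_subgroupOf] at h'
      refine ⟨o * (N.z * o * N.z), ?_, by group⟩
      have h2 := inv_mem h'
      simp only [Subgroup.coe_mul, Subgroup.coe_inv, mul_inv_rev, inv_inv] at h2
      exact h2
    intro s hs t ht
    obtain ⟨q₁, hq₁, e₁⟩ := key s hs
    obtain ⟨q₂, hq₂, e₂⟩ := key t ht
    obtain ⟨q₃, hq₃, e₃⟩ := key (s * t) (mul_mem hs ht)
    obtain ⟨n₁, rfl⟩ := hq₁
    obtain ⟨n₂, rfl⟩ := hq₂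
    obtain ⟨n₃, rfl⟩ := hq₃
    have hc : ∀ (o : G), o ∈ O → ∀ n : ℤ, o * p ^ n = p ^ n * o := fun o ho n =>
      ((show Commute o p from (mH o).1 (hOH ho)).zpow_right n).eq
    have e : N.z * (s * t) * N.z = (N.z * s * N.z) * (N.z * t * N.z) := by
      calc N.z * (s * t) * N.z = N.z * s * (N.z * N.z) * t * N.z := by rw [N.z_sq]; group
        _ = _ := by group
    simp only [] at e₁ e₂ e₃
    rw [e₁, e₂, e₃, mul_inv_rev] at e
    -- `t⁻¹ s⁻¹ = s⁻¹ t⁻¹` up to powers of `p`
    refine ⟨-n₁ + -n₂ + n₃, ?_⟩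
    show p ^ (-n₁ + -n₂ + n₃) = s * t * s⁻¹ * t⁻¹
    have h1 : p ^ n₃ = s * t * (s⁻¹ * t⁻¹) * (p ^ n₁ * p ^ n₂) := by
      have h0 : t⁻¹ * s⁻¹ * p ^ n₃ = s⁻¹ * t⁻¹ * (p ^ n₁ * p ^ n₂) := by
        rw [e]
        calc s⁻¹ * p ^ n₁ * (t⁻¹ * p ^ n₂) = s⁻¹ * (p ^ n₁ * t⁻¹) * p ^ n₂ := by group
          _ = s⁻¹ * (t⁻¹ * p ^ n₁) * p ^ n₂ := by rw [hc _ (inv_mem ht) n₁]
          _ = _ := by group
      calc p ^ n₃ = s * t * (t⁻¹ * s⁻¹ * p ^ n₃) := by group
        _ = _ := by rw [h0]; group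
    rw [← zpow_add] at h1
    rw [zpow_add, h1, show -n₁ + -n₂ = -(n₁ + n₂) by ring, zpow_neg]
    have hst : s * t * (s⁻¹ * t⁻¹) ∈ O := mul_mem (mul_mem hs ht) (mul_mem (inv_mem hs) (inv_mem ht))
    rw [hc _ hst (n₁ + n₂), inv_mul_cancel_left]
    group

end TenData

end CfsgLib.Recog.DoubleAlt
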