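import Mathlib.GroupTheory.Subgroup.Centralizer
import Mathlib.GroupTheory.OrderOfElement
import Mathlib.GroupTheory.PGroup
import Mathlib.Tactic

/-!
The local data of an involution with centralizer `2.A₁₀` used in the odd-local argument: lifts `a`,
`b`, `c`, `c'` of three-cycles (`a`, `b`, `c` disjoint, `c'` meeting `c` in two points), an involution
`u` swapping `a` and `b` and inverting `c` and `c'`, a lift `m` fixing `a`, `b` and exchanging `u` and
`u * z`, a lift `g` of order eight fixing `a` and mapping `b ↦ c ↦ b⁻¹`, an element `r` of order three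
fixing `a * b` and rotating `z, u, u * z`, and `k` centralizing `z, u, r` and inverting `a * b`.
-/

set_option autoImplicit false

namespace CfsgLib.Recog.DoubleAlt

open Subgroup

variable {G : Type*} [Group G]

/-- `p` is one of `a`, `b`, `c` or an inverse. -/
def TenSingle (a b c p : G) : Prop :=
  ∃ q, (q = a ∨ q = b ∨ q = c) ∧ (p = q ∨ p = q⁻¹)

/-- `p` is a product of non-trivial powers of `a`, `b` and `c`. -/
def TenTriple (a b c p : G) : Prop :=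
  ∃ i j l : ℕ, ¬ 3 ∣ i ∧ ¬ 3 ∣ j ∧ ¬ 3 ∣ l ∧ p = a ^ i * b ^ j * c ^ l

/-- The facts about `C(z) = 2.A₁₀` that are used. -/
structure TenData (G : Type*) [Group G] where
  z : G
  u : G
  a : G
  b : G
  c : G
  c' : G
  m : G
  g : G
  r : G
  k : G
  z_sq : z * z = 1
  z_ne : z ≠ 1
  u_sq : u * u = 1
  u_ne : u ≠ 1
  zu : z * u = u * z
  u_ne_z : u ≠ z
  a3 : a ^ 3 = 1
  b3 : b ^ 3 = 1
  c3 : c ^ 3 = 1
  c'3 : c' ^ 3 = 1
  za : z * a = a * z
  zb : z * b = b * z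
  zc : z * c = c * z
  zc' : z * c' = c' * z
  ab : a * b = b * a
  ac : a * c = c * a
  bc : b * c = c * b
  ac' : a * c' = c' * a
  bc' : b * c' = c' * b
  ua : u * a * u = b
  uc : u * c * u = c⁻¹
  uc' : u * c' * u = c'⁻¹
  indep : ∀ i j l : ℕ, a ^ i * b ^ j * c ^ l = 1 → 3 ∣ i ∧ 3 ∣ j ∧ 3 ∣ l
  cc'_sq : c * c' * (c * c') = z
  mz : m * z = z * m
  mu : m * u = u * z * m
  ma : m * a = a * m
  mb : m * b = b * m
  mc : m * c = c'⁻¹ * m
  gz : g * z = z * g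
  ga : g * a = a * g
  gb : g * b = c * g
  gc : g * c = b⁻¹ * g
  g4 : g ^ 4 = z
  r3 : r ^ 3 = 1
  rx : r * (a * b) = a * b * r
  rz : r * z = u * r
  ru : r * u = u * z * r
  kz : k * z = z * k
  ku : k * u = u * k
  kx : k * (a * b) = (a * b)⁻¹ * k
  kr : k * r = r * k
  odd_three : ∀ h, h * z = z * h → h * (a * b) = a * b * h → Odd (orderOf h) → h ^ 3 = 1
  inverted : ∀ h, h * z = z * h → h * (a * b) = a * b * h → h ^ 3 = 1 → u * h * u = h⁻¹ →
    ∃ i j : ℕ, h = (a * b⁻¹) ^ i * c ^ j ∨ h = (a * b⁻¹) ^ i * c' ^ j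
  conj_d : ∀ h, h * z = z * h → h * (a * b) = a * b * h →
    h * (a * b⁻¹) * h⁻¹ = a * b⁻¹ ∨ h * (a * b⁻¹) * h⁻¹ = (a * b⁻¹)⁻¹
  cent_E : ∀ h, h * z = z * h → h * a = a * h → h * b = b * h → h * c = c * h →
    ∃ i j l : ℕ, h = a ^ i * b ^ j * c ^ l ∨ h = a ^ i * b ^ j * c ^ l * z
  cent_H : ∀ h, h * z = z * h → h * u = u * h → h * (a * b) = a * b * h →
    ∃ i : ℕ, h = (a * b) ^ i ∨ h = (a * b) ^ i * z ∨ h = (a * b) ^ i * u ∨ h = (a * b) ^ i * (u * z)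
  three_part : ∀ P : Subgroup G, IsPGroup 3 P → (∀ h ∈ P, h * z = z * h ∧ h * (a * b) = a * b * h) →
    Nat.card P ≤ 27
  core : ∀ p, p = a ∨ p = b →
    (∀ i, i * i = 1 → i * z = z * i → i * p = p * i → i = 1 ∨ i = z) ∧
    ∀ H : Subgroup G, Odd (Nat.card H) → (∀ h ∈ H, h * z = z * h ∧ h * p = p * h) →
      (∀ f, f * z = z * f → f * p = p * f → ∀ h ∈ H, f * h * f⁻¹ ∈ H) → H ≤ zpowers p
  single_invol : ∀ p, TenSingle a b c p →
    ∀ i, i * i = 1 → i * z = z * i → i * p = p * i → i = 1 ∨ i = z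
  triple_two : ∀ p, TenTriple a b c p →
    ∀ i, (i * i = 1 ∨ i * i = z) → i * z = z * i → i * p = p * i → i = 1 ∨ i = z
  pattern : ∀ i j l : ℕ, (∀ n : ℕ, a ^ i * b ^ j * c ^ l ≠ (a * b) ^ n) →
    TenTriple a b c (a ^ i * b ^ j * c ^ l) ∨
      ∃ n : ℕ, ¬ 3 ∣ n ∧ (TenSingle a b c (a ^ i * b ^ j * c ^ l * (a * b) ^ n) ∨
        TenTriple a b c (a ^ i * b ^ j * c ^ l * (a * b) ^ n))
  root : ∃ Q : Subgroup G, IsPGroup 2 Q ∧ (∀ h ∈ Q, h * z = z * h ∧ h * u = u * h) ∧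
    (∀ f, f * z = z * f → f * u = u * f → ∀ h ∈ Q, f * h * f⁻¹ ∈ Q) ∧ ∃ q ∈ Q, q * q = z

namespace TenData

variable (N : TenData G)

/-- The element `a * b`. -/
def x : G := N.a * N.b

/-- The element `a * b⁻¹`. -/
def d : G := N.a * N.b⁻¹

/-- `w` is of odd order, centralizes `a` and `b`, and is inverted by `z`. -/
def Inverted (w : G) : Prop :=
  Odd (orderOf w) ∧ w * N.a = N.a * w ∧ w * N.b = N.b * w ∧ N.z * w * N.z = w⁻¹

end TenData

end CfsgLib.Recog.DoubleAlt
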