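import Cfsg.Agent.Lib.Recog.DoubleAlt.TenData
import Cfsg.Agent.Lib.Invol.BrauerSuzuki
import Cfsg.Agent.Lib.Solvable.PCore
import Cfsg.Agent.Lib.Amalgam.PCore
import Cfsg.Agent.Lib.Coprime.Generation

/-!
Degree ten, the case in which `z` inverts no non-trivial element of odd order centralizing `a` and `b`.
Then `⟨a, b, c⟩` is a Sylow 3-subgroup of `C(a * b)`, and the action of `⟨a * b, r⟩` on the largest
normal 2-subgroup of `C(⟨z, u⟩)` is contradictory.
-/

set_option autoImplicit false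
set_option linter.unusedSectionVars false
set_option linter.style.haveILetI false

namespace CfsgLib.Recog.DoubleAlt

open Subgroup

variable {G : Type*} [Group G] [Finite G]

/-- The centre of a 2-group containing `z` consists of `z` and one, if these are the only square roots
of one commuting with `z`. -/
theorem ten_invol_eq {z : G} {S : Subgroup G} (hS : IsPGroup 2 S) (hzS : z ∈ S) (hz : z ≠ 1)
    (huniq : ∀ i ∈ S, i * i = 1 → i * z = z * i → i = 1 ∨ i = z) :
    (∀ s ∈ S, s * z = z * s) ∧ ∀ i ∈ S, i * i = 1 → i = 1 ∨ i = z := by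
  haveI : Fact (Nat.Prime 2) := ⟨Nat.prime_two⟩
  haveI : Nontrivial S := ⟨⟨⟨z, hzS⟩, 1, fun e => hz (congrArg Subtype.val e)⟩⟩
  haveI : Nontrivial (center S) := hS.center_nontrivial
  obtain ⟨c, hc, hc1⟩ : ∃ c : center S, c * c = 1 ∧ c ≠ 1 := by
    obtain ⟨n, hn0, hn⟩ := IsPGroup.nontrivial_iff_card (hS.to_subgroup (center S)) |>.1 inferInstance
    obtain ⟨c, hc⟩ := exists_prime_orderOf_dvd_card' (G := center S) 2 (hn ▸ dvd_pow_self 2 (by omega))
    exact ⟨c, by rw [← pow_two, ← hc, pow_orderOf_eq_one], fun e => by rw [e, orderOf_one] at hc; omega⟩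
  have hcs : ∀ s ∈ S, s * ((c : S) : G) = (c : S) * s := fun s hs =>
    congrArg Subtype.val (mem_center_iff.1 c.2 ⟨s, hs⟩)
  rcases huniq _ (c : S).2 (congrArg (fun w : center S => ((w : S) : G)) hc) (hcs z hzS).symm with h | h
  · exact absurd (Subtype.ext (Subtype.ext h)) hc1
  · have hzc : ∀ s ∈ S, s * z = z * s := fun s hs => h ▸ hcs s hs
    exact ⟨hzc, fun i hi hi2 => huniq i hi hi2 (hzc i hi)⟩

/-- Commuting involutions of a group whose Sylow 2-subgroup at `z` has a single involution are equal. -/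
theorem ten_invol_unique {z : G} (H : Subgroup G) (hzH : z ∈ H) (hz2 : z * z = 1) (hz : z ≠ 1)
    (huniq : ∀ i ∈ H, i * i = 1 → i * z = z * i → i = 1 ∨ i = z)
    {i j : G} (hi : i ∈ H) (hj : j ∈ H) (hi2 : i * i = 1) (hj2 : j * j = 1) (hi1 : i ≠ 1) (hj1 : j ≠ 1)
    (hij : i * j = j * i) : i = j := by
  haveI : Fact (Nat.Prime 2) := ⟨Nat.prime_two⟩
  have hpz : IsPGroup 2 (zpowers (⟨z, hzH⟩ : H)) := by
    refine IsPGroup.of_card (n := 1) ?_
    rw [Nat.card_zpowers, pow_one]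
    exact orderOf_eq_prime (by rw [pow_two]; exact Subtype.ext hz2) (fun e => hz (congrArg Subtype.val e))
  obtain ⟨S, hS⟩ := hpz.exists_le_sylow
  have hzS : (⟨z, hzH⟩ : H) ∈ (S : Subgroup H) := hS (mem_zpowers _)
  obtain ⟨-, hone⟩ := ten_invol_eq (z := (⟨z, hzH⟩ : H)) S.isPGroup' hzS
    (fun e => hz (congrArg Subtype.val e))
    (fun w _ h2 hc => (huniq w w.2 (congrArg Subtype.val h2) (congrArg Subtype.val hc)).imp
      Subtype.ext Subtype.ext)
  set T : Subgroup H := closure ({⟨i, hi⟩, ⟨j, hj⟩} : Set H) with hT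
  have hgen : ∀ w ∈ T, w * w = 1 ∧ w * ⟨i, hi⟩ = ⟨i, hi⟩ * w ∧ w * ⟨j, hj⟩ = ⟨j, hj⟩ * w := by
    intro w hw
    induction hw using closure_induction with
    | mem w hw =>
      rcases hw with rfl | rfl
      · exact ⟨Subtype.ext hi2, rfl, Subtype.ext hij⟩
      · exact ⟨Subtype.ext hj2, Subtype.ext hij.symm, rfl⟩
    | one => simp
    | mul v w hv hw ihv ihw =>
      obtain ⟨v2, vi, vj⟩ := ihv
      obtain ⟨w2, wi, wj⟩ := ihw
      have hvw : Commute v w := by
        clear v2 w2 wi wj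
        induction hw using closure_induction with
        | mem w hw => rcases hw with rfl | rfl; exacts [vi, vj]
        | one => exact Commute.one_right v
        | mul _ _ _ _ h1 h2 => exact h1.mul_right h2
        | inv _ _ h1 => exact h1.inv_right
      refine ⟨?_, (Commute.mul_left vi wi).eq, (Commute.mul_left vj wj).eq⟩
      rw [mul_assoc, ← mul_assoc w, ← hvw.eq, mul_assoc, w2, mul_one, v2]
    | inv v hv ihv =>
      obtain ⟨v2, vi, vj⟩ := ihv
      exact ⟨by rw [inv_eq_of_mul_eq_one_right v2, v2],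
        (Commute.inv_left vi).eq, (Commute.inv_left vj).eq⟩
  have hTp : IsPGroup 2 T := fun w => ⟨1, Subtype.ext (by
    show (w : H) ^ 2 ^ 1 = 1
    rw [pow_one, pow_two, (hgen w w.2).1])⟩
  obtain ⟨S', hS'⟩ := hTp.exists_le_sylow
  obtain ⟨g, hg⟩ := MulAction.exists_smul_eq H S' S
  have hmap : ∀ w ∈ T, g * w * g⁻¹ ∈ (S : Subgroup H) := by
    intro w hw
    rw [← hg, Sylow.coe_subgroup_smul]
    exact ⟨w, hS' hw, by simp [MulAut.smul_def]⟩
  have key : ∀ w ∈ T, w ≠ 1 → g * w * g⁻¹ = ⟨z, hzH⟩ := by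
    intro w hw hw1
    refine (hone _ (hmap w hw) ?_).resolve_left (fun e => hw1 (conj_eq_one_iff.1 e))
    rw [show g * w * g⁻¹ * (g * w * g⁻¹) = g * (w * w) * g⁻¹ by group, (hgen w hw).1, mul_one,
      mul_inv_cancel]
  have h1 := key _ (subset_closure (by simp) : (⟨i, hi⟩ : H) ∈ T) (fun e => hi1 (congrArg Subtype.val e))
  have h2 := key _ (subset_closure (by simp) : (⟨j, hj⟩ : H) ∈ T) (fun e => hj1 (congrArg Subtype.val e))
  exact congrArg Subtype.val (mul_left_cancel (mul_right_cancel (h1.trans h2.symm)))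

/-- If the only square roots of `1` and `z` commuting with `z` are `1` and `z`, the Sylow 2-subgroups
have order two. -/
theorem ten_two_conj {z : G} (H : Subgroup G) (hz2 : z * z = 1) (hz : z ≠ 1)
    (huniq : ∀ i ∈ H, (i * i = 1 ∨ i * i = z) → i * z = z * i → i = 1 ∨ i = z)
    {K : Subgroup G} (hK : K ≤ H) (hzK : z ∈ K) {s : G} (hs : s ∈ K)
    (hsp : ∃ n : ℕ, s ^ 2 ^ n = 1) (hs1 : s ≠ 1) : ∃ w ∈ K, w * z * w⁻¹ = s := by
  haveI : Fact (Nat.Prime 2) := ⟨Nat.prime_two⟩
  have hpz : IsPGroup 2 (zpowers (⟨z, hzK⟩ : K)) := by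
    refine IsPGroup.of_card (n := 1) ?_
    rw [Nat.card_zpowers, pow_one]
    exact orderOf_eq_prime (by rw [pow_two]; exact Subtype.ext hz2) (fun e => hz (congrArg Subtype.val e))
  obtain ⟨S, hS⟩ := hpz.exists_le_sylow
  have hzS : (⟨z, hzK⟩ : K) ∈ (S : Subgroup K) := hS (mem_zpowers _)
  obtain ⟨hcen, hone⟩ := ten_invol_eq (z := (⟨z, hzK⟩ : K)) S.isPGroup' hzS
    (fun e => hz (congrArg Subtype.val e))
    (fun w _ h2 hc => (huniq w (hK w.2) (Or.inl (congrArg Subtype.val h2))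
      (congrArg Subtype.val hc)).imp Subtype.ext Subtype.ext)
  have hall : ∀ w ∈ (S : Subgroup K), w = 1 ∨ w = ⟨z, hzK⟩ := by
    have hstep : ∀ n : ℕ, ∀ w ∈ (S : Subgroup K), w ^ 2 ^ n = 1 → w = 1 ∨ w = ⟨z, hzK⟩ := by
      intro n
      induction n with
      | zero => intro w _ h; exact Or.inl (by simpa using h)
      | succ n ih =>
        intro w hw h
        have h2 := ih (w * w) (mul_mem hw hw) (by rw [← pow_two, ← pow_mul, ← pow_succ', h])
        refine (huniq w (hK w.2) ?_ (congrArg Subtype.val (hcen w hw))).imp Subtype.ext Subtype.ext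
        exact h2.imp (congrArg Subtype.val) (congrArg Subtype.val)
    intro w hw
    obtain ⟨n, hn⟩ := S.isPGroup' ⟨w, hw⟩
    exact hstep n w hw (congrArg Subtype.val hn)
  obtain ⟨n, hn⟩ := hsp
  have hps : IsPGroup 2 (zpowers (⟨s, hs⟩ : K)) := fun w => ⟨n, by
    obtain ⟨m, hm⟩ := w.2
    refine Subtype.ext ?_
    show (w : K) ^ 2 ^ n = 1
    rw [← hm, ← zpow_natCast, ← zpow_mul, mul_comm, zpow_mul, zpow_natCast,
      show (⟨s, hs⟩ : K) ^ 2 ^ n = 1 from Subtype.ext hn, one_zpow]⟩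
  obtain ⟨S', hS'⟩ := hps.exists_le_sylow
  obtain ⟨g, hg⟩ := MulAction.exists_smul_eq K S' S
  have hm : g * ⟨s, hs⟩ * g⁻¹ ∈ (S : Subgroup K) := by
    rw [← hg, Sylow.coe_subgroup_smul]
    exact ⟨_, hS' (mem_zpowers _), by simp [MulAut.smul_def]⟩
  have h := (hall _ hm).resolve_left (fun e => hs1 (congrArg Subtype.val (conj_eq_one_iff.1 e)))
  refine ⟨(g⁻¹ : K), (g⁻¹).2, ?_⟩
  have e : g⁻¹ * ⟨z, hzK⟩ * g = (⟨s, hs⟩ : K) := by rw [← h]; group
  have e' := congrArg Subtype.val e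
  simpa using e'

namespace TenData

variable (N : TenData G)

theorem z_inv' : N.z⁻¹ = N.z := inv_eq_of_mul_eq_one_right N.z_sq

theorem zx' : Commute N.z N.x := Commute.mul_right N.za N.zb

/-- `C(a, b)` centralizes `z`. -/
theorem ab_le_cent (hW : ∀ w, N.Inverted w → w = 1) {g : G} (hga : g * N.a = N.a * g)
    (hgb : g * N.b = N.b * g) : g * N.z = N.z * g := by
  set Y : Subgroup G := centralizer ({N.a, N.b} : Set G) with hY
  have mY : ∀ w, w ∈ Y ↔ w * N.a = N.a * w ∧ w * N.b = N.b * w := by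
    intro w
    rw [hY, mem_centralizer_iff]
    constructor
    · intro h
      exact ⟨(h N.a (by simp)).symm, (h N.b (by simp)).symm⟩
    · rintro ⟨h1, h2⟩ v (rfl | rfl)
      exacts [h1.symm, h2.symm]
  have hzY : N.z ∈ Y := (mY _).2 ⟨N.za, N.zb⟩
  have hisol : Cfsg.IsIsolatedInvolution (⟨N.z, hzY⟩ : Y) := by
    refine ⟨orderOf_eq_prime (by rw [pow_two]; exact Subtype.ext N.z_sq)
      (fun e => N.z_ne (congrArg Subtype.val e)), fun w hw => ?_⟩
    have hsq : (w : G) * N.z * (w : G)⁻¹ * ((w : G) * N.z * (w : G)⁻¹) = 1 := by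
      rw [show (w : G) * N.z * (w : G)⁻¹ * ((w : G) * N.z * (w : G)⁻¹) =
        (w : G) * (N.z * N.z) * (w : G)⁻¹ by group, N.z_sq, mul_one, mul_inv_cancel]
    rcases (N.core N.a (Or.inl rfl)).1 _ hsq (congrArg Subtype.val hw.eq).symm
      ((mY _).1 (mul_mem (mul_mem w.2 hzY) (inv_mem w.2))).1 with h | h
    · exact absurd (conj_eq_one_iff.1 h) N.z_ne
    · exact Subtype.ext h
  have hz := Invol.zstar Y hisol ⟨g, (mY g).2 ⟨hga, hgb⟩⟩
  -- `z` centralizes the odd core
  have hO : ∀ o ∈ Cfsg.oddCore Y, (o : G) * N.z = N.z * o := by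
    intro o ho
    haveI : (Cfsg.oddCore Y).Normal := Cfsg.pPrimeCore_normal 2 Y
    have hw : o⁻¹ * (⟨N.z, hzY⟩ * o * ⟨N.z, hzY⟩) ∈ Cfsg.oddCore Y := by
      refine mul_mem (inv_mem ho) ?_
      have := Normal.conj_mem inferInstance o ho (⟨N.z, hzY⟩ : Y)
      rwa [show (⟨N.z, hzY⟩ : Y)⁻¹ = ⟨N.z, hzY⟩ from Subtype.ext N.z_inv'] at this
    have hwI : N.Inverted ((o : G)⁻¹ * (N.z * o * N.z)) := by
      refine ⟨?_, ?_, ?_, ?_⟩
      · have h := Odd.of_dvd_nat (Invol.odd_card_oddCore Y) (orderOf_dvd_natCard _ hw)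
        rw [← Subgroup.orderOf_coe] at h
        simpa using h
      · have := ((mY _).1 (o⁻¹ * (⟨N.z, hzY⟩ * o * ⟨N.z, hzY⟩) : Y).2).1
        simpa using this
      · have := ((mY _).1 (o⁻¹ * (⟨N.z, hzY⟩ * o * ⟨N.z, hzY⟩) : Y).2).2
        simpa using this
      · rw [mul_inv_rev, inv_inv, mul_inv_rev, mul_inv_rev, N.z_inv']
        calc N.z * ((o : G)⁻¹ * (N.z * o * N.z)) * N.z = N.z * (o : G)⁻¹ * N.z * o * (N.z * N.z) := by
              group
          _ = _ := by rw [N.z_sq, mul_one]; group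
    have h1 : (o : G) = N.z * o * N.z := inv_mul_eq_one.1 (hW _ hwI)
    calc (o : G) * N.z = N.z * o * N.z * N.z := by rw [← h1]
      _ = N.z * o := by rw [mul_assoc, N.z_sq, mul_one]
  have h1 := hO _ hz
  push_cast at h1
  rw [N.z_inv'] at h1
  set o := N.z * g * N.z * g⁻¹ with ho
  have h2 : o * o = 1 := by
    rw [ho]
    have e : o * N.z = N.z * o := h1
    calc N.z * g * N.z * g⁻¹ * (N.z * g * N.z * g⁻¹) = (o * N.z) * (g * N.z * g⁻¹) := by rw [ho]; group
      _ = (N.z * N.z) * g * (N.z * (g⁻¹ * g) * N.z) * g⁻¹ := by rw [e, ho]; group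
      _ = 1 := by rw [N.z_sq, inv_mul_cancel, mul_one, N.z_sq, one_mul, mul_one, mul_inv_cancel]
  have hodd : Odd (orderOf o) := by
    have h := Odd.of_dvd_nat (Invol.odd_card_oddCore Y) (orderOf_dvd_natCard _ hz)
    rw [← Subgroup.orderOf_coe] at h
    simpa [ho, N.z_inv'] using h
  have h3 : o = 1 := by
    rw [← orderOf_eq_one_iff]
    rcases (Nat.dvd_prime Nat.prime_two).1
      (orderOf_dvd_of_pow_eq_one (show o ^ 2 = 1 by rw [pow_two, h2])) with e | e
    · exact e
    · rw [e] at hodd; exact absurd hodd (by decide)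
  calc g * N.z = N.z * (N.z * g * N.z * g⁻¹) * g := by
        rw [show N.z * (N.z * g * N.z * g⁻¹) * g = N.z * N.z * g * N.z by group, N.z_sq, one_mul]
    _ = N.z * g := by rw [← ho, h3, mul_one]

/-- The group `⟨a, b, c⟩`. -/
def E : Subgroup G := closure ({N.a, N.b, N.c} : Set G)

theorem mem_E {g : G} : g ∈ N.E ↔ ∃ i j l : ℕ, g = N.a ^ i * N.b ^ j * N.c ^ l := by
  have hm : ∀ i j l i' j' l' : ℕ, N.a ^ i * N.b ^ j * N.c ^ l * (N.a ^ i' * N.b ^ j' * N.c ^ l') =
      N.a ^ (i + i') * N.b ^ (j + j') * N.c ^ (l + l') := by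
    intro i j l i' j' l'
    have h1 : Commute (N.c ^ l) (N.a ^ i' * N.b ^ j') :=
      ((show Commute N.a N.c from N.ac).symm.pow_pow l i').mul_right
        ((show Commute N.b N.c from N.bc).symm.pow_pow l j')
    have h2 : Commute (N.b ^ j) (N.a ^ i') := (show Commute N.a N.b from N.ab).symm.pow_pow j i'
    calc N.a ^ i * N.b ^ j * N.c ^ l * (N.a ^ i' * N.b ^ j' * N.c ^ l')
        = N.a ^ i * N.b ^ j * (N.c ^ l * (N.a ^ i' * N.b ^ j')) * N.c ^ l' := by group
      _ = N.a ^ i * (N.b ^ j * N.a ^ i') * N.b ^ j' * (N.c ^ l * N.c ^ l') := by rw [h1.eq]; group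
      _ = _ := by rw [h2.eq, pow_add, pow_add, pow_add]; group
  constructor
  · intro hg
    induction hg using closure_induction with
    | mem g hg =>
      rcases hg with rfl | rfl | rfl
      · exact ⟨1, 0, 0, by simp⟩
      · exact ⟨0, 1, 0, by simp⟩
      · exact ⟨0, 0, 1, by simp⟩
    | one => exact ⟨0, 0, 0, by simp⟩
    | mul v w _ _ ihv ihw =>
      obtain ⟨i, j, l, rfl⟩ := ihv
      obtain ⟨i', j', l', rfl⟩ := ihw
      exact ⟨_, _, _, hm _ _ _ _ _ _⟩
    | inv v _ ihv =>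
      obtain ⟨i, j, l, rfl⟩ := ihv
      refine ⟨2 * i, 2 * j, 2 * l, inv_eq_of_mul_eq_one_right ?_⟩
      rw [hm, show i + 2 * i = 3 * i by ring, show j + 2 * j = 3 * j by ring,
        show l + 2 * l = 3 * l by ring, pow_mul, pow_mul, pow_mul, N.a3, N.b3, N.c3]
      simp
  · rintro ⟨i, j, l, rfl⟩
    exact mul_mem (mul_mem (pow_mem (subset_closure (by simp)) i) (pow_mem (subset_closure (by simp)) j))
      (pow_mem (subset_closure (by simp)) l)

theorem E_cube {g : G} (hg : g ∈ N.E) : g ^ 3 = 1 := by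
  obtain ⟨i, j, l, rfl⟩ := N.mem_E.1 hg
  have h1 : Commute (N.a ^ i) (N.b ^ j) := (show Commute N.a N.b from N.ab).pow_pow i j
  have h2 : Commute (N.a ^ i * N.b ^ j) (N.c ^ l) :=
    ((show Commute N.a N.c from N.ac).pow_pow i l).mul_left ((show Commute N.b N.c from N.bc).pow_pow j l)
  rw [h2.mul_pow, h1.mul_pow, ← pow_mul, ← pow_mul, ← pow_mul, Nat.mul_comm i, Nat.mul_comm j,
    Nat.mul_comm l, pow_mul, pow_mul, pow_mul, N.a3, N.b3, N.c3]
  simp

theorem E_z {g : G} (hg : g ∈ N.E) : g * N.z = N.z * g := by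
  obtain ⟨i, j, l, rfl⟩ := N.mem_E.1 hg
  exact ((((show Commute N.z N.a from N.za).pow_right i).mul_right
    ((show Commute N.z N.b from N.zb).pow_right j)).mul_right
    ((show Commute N.z N.c from N.zc).pow_right l)).symm.eq

theorem E_x {g : G} (hg : g ∈ N.E) : g * N.x = N.x * g := by
  obtain ⟨i, j, l, rfl⟩ := N.mem_E.1 hg
  have ha : Commute N.a N.x := (Commute.refl _).mul_right N.ab
  have hb : Commute N.b N.x := Commute.mul_right (show Commute N.a N.b from N.ab).symm (Commute.refl _)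
  have hc : Commute N.c N.x := Commute.mul_right (show Commute N.a N.c from N.ac).symm
    (show Commute N.b N.c from N.bc).symm
  exact (((ha.pow_left i).mul_left (hb.pow_left j)).mul_left (hc.pow_left l)).eq

/-- The normalizer of `⟨a, b, c⟩` centralizes `z`. -/
theorem normalizer_E_z (hW : ∀ w, N.Inverted w → w = 1) {g : G}
    (hg : g ∈ normalizer (N.E : Set G)) : g * N.z = N.z * g := by
  set w := g * N.z * g⁻¹ with hw
  have hwc : ∀ e ∈ N.E, w * e = e * w := by
    intro e he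
    have he' : g⁻¹ * e * g ∈ N.E := (Subgroup.mem_normalizer_iff.1 hg _).2 (by simpa [mul_assoc] using he)
    calc w * e = g * (N.z * (g⁻¹ * e * g)) * g⁻¹ := by rw [hw]; group
      _ = g * (g⁻¹ * e * g * N.z) * g⁻¹ := by rw [N.E_z he']
      _ = e * w := by rw [hw]; group
  have hwa := hwc N.a (subset_closure (by simp))
  have hwb := hwc N.b (subset_closure (by simp))
  have hw2 : w * w = 1 := by
    rw [hw, show g * N.z * g⁻¹ * (g * N.z * g⁻¹) = g * (N.z * N.z) * g⁻¹ by group, N.z_sq, mul_one,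
      mul_inv_cancel]
  have hwz := N.ab_le_cent hW hwa hwb
  have hwz' : w = 1 ∨ w = N.z := (N.core N.a (Or.inl rfl)).1 w hw2 hwz hwa
  rcases hwz' with h | h
  · exact absurd (conj_eq_one_iff.1 h) N.z_ne
  · rw [hw] at h; exact mul_inv_eq_iff_eq_mul.1 h

theorem card_E : 27 ≤ Nat.card N.E := by
  let φ : Fin 3 × Fin 3 × Fin 3 → N.E := fun t =>
    ⟨N.a ^ (t.1 : ℕ) * N.b ^ (t.2.1 : ℕ) * N.c ^ (t.2.2 : ℕ), N.mem_E.2 ⟨_, _, _, rfl⟩⟩
  have hφ : Function.Injective φ := by
    rintro ⟨i, j, l⟩ ⟨i', j', l'⟩ h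
    have h0 : N.a ^ (i : ℕ) * N.b ^ (j : ℕ) * N.c ^ (l : ℕ) =
        N.a ^ (i' : ℕ) * N.b ^ (j' : ℕ) * N.c ^ (l' : ℕ) := congrArg Subtype.val h
    have hab : Commute N.a N.b := N.ab
    have hac : Commute N.a N.c := N.ac
    have hbc : Commute N.b N.c := N.bc
    have e : ∀ p q r' p' q' r'' : ℕ, N.a ^ p * N.b ^ q * N.c ^ r' * (N.a ^ p' * N.b ^ q' * N.c ^ r'') =
        N.a ^ (p + p') * N.b ^ (q + q') * N.c ^ (r' + r'') := by
      intro p q r' p' q' r''
      calc N.a ^ p * N.b ^ q * N.c ^ r' * (N.a ^ p' * N.b ^ q' * N.c ^ r'')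
          = N.a ^ p * N.b ^ q * (N.c ^ r' * (N.a ^ p' * N.b ^ q')) * N.c ^ r'' := by group
        _ = N.a ^ p * (N.b ^ q * N.a ^ p') * N.b ^ q' * (N.c ^ r' * N.c ^ r'') := by
          rw [((hac.symm.pow_pow r' p').mul_right (hbc.symm.pow_pow r' q')).eq]; group
        _ = _ := by rw [(hab.symm.pow_pow q p').eq, pow_add, pow_add, pow_add]; group
    have h1 : N.a ^ ((i : ℕ) + 2 * i') * N.b ^ ((j : ℕ) + 2 * j') * N.c ^ ((l : ℕ) + 2 * l') = 1 := by
      rw [← e, h0, e, show (i' : ℕ) + 2 * i' = 3 * i' by ring, show (j' : ℕ) + 2 * j' = 3 * j' by ring,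
        show (l' : ℕ) + 2 * l' = 3 * l' by ring, pow_mul, pow_mul, pow_mul, N.a3, N.b3, N.c3]
      simp
    obtain ⟨d1, d2, d3⟩ := N.indep _ _ _ h1
    have := i.isLt; have := i'.isLt; have := j.isLt; have := j'.isLt; have := l.isLt; have := l'.isLt
    simp only [Prod.mk.injEq, Fin.ext_iff]
    omega
  have h := Nat.card_le_card_of_injective φ hφ
  simpa using h

theorem E_pgroup : IsPGroup 3 N.E := fun g => ⟨1, Subtype.ext (by
  show (g : G) ^ 3 ^ 1 = 1
  rw [pow_one]; exact N.E_cube g.2)⟩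

/-- `⟨a, b, c⟩` is a maximal 3-subgroup of `C(x)`. -/
theorem E_maximal (hW : ∀ w, N.Inverted w → w = 1) (P : Subgroup G) (hP : IsPGroup 3 P)
    (hPx : ∀ g ∈ P, g * N.x = N.x * g) (hEP : N.E ≤ P) : P = N.E := by
  haveI : Fact (Nat.Prime 3) := ⟨Nat.prime_three⟩
  by_contra hne
  have hlt : N.E.subgroupOf P < ⊤ := by
    rw [lt_top_iff_ne_top]
    intro h
    rw [subgroupOf_eq_top] at h
    exact hne (le_antisymm h hEP)
  haveI : Group.IsNilpotent P := hP.isNilpotent
  have hn := Group.normalizerCondition_of_isNilpotent (G := P) _ hlt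
  obtain ⟨w, hw, hwE⟩ := SetLike.exists_of_lt hn
  have hwn : (w : G) ∈ normalizer (N.E : Set G) := by
    rw [Subgroup.mem_normalizer_iff]
    intro e
    constructor
    · intro he
      have := (Subgroup.mem_normalizer_iff.1 hw ⟨e, hEP he⟩).1 (mem_subgroupOf.2 he)
      simpa [mem_subgroupOf] using this
    · intro he
      have h1 : e ∈ P := by
        have := mul_mem (mul_mem (inv_mem w.2) (hEP he)) w.2
        simpa [mul_assoc] using this
      have := (Subgroup.mem_normalizer_iff.1 hw ⟨e, h1⟩).2 (by simpa [mem_subgroupOf] using he)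
      exact this
  have hwz := N.normalizer_E_z hW hwn
  set Q : Subgroup G := N.E ⊔ zpowers (w : G) with hQ
  have hQP : Q ≤ P := sup_le hEP (zpowers_le.2 w.2)
  have hQz : Q ≤ centralizer ({N.z} : Set G) :=
    sup_le (fun e he => mem_centralizer_singleton_iff.2 (N.E_z he))
      (zpowers_le.2 (mem_centralizer_singleton_iff.2 hwz))
  have hcard := N.three_part Q (hP.to_le hQP)
    (fun q hq => ⟨mem_centralizer_singleton_iff.1 (hQz hq), hPx q (hQP hq)⟩)
  have hEQ : N.E < Q :=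
    lt_of_le_of_ne le_sup_left fun h => hwE (mem_subgroupOf.2 (h.symm ▸ mem_sup_right (mem_zpowers (w : G))))
  have := N.card_E
  have h4 : Nat.card N.E < Nat.card Q := by
    refine lt_of_not_ge fun h => hEQ.ne (Subgroup.eq_of_le_of_card_ge hEQ.le h)
  omega

/-- `r` is not a power of `x`. -/
theorem r_ne_pow (n : ℕ) : N.r ≠ N.x ^ n := by
  intro h
  have h1 : Commute N.r N.z := by rw [h]; exact (N.zx'.symm).pow_left n
  have h2 : N.u * N.r = N.z * N.r := N.rz.symm.trans h1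
  exact N.u_ne_z (mul_right_cancel h2)

/-- A conjugate of `r` lies in `⟨a, b, c⟩`. -/
theorem exists_conj_r (hW : ∀ w, N.Inverted w → w = 1) :
    ∃ h, h * N.x = N.x * h ∧ h * N.r * h⁻¹ ∈ N.E := by
  haveI : Fact (Nat.Prime 3) := ⟨Nat.prime_three⟩
  set C := centralizer ({N.x} : Set G) with hC
  have hle : N.E ≤ C := fun e he => mem_centralizer_singleton_iff.2 (N.E_x he)
  let S : Sylow 3 C :=
    { toSubgroup := N.E.subgroupOf C
      isPGroup' := N.E_pgroup.of_equiv (subgroupOfEquivOfLe hle).symm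
      is_maximal' := by
        intro Q hQ hle'
        have h := N.E_maximal hW (Q.map C.subtype) (hQ.map _)
          (by rintro g ⟨q, -, rfl⟩; exact mem_centralizer_singleton_iff.1 q.2)
          (fun e he => ⟨⟨e, hle he⟩, hle' (mem_subgroupOf.2 he), rfl⟩)
        refine le_antisymm (fun q hq => mem_subgroupOf.2 ?_) hle'
        rw [← h]; exact ⟨q, hq, rfl⟩ }
  have hrC : N.r ∈ C := mem_centralizer_singleton_iff.2 N.rx
  have hp : IsPGroup 3 (zpowers (⟨N.r, hrC⟩ : C)) := by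
    intro w
    obtain ⟨m, hm⟩ := w.2
    refine ⟨1, Subtype.ext ?_⟩
    show (w : C) ^ 3 ^ 1 = 1
    rw [← hm, pow_one, ← zpow_natCast, ← zpow_mul, mul_comm, zpow_mul, zpow_natCast,
      show (⟨N.r, hrC⟩ : C) ^ 3 = 1 from Subtype.ext N.r3, one_zpow]
  obtain ⟨T, hT⟩ := hp.exists_le_sylow
  obtain ⟨g, hg⟩ := MulAction.exists_smul_eq C T S
  have hm : g * ⟨N.r, hrC⟩ * g⁻¹ ∈ (S : Subgroup C) := by
    rw [← hg, Sylow.coe_subgroup_smul]
    exact ⟨_, hT (mem_zpowers _), by simp [MulAut.smul_def]⟩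
  exact ⟨g, mem_centralizer_singleton_iff.1 g.2, hm⟩

/-- In the non-degenerate case the centralizers of `r x` and of `r x²` contain no four-group. -/
theorem no_four (hW : ∀ w, N.Inverted w → w = 1) (n : ℕ) (hn : ¬ 3 ∣ n) {i j : G}
    (hiq : i * (N.r * N.x ^ n) = N.r * N.x ^ n * i) (hjq : j * (N.r * N.x ^ n) = N.r * N.x ^ n * j)
    (hi2 : i * i = 1) (hj2 : j * j = 1) (hi1 : i ≠ 1) (hj1 : j ≠ 1) (hij : i * j = j * i) : i = j := by
  obtain ⟨h, hhx, he⟩ := N.exists_conj_r hW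
  have hrxc : Commute N.r N.x := N.rx
  have hkx : SemiconjBy N.k N.x N.x⁻¹ := N.kx
  have hconjx : ∀ m : ℕ, h * N.x ^ m * h⁻¹ = N.x ^ m := fun m => by
    rw [((show Commute h N.x from hhx).pow_right m).eq, mul_inv_cancel_right]
  obtain ⟨α, β, γ, he'⟩ := N.mem_E.1 he
  have hne : ∀ m : ℕ, N.a ^ α * N.b ^ β * N.c ^ γ ≠ (N.a * N.b) ^ m := by
    intro m e
    rw [← he'] at e
    have e' : h * N.r * h⁻¹ = h * N.x ^ m * h⁻¹ := by rw [hconjx]; exact e
    exact N.r_ne_pow m (mul_left_cancel (mul_right_cancel e'))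
  rcases N.pattern α β γ hne with htri | ⟨m, hm, hkind⟩
  · -- `C(e)` would have `z` conjugate to an element inverting `x`
    exfalso
    set e := h * N.r * h⁻¹ with hedef
    rw [← he'] at htri
    set k' := h * N.k * h⁻¹ with hk'
    have hk'e : k' * e = e * k' := by
      rw [hk', hedef]
      calc h * N.k * h⁻¹ * (h * N.r * h⁻¹) = h * (N.k * N.r) * h⁻¹ := by group
        _ = h * (N.r * N.k) * h⁻¹ := by rw [N.kr]
        _ = _ := by group
    have hk'x : SemiconjBy k' N.x N.x⁻¹ := by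
      show h * N.k * h⁻¹ * N.x = N.x⁻¹ * (h * N.k * h⁻¹)
      have h1 : h⁻¹ * N.x = N.x * h⁻¹ := (show Commute h N.x from hhx).inv_left.eq
      have h2 : h * N.x⁻¹ = N.x⁻¹ * h := (show Commute h N.x from hhx).inv_right.eq
      rw [mul_assoc, h1, ← mul_assoc, mul_assoc h N.k N.x, hkx.eq, ← mul_assoc, h2]
      group
    -- the 2-part of `k'`
    obtain ⟨t, o, ho, hto⟩ := Nat.exists_eq_two_pow_mul_odd (orderOf_pos k').ne'
    set s := k' ^ o with hs
    have hsx : SemiconjBy s N.x N.x⁻¹ := by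
      have hsq : Commute (k' * k') N.x := by
        have h2 : SemiconjBy (k' * k') N.x N.x⁻¹⁻¹ := SemiconjBy.mul_left hk'x.inv_right hk'x
        rwa [inv_inv] at h2
      obtain ⟨l, hl⟩ := ho
      rw [hs, hl, pow_succ', pow_mul, pow_two]
      exact SemiconjBy.mul_left hk'x (hsq.pow_left l)
    set K : Subgroup G := centralizer ({e} : Set G) ⊓ normalizer ((zpowers N.x : Subgroup G) : Set G)
      with hK
    have mnx : ∀ w : G, (Commute w N.x ∨ SemiconjBy w N.x N.x⁻¹) →
        w ∈ normalizer ((zpowers N.x : Subgroup G) : Set G) := by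
      intro w hw
      have key : ∀ v : G, (Commute v N.x ∨ SemiconjBy v N.x N.x⁻¹) → ∀ y ∈ zpowers N.x,
          v * y * v⁻¹ ∈ zpowers N.x := by
        rintro v (hv | hv) y ⟨q, rfl⟩
        · show v * N.x ^ q * v⁻¹ ∈ zpowers N.x
          rw [(hv.zpow_right q).eq, mul_inv_cancel_right]; exact ⟨q, rfl⟩
        · show v * N.x ^ q * v⁻¹ ∈ zpowers N.x
          rw [(hv.zpow_right q).eq, mul_inv_cancel_right, inv_zpow]
          exact inv_mem ⟨q, rfl⟩
      rw [Subgroup.mem_normalizer_iff]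
      intro y
      refine ⟨key w hw y, fun hy => ?_⟩
      have hwi : Commute w⁻¹ N.x ∨ SemiconjBy w⁻¹ N.x N.x⁻¹ := by
        rcases hw with hw | hw
        · exact Or.inl hw.inv_left
        · refine Or.inr ?_
          have := hw.inv_right.inv_symm_left
          rwa [inv_inv] at this
      have := key w⁻¹ hwi _ hy
      simpa [mul_assoc] using this
    have heE : e ∈ N.E := he
    have hzK : N.z ∈ K := ⟨mem_centralizer_singleton_iff.2 (N.E_z heE).symm, mnx _ (Or.inl N.zx')⟩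
    have hsK : s ∈ K := ⟨mem_centralizer_singleton_iff.2 ((show Commute k' e from hk'e).pow_left o).eq,
      mnx _ (Or.inr hsx)⟩
    have hs1 : s ≠ 1 := by
      intro e1
      rw [e1] at hsx
      have h2 : N.x = N.x⁻¹ := by simpa [SemiconjBy] using hsx
      have h3 : N.x * N.x = 1 := by nth_rewrite 2 [h2]; exact mul_inv_cancel _
      have h4 : N.a ^ 2 * N.b ^ 2 * N.c ^ 0 = 1 := by
        rw [pow_zero, mul_one, ← (show Commute N.a N.b from N.ab).mul_pow, pow_two]; exact h3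
      exact absurd (N.indep 2 2 0 h4).1 (by norm_num)
    obtain ⟨w, hwK, hwz⟩ := ten_two_conj (centralizer ({e} : Set G)) N.z_sq N.z_ne
      (fun i hi h2 hc => N.triple_two e htri i h2 hc (mem_centralizer_singleton_iff.1 hi))
      inf_le_left hzK hsK ⟨t, by rw [hs, ← pow_mul, Nat.mul_comm, ← hto, pow_orderOf_eq_one]⟩ hs1
    have hwx : w⁻¹ * N.x * w ∈ zpowers N.x :=
      (Subgroup.mem_normalizer_iff.1 hwK.2 _).2 (by simp [mul_assoc])
    obtain ⟨q, hq⟩ := hwx
    have hq' : N.x ^ q = w⁻¹ * N.x * w := hq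
    have hsx' : Commute s N.x := by
      rw [← hwz]
      show w * N.z * w⁻¹ * N.x = N.x * (w * N.z * w⁻¹)
      calc w * N.z * w⁻¹ * N.x = w * (N.z * (w⁻¹ * N.x * w)) * w⁻¹ := by group
        _ = w * ((w⁻¹ * N.x * w) * N.z) * w⁻¹ := by rw [← hq', (N.zx'.zpow_right q).eq]
        _ = _ := by group
    have h5 : N.x⁻¹ * s = N.x * s := hsx.eq.symm.trans hsx'.eq
    have h2 : N.x⁻¹ = N.x := mul_right_cancel h5
    have h3 : N.x * N.x = 1 := by nth_rewrite 2 [← h2]; exact mul_inv_cancel _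
    have h4 : N.a ^ 2 * N.b ^ 2 * N.c ^ 0 = 1 := by
      rw [pow_zero, mul_one, ← (show Commute N.a N.b from N.ab).mul_pow, pow_two]; exact h3
    exact absurd (N.indep 2 2 0 h4).1 (by norm_num)
  · -- `r x ^ m` and its conjugate under `k`
    rw [← he'] at hkind
    change TenSingle N.a N.b N.c (h * N.r * h⁻¹ * N.x ^ m) ∨
      TenTriple N.a N.b N.c (h * N.r * h⁻¹ * N.x ^ m) at hkind
    set y := h * N.r * h⁻¹ * N.x ^ m with hy
    have hyE : y ∈ N.E :=
      mul_mem he (pow_mem (mul_mem (subset_closure (by simp)) (subset_closure (by simp))) m)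
    have huniq : ∀ i ∈ centralizer ({y} : Set G), i * i = 1 → i * N.z = N.z * i → i = 1 ∨ i = N.z := by
      intro i hi h2 hc
      rcases hkind with hk | hk
      · exact N.single_invol y hk i h2 hc (mem_centralizer_singleton_iff.1 hi)
      · exact N.triple_two y hk i (Or.inl h2) hc (mem_centralizer_singleton_iff.1 hi)
    have base : ∀ {i j : G}, i * (N.r * N.x ^ m) = N.r * N.x ^ m * i →
        j * (N.r * N.x ^ m) = N.r * N.x ^ m * j → i * i = 1 → j * j = 1 → i ≠ 1 → j ≠ 1 →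
        i * j = j * i → i = j := by
      intro i j hi hj hi2 hj2 hi1 hj1 hij
      have hq : ∀ v : G, v * (N.r * N.x ^ m) = N.r * N.x ^ m * v → h * v * h⁻¹ ∈ centralizer ({y} : Set G) := by
        intro v hv
        rw [mem_centralizer_singleton_iff, hy]
        have e1 : h * N.r * h⁻¹ * N.x ^ m = h * (N.r * N.x ^ m) * h⁻¹ := by
          nth_rewrite 1 [← hconjx m]; group
        rw [e1, show h * v * h⁻¹ * (h * (N.r * N.x ^ m) * h⁻¹) = h * (v * (N.r * N.x ^ m)) * h⁻¹ by group,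
          hv]
        group
      have key := ten_invol_unique (centralizer ({y} : Set G)) (mem_centralizer_singleton_iff.2
        (N.E_z hyE).symm) N.z_sq N.z_ne huniq (hq i hi) (hq j hj)
        (by rw [show h * i * h⁻¹ * (h * i * h⁻¹) = h * (i * i) * h⁻¹ by group, hi2, mul_one, mul_inv_cancel])
        (by rw [show h * j * h⁻¹ * (h * j * h⁻¹) = h * (j * j) * h⁻¹ by group, hj2, mul_one, mul_inv_cancel])
        (fun e => hi1 (conj_eq_one_iff.1 e)) (fun e => hj1 (conj_eq_one_iff.1 e))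
        (by rw [show h * i * h⁻¹ * (h * j * h⁻¹) = h * (i * j) * h⁻¹ by group, hij]; group)
      exact mul_left_cancel (mul_right_cancel key)
    have hx3 : N.x ^ 3 = 1 := by
      rw [TenData.x, (show Commute N.a N.b from N.ab).mul_pow, N.a3, N.b3, one_mul]
    rcases (show n % 3 = m % 3 ∨ n % 3 = 2 * m % 3 by omega) with hnm | hnm
    · rw [pow_eq_pow_mod n hx3, hnm, ← pow_eq_pow_mod m hx3] at hiq hjq
      exact base hiq hjq hi2 hj2 hi1 hj1 hij
    · rw [pow_eq_pow_mod n hx3, hnm, ← pow_eq_pow_mod (2 * m) hx3] at hiq hjq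
      have hk2 : SemiconjBy N.k (N.r * N.x ^ (2 * m)) (N.r * N.x ^ m) := by
        refine SemiconjBy.mul_right N.kr ?_
        have e : N.x⁻¹ ^ (2 * m) = N.x ^ m := by
          rw [inv_pow, inv_eq_iff_mul_eq_one, ← pow_add, show 2 * m + m = 3 * m by ring, pow_mul, hx3,
            one_pow]
        rw [← e]
        exact hkx.pow_right _
      have hq : ∀ v : G, v * (N.r * N.x ^ (2 * m)) = N.r * N.x ^ (2 * m) * v →
          N.k * v * N.k⁻¹ * (N.r * N.x ^ m) = N.r * N.x ^ m * (N.k * v * N.k⁻¹) := by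
        intro v hv
        have e : N.r * N.x ^ m = N.k * (N.r * N.x ^ (2 * m)) * N.k⁻¹ := by
          rw [hk2.eq, mul_inv_cancel_right]
        rw [e, show N.k * v * N.k⁻¹ * (N.k * (N.r * N.x ^ (2 * m)) * N.k⁻¹) =
          N.k * (v * (N.r * N.x ^ (2 * m))) * N.k⁻¹ by group, hv]
        group
      have key := base (hq i hiq) (hq j hjq)
        (by rw [show N.k * i * N.k⁻¹ * (N.k * i * N.k⁻¹) = N.k * (i * i) * N.k⁻¹ by group, hi2, mul_one,
          mul_inv_cancel])
        (by rw [show N.k * j * N.k⁻¹ * (N.k * j * N.k⁻¹) = N.k * (j * j) * N.k⁻¹ by group, hj2, mul_one,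
          mul_inv_cancel])
        (fun e => hi1 (conj_eq_one_iff.1 e)) (fun e => hj1 (conj_eq_one_iff.1 e))
        (by rw [show N.k * i * N.k⁻¹ * (N.k * j * N.k⁻¹) = N.k * (i * j) * N.k⁻¹ by group, hij]; group)
      exact mul_left_cancel (mul_right_cancel key)

/-- If `z` inverts nothing in `C(a, b)`, degree ten is impossible. -/
theorem false_of_inverted (hW : ∀ w, N.Inverted w → w = 1) : False := by
  haveI : Fact (Nat.Prime 2) := ⟨Nat.prime_two⟩
  haveI : Fact (Nat.Prime 3) := ⟨Nat.prime_three⟩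
  have huz : N.u * N.z = N.z * N.u := N.zu.symm
  have hzr : SemiconjBy N.r N.z N.u := N.rz
  have hur : SemiconjBy N.r N.u (N.u * N.z) := N.ru
  have hrx : Commute N.r N.x := N.rx
  have hx3 : N.x ^ 3 = 1 := by
    rw [TenData.x, (show Commute N.a N.b from N.ab).mul_pow, N.a3, N.b3, one_mul]
  have hxu : Commute N.u N.x := by
    have hub : N.u * N.b * N.u = N.a := by
      rw [← N.ua, show N.u * (N.u * N.a * N.u) * N.u = N.u * N.u * N.a * (N.u * N.u) by group, N.u_sq,
        one_mul, mul_one]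
    have h : N.u * N.x * N.u = N.x := by
      calc N.u * (N.a * N.b) * N.u = N.u * N.a * (N.u * N.u) * N.b * N.u := by rw [N.u_sq]; group
        _ = (N.u * N.a * N.u) * (N.u * N.b * N.u) := by group
        _ = N.a * N.b := by rw [N.ua, hub, N.ab]
    show N.u * N.x = N.x * N.u
    calc N.u * N.x = N.u * N.x * (N.u * N.u) := by rw [N.u_sq, mul_one]
      _ = N.u * N.x * N.u * N.u := by group
      _ = _ := by rw [h]
  obtain ⟨Q, hQ, hQc, hQn, q, hqQ, hq⟩ := N.root
  -- the four-group and its centralizer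
  set V : Subgroup G := closure ({N.z, N.u} : Set G) with hV
  set H : Subgroup G := centralizer ({N.z} : Set G) ⊓ centralizer ({N.u} : Set G) with hH
  have mH : ∀ w, w ∈ H ↔ w * N.z = N.z * w ∧ w * N.u = N.u * w := fun w =>
    ⟨fun h => ⟨mem_centralizer_singleton_iff.1 h.1, mem_centralizer_singleton_iff.1 h.2⟩,
      fun h => ⟨mem_centralizer_singleton_iff.2 h.1, mem_centralizer_singleton_iff.2 h.2⟩⟩
  have hQH : Q ≤ H := fun w hw => (mH w).2 (hQc w hw)
  set R : Subgroup G := (Cfsg.pCore 2 H).map H.subtype with hR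
  have hRH : R ≤ H := map_subtype_le _
  have hR2 : IsPGroup 2 R := (Amalgam.isPGroup_pCore (p := 2) (G := H)).map _
  have hQR : Q ≤ R := by
    intro w hw
    refine ⟨⟨w, hQH hw⟩, Amalgam.le_pCore (N := Q.subgroupOf H) ⟨fun v hv f => ?_⟩
      (hQ.of_equiv (subgroupOfEquivOfLe hQH).symm) (mem_subgroupOf.2 hw), rfl⟩
    rw [mem_subgroupOf] at hv ⊢
    exact hQn _ ((mH _).1 f.2).1 ((mH _).1 f.2).2 _ hv
  have hchar : ∀ g : G, (∀ w, w ∈ H → g * w * g⁻¹ ∈ H) → g ∈ normalizer (R : Set G) := by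
    intro g hg
    have hgH : H.map (MulAut.conj g).toMonoidHom = H := by
      refine Subgroup.eq_of_le_of_card_ge ?_ ?_
      · rintro _ ⟨w, hw, rfl⟩; exact hg w hw
      · rw [card_map_of_injective (f := (MulAut.conj g).toMonoidHom) (MulAut.conj g).injective]
    let e : H ≃* H := ((MulAut.conj g).subgroupMap H).trans (MulEquiv.subgroupCongr hgH)
    haveI := CfsgLib.Solvable.pCore_characteristic 2 H
    have hfix := Characteristic.fixed (inferInstance : (Cfsg.pCore 2 H).Characteristic) e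
    have key : ∀ w, w ∈ R → g * w * g⁻¹ ∈ R := by
      rintro _ ⟨v, hv, rfl⟩
      refine ⟨e v, ?_, rfl⟩
      rw [← hfix] at hv
      exact hv
    rw [Subgroup.mem_normalizer_iff]
    intro w
    refine ⟨key w, fun hw => ?_⟩
    have hRmap : R.map (MulAut.conj g).toMonoidHom = R := by
      refine Subgroup.eq_of_le_of_card_ge ?_ ?_
      · rintro _ ⟨v, hv, rfl⟩; exact key v hv
      · rw [card_map_of_injective (f := (MulAut.conj g).toMonoidHom) (MulAut.conj g).injective]
    have hw' : g * w * g⁻¹ ∈ R.map (MulAut.conj g).toMonoidHom := hRmap.symm ▸ hw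
    obtain ⟨v, hv, hvw⟩ := hw'
    have : v = w := (MulAut.conj g).injective (by simpa using hvw)
    exact this ▸ hv
  have hrH : ∀ w, w ∈ H → N.r * w * N.r⁻¹ ∈ H := by
    intro w hw
    obtain ⟨hwz, hwu⟩ := (mH w).1 hw
    have hcj : ∀ v v' : G, SemiconjBy N.r v v' → Commute w v → Commute (N.r * w * N.r⁻¹) v' := by
      intro v v' h hc
      show N.r * w * N.r⁻¹ * v' = v' * (N.r * w * N.r⁻¹)
      rw [show v' = N.r * v * N.r⁻¹ by rw [h.eq, mul_inv_cancel_right],
        show N.r * w * N.r⁻¹ * (N.r * v * N.r⁻¹) = N.r * (w * v) * N.r⁻¹ by group, hc.eq]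
      group
    have h1 : Commute (N.r * w * N.r⁻¹) N.u := hcj _ _ hzr hwz
    have h2 := h1.mul_right (hcj _ _ hur hwu)
    rw [← mul_assoc, N.u_sq, one_mul] at h2
    exact (mH _).2 ⟨h2, h1⟩
  have hxH : N.x ∈ H := (mH _).2 ⟨N.zx'.symm.eq, hxu.symm.eq⟩
  set A : Subgroup G := closure ({N.x, N.r} : Set G) with hA
  have mA : ∀ w, w ∈ A → ∃ i j : ℕ, w = N.x ^ i * N.r ^ j := by
    intro w hw
    have hm : ∀ i j i' j' : ℕ, N.x ^ i * N.r ^ j * (N.x ^ i' * N.r ^ j') =
        N.x ^ (i + i') * N.r ^ (j + j') := by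
      intro i j i' j'
      calc N.x ^ i * N.r ^ j * (N.x ^ i' * N.r ^ j') = N.x ^ i * (N.r ^ j * N.x ^ i') * N.r ^ j' := by group
        _ = _ := by rw [(hrx.pow_pow j i').eq, pow_add, pow_add]; group
    induction hw using closure_induction with
    | mem w hw => rcases hw with rfl | rfl; exacts [⟨1, 0, by simp⟩, ⟨0, 1, by simp⟩]
    | one => exact ⟨0, 0, by simp⟩
    | mul v w _ _ ihv ihw =>
      obtain ⟨i, j, rfl⟩ := ihv
      obtain ⟨i', j', rfl⟩ := ihw
      exact ⟨_, _, hm i j i' j'⟩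
    | inv v _ ihv =>
      obtain ⟨i, j, rfl⟩ := ihv
      refine ⟨2 * i, 2 * j, inv_eq_of_mul_eq_one_right ?_⟩
      rw [hm, show i + 2 * i = 3 * i by ring, show j + 2 * j = 3 * j by ring, pow_mul, pow_mul, hx3, N.r3]
      simp
  have hAcube : ∀ w ∈ A, w ^ 3 = 1 := by
    intro w hw
    obtain ⟨i, j, rfl⟩ := mA w hw
    rw [(hrx.symm.pow_pow i j).mul_pow, ← pow_mul, ← pow_mul, Nat.mul_comm i, Nat.mul_comm j, pow_mul,
      pow_mul, hx3, N.r3]
    simp
  have hAp : IsPGroup 3 A := fun w => ⟨1, Subtype.ext (by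
    show (w : G) ^ 3 ^ 1 = 1
    rw [pow_one]; exact hAcube w w.2)⟩
  have hAab : IsMulCommutative A := ⟨⟨fun v w => Subtype.ext (by
    obtain ⟨i, j, hv⟩ := mA v v.2
    obtain ⟨i', j', hw⟩ := mA w w.2
    show (v : G) * w = w * v
    rw [hv, hw]
    exact (((Commute.refl N.x).pow_pow i i').mul_right (hrx.symm.pow_pow i j')).mul_left
      ((hrx.pow_pow j i').mul_right ((Commute.refl N.r).pow_pow j j')))⟩⟩
  have hxA : N.x ∈ A := subset_closure (by simp)
  have hrA : N.r ∈ A := subset_closure (by simp)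
  have hx1 : N.x ≠ 1 := fun e => by
    have h4 : N.a ^ 1 * N.b ^ 1 * N.c ^ 0 = 1 := by rw [pow_one, pow_one, pow_zero, mul_one]; exact e
    exact absurd (N.indep 1 1 0 h4).1 (by norm_num)
  have hnc : ¬ IsCyclic A := by
    intro hc
    obtain ⟨g, hg⟩ := hc.exists_generator
    have hlt : Nat.card A ≤ 3 := by
      rw [← orderOf_eq_card_of_forall_mem_zpowers hg]
      exact Nat.le_of_dvd (by norm_num) (orderOf_dvd_of_pow_eq_one (Subtype.ext (hAcube g g.2)))
    have hox : orderOf N.x = 3 := orderOf_eq_prime hx3 hx1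
    have heq : zpowers N.x = A :=
      Subgroup.eq_of_le_of_card_ge (zpowers_le.2 hxA) (by rw [Nat.card_zpowers, hox]; exact hlt)
    have hr' : N.r ∈ zpowers N.x := heq ▸ hrA
    obtain ⟨l, hl⟩ := (isOfFinOrder_of_finite _).mem_powers_iff_mem_zpowers.2 hr'
    exact N.r_ne_pow l hl.symm
  have hAn : A ≤ normalizer (R : Set G) := by
    refine (closure_le _).2 ?_
    rintro w (rfl | rfl)
    · exact hchar _ (fun w hw => mul_mem (mul_mem hxH hw) (inv_mem hxH))
    · exact hchar _ hrH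
  have hcop : (Nat.card A).Coprime (Nat.card R) := by
    obtain ⟨m, hm⟩ := IsPGroup.iff_card.1 hAp
    obtain ⟨m', hm'⟩ := IsPGroup.iff_card.1 hR2
    rw [hm, hm']
    exact Nat.Coprime.pow _ _ (by norm_num)
  -- `C_R(x) ≤ V`
  have hVmem : ∀ w ∈ V, w = 1 ∨ w = N.z ∨ w = N.u ∨ w = N.u * N.z := by
    intro w hw
    induction hw using closure_induction with
    | mem w hw => rcases hw with rfl | rfl; exacts [Or.inr (Or.inl rfl), Or.inr (Or.inr (Or.inl rfl))]
    | one => exact Or.inl rfl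
    | mul v w _ _ ihv ihw =>
      have g1 : ∀ g, N.z * (N.z * g) = g := fun g => by rw [← mul_assoc, N.z_sq, one_mul]
      have g2 : ∀ g, N.u * (N.u * g) = g := fun g => by rw [← mul_assoc, N.u_sq, one_mul]
      have g3 : ∀ g, N.z * (N.u * g) = N.u * (N.z * g) := fun g => by
        rw [← mul_assoc, N.zu, mul_assoc]
      rcases ihv with rfl | rfl | rfl | rfl <;> rcases ihw with rfl | rfl | rfl | rfl <;>
        simp [mul_assoc, N.z_sq, N.u_sq, N.zu, g1, g2, g3]
    | inv v _ ihv =>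
      have e1 : N.z⁻¹ = N.z := N.z_inv'
      have e2 : N.u⁻¹ = N.u := inv_eq_of_mul_eq_one_right N.u_sq
      rcases ihv with rfl | rfl | rfl | rfl
      · exact Or.inl inv_one
      · exact Or.inr (Or.inl e1)
      · exact Or.inr (Or.inr (Or.inl e2))
      · exact Or.inr (Or.inr (Or.inr (by rw [mul_inv_rev, e1, e2, huz])))
  have hzV : N.z ∈ V := subset_closure (by simp)
  have huV : N.u ∈ V := subset_closure (by simp)
  have hCx : ∀ w ∈ R, w * N.x = N.x * w → w ∈ V := by
    intro w hw hwx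
    obtain ⟨hwz, hwu⟩ := (mH w).1 (hRH hw)
    obtain ⟨i, hi⟩ := N.cent_H w hwz hwu hwx
    obtain ⟨v, hv, hv2, hvx, rfl⟩ : ∃ v, v ∈ V ∧ v * v = 1 ∧ Commute (N.x ^ i) v ∧ w = N.x ^ i * v := by
      rcases hi with e | e | e | e
      · exact ⟨1, one_mem _, one_mul _, Commute.one_right _, by rw [mul_one]; exact e⟩
      · exact ⟨N.z, hzV, N.z_sq, N.zx'.symm.pow_left i, e⟩
      · exact ⟨N.u, huV, N.u_sq, hxu.symm.pow_left i, e⟩
      · refine ⟨N.u * N.z, mul_mem huV hzV, ?_, (hxu.symm.mul_right N.zx'.symm).pow_left i, e⟩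
        rw [mul_assoc, ← mul_assoc N.z, ← huz, mul_assoc, N.z_sq, mul_one, N.u_sq]
    have hsq : N.x ^ i * v * (N.x ^ i * v) = (N.x ^ i) ^ 2 := by
      rw [← pow_two, hvx.mul_pow, pow_two v, hv2, mul_one]
    obtain ⟨m, hm⟩ := hR2 ⟨_, mul_mem hw hw⟩
    have h1 : ((N.x ^ i) ^ 2) ^ 2 ^ m = 1 := by rw [← hsq]; exact congrArg Subtype.val hm
    have h2 : (N.x ^ i) ^ 3 = 1 := by rw [← pow_mul, Nat.mul_comm, pow_mul, hx3, one_pow]
    have h3 : orderOf (N.x ^ i) ∣ Nat.gcd (2 * 2 ^ m) 3 :=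
      Nat.dvd_gcd (orderOf_dvd_of_pow_eq_one (by rw [pow_mul]; exact h1)) (orderOf_dvd_of_pow_eq_one h2)
    have hcp : Nat.gcd (2 * 2 ^ m) 3 = 1 :=
      Nat.Coprime.mul_left (by norm_num) (Nat.Coprime.pow_left m (by norm_num))
    rw [hcp, Nat.dvd_one, orderOf_eq_one_iff] at h3
    rw [h3, one_mul]
    exact hv
  -- the two other lines fix nothing
  have hCq : ∀ n : ℕ, ¬ 3 ∣ n → ∀ w ∈ R, w * (N.r * N.x ^ n) = N.r * N.x ^ n * w → w = 1 := by
    intro n hn w hw hwq
    by_contra hw1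
    set T : Subgroup G := R ⊓ centralizer ({N.r * N.x ^ n} : Set G) with hT
    have hTp : IsPGroup 2 T := hR2.to_le inf_le_left
    have hwT : w ∈ T := ⟨hw, mem_centralizer_singleton_iff.2 hwq⟩
    haveI : Nontrivial T := ⟨⟨⟨w, hwT⟩, 1, fun e => hw1 (congrArg Subtype.val e)⟩⟩
    haveI : Nontrivial (center T) := hTp.center_nontrivial
    obtain ⟨m, hm0, hm⟩ := IsPGroup.nontrivial_iff_card (hTp.to_subgroup (center T)) |>.1 inferInstance
    obtain ⟨c, hc⟩ := exists_prime_orderOf_dvd_card' (G := center T) 2 (hm ▸ dvd_pow_self 2 (by omega))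
    have hc' : orderOf ((c : T) : G) = 2 := by rw [Subgroup.orderOf_coe, Subgroup.orderOf_coe, hc]
    set i := ((c : T) : G) with hi
    have hi2 : i * i = 1 := by rw [← pow_two, ← hc', pow_orderOf_eq_one]
    have hi1 : i ≠ 1 := fun e => by rw [e, orderOf_one] at hc'; exact absurd hc' (by norm_num)
    have hiT : i ∈ T := (c : T).2
    have hxq : Commute N.x (N.r * N.x ^ n) := hrx.symm.mul_right ((Commute.refl _).pow_right n)
    have hjT : N.x * i * N.x⁻¹ ∈ T := by
      refine ⟨?_, mem_centralizer_singleton_iff.2 ?_⟩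
      · exact (Subgroup.mem_normalizer_iff.1 (hAn hxA) i).1 hiT.1
      · exact ((hxq.mul_left (mem_centralizer_singleton_iff.1 hiT.2)).mul_left hxq.inv_left).eq
    have hj2 : N.x * i * N.x⁻¹ * (N.x * i * N.x⁻¹) = 1 := by
      rw [show N.x * i * N.x⁻¹ * (N.x * i * N.x⁻¹) = N.x * (i * i) * N.x⁻¹ by group, hi2, mul_one,
        mul_inv_cancel]
    have hcomm : i * (N.x * i * N.x⁻¹) = N.x * i * N.x⁻¹ * i :=
      (congrArg Subtype.val (mem_center_iff.1 c.2 ⟨_, hjT⟩)).symm
    have heq := N.no_four hW n hn (mem_centralizer_singleton_iff.1 hiT.2)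
      (mem_centralizer_singleton_iff.1 hjT.2) hi2 hj2 hi1 (fun e => hi1 (conj_eq_one_iff.1 e)) hcomm
    have hix : i * N.x = N.x * i := by
      nth_rewrite 1 [heq]
      rw [inv_mul_cancel_right]
    have hir : Commute N.r i := by
      have h1 : Commute i (N.r * N.x ^ n) := mem_centralizer_singleton_iff.1 hiT.2
      have h2 := h1.mul_right ((show Commute i N.x from hix).pow_right n).inv_right
      rw [mul_inv_cancel_right] at h2
      exact h2.symm
    have hir' : N.r * i = i * N.r := hir.eq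
    rcases hVmem i (hCx i hiT.1 hix) with e | e | e | e
    · exact hi1 e
    · rw [e, N.rz] at hir'
      exact N.u_ne_z (mul_right_cancel hir')
    · rw [e, N.ru] at hir'
      exact N.z_ne (mul_eq_left.1 (mul_right_cancel hir'))
    · rw [e, (hur.mul_right hzr).eq] at hir'
      have h1 : N.u * N.z * N.u = N.u * N.z := mul_right_cancel hir'
      exact N.u_ne (mul_eq_left.1 h1)
  -- generation
  have hgen := CfsgLib.Coprime.iSup_centralizer_eq hAab hnc hAn hcop
  set D : Subgroup G := centralizer ({N.r} : Set G) ⊓ H with hD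
  set M : Subgroup G := V ⊔ D with hM
  have hRM : R ≤ M := by
    rw [← hgen]
    refine iSup_le fun a => ?_
    obtain ⟨a, haA, ha1⟩ := a
    intro w hw
    have hwa : Commute w a := mem_centralizer_singleton_iff.1 hw.2
    have hwR : w ∈ R := hw.1
    obtain ⟨i, j, rfl⟩ := mA a haA
    by_cases hj : 3 ∣ j
    · obtain ⟨j', rfl⟩ := hj
      rw [pow_mul, N.r3, one_pow, mul_one] at hwa ha1
      have hi : ¬ 3 ∣ i := fun ⟨i', hi'⟩ => ha1 (by rw [hi', pow_mul, hx3, one_pow])
      refine mem_sup_left (hCx w hwR ?_)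
      have h := hwa.pow_right i
      rw [← pow_mul, pow_eq_pow_mod (i * i) hx3, Nat.mul_mod] at h
      have : i % 3 = 1 ∨ i % 3 = 2 := by omega
      rcases this with e | e <;> rw [e] at h <;> simpa using h.eq
    · have h := hwa.pow_right j
      rw [(hrx.symm.pow_pow i j).mul_pow, ← pow_mul, ← pow_mul N.r, pow_eq_pow_mod (j * j) N.r3,
        Nat.mul_mod] at h
      have hj1 : j % 3 = 1 ∨ j % 3 = 2 := by omega
      have hwq : w * (N.r * N.x ^ (i * j)) = N.r * N.x ^ (i * j) * w := by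
        rw [(hrx.pow_right (i * j)).eq]
        rcases hj1 with e | e <;> rw [e] at h <;> simpa using h.eq
      by_cases hn : 3 ∣ i * j
      · obtain ⟨m, hm⟩ := hn
        rw [hm, pow_mul, hx3, one_pow, mul_one] at hwq
        exact mem_sup_right ⟨mem_centralizer_singleton_iff.2 hwq, hRH hwR⟩
      · rw [hCq _ hn w hwR hwq]; exact one_mem _
  have hcomm : ∀ v ∈ V, ∀ d ∈ D, v * d = d * v := by
    intro v hv d hd
    obtain ⟨hdz, hdu⟩ := (mH d).1 hd.2
    rcases hVmem v hv with rfl | rfl | rfl | rfl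
    · rw [one_mul, mul_one]
    · exact hdz.symm
    · exact hdu.symm
    · exact ((show Commute d N.u from hdu).mul_right hdz).symm.eq
  have hsq : ∀ w ∈ M, w * w ∈ D := by
    intro w hw
    have hnorm : D ≤ normalizer (V : Set G) := fun d hd => Subgroup.mem_normalizer_iff.2 fun v =>
      ⟨fun hv => by rw [← hcomm v hv d hd, mul_inv_cancel_right]; exact hv, fun hv => by
        have h := hcomm _ hv d hd
        have e : d⁻¹ * (d * v * d⁻¹) * d = v := by group
        rw [← e, mul_assoc, h, inv_mul_cancel_left]; exact hv⟩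
    obtain ⟨v, hv, d, hd, rfl⟩ := (CfsgLib.Coprime.mem_sup_of_le_normalizer hnorm).1 hw
    have hv2 : v * v = 1 := by
      rcases hVmem v hv with rfl | rfl | rfl | rfl
      · exact one_mul 1
      · exact N.z_sq
      · exact N.u_sq
      · rw [mul_assoc, ← mul_assoc N.z, ← huz, mul_assoc, N.z_sq, mul_one, N.u_sq]
    have e : v * d * (v * d) = d * d := by
      rw [mul_assoc, ← mul_assoc d, ← hcomm v hv d hd, mul_assoc, ← mul_assoc v v, hv2, one_mul]
    rw [e]
    exact mul_mem hd hd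
  have hzD : N.z ∈ D := hq ▸ hsq q (hRM (hQR hqQ))
  have h := mem_centralizer_singleton_iff.1 hzD.1
  rw [N.rz] at h
  exact N.u_ne_z (mul_right_cancel h.symm)

end TenData

end CfsgLib.Recog.DoubleAlt
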