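import Cfsg.Agent.Lib.Clifford.AltSchur
import Mathlib.GroupTheory.Perm.Centralizer
import Mathlib.GroupTheory.SpecificGroups.Alternating.Simple
import Mathlib.Tactic

/-!
Degree ten: the permutations used in the local analysis and what commutes with them.
-/

set_option autoImplicit false
set_option linter.unusedSectionVars false
set_option maxRecDepth 100000
set_option linter.style.haveILetI false

namespace CfsgLib.Recog.DoubleAlt.Ten

open Equiv CfsgLib.Clifford.AltSchur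

abbrev pa : Perm (Fin 10) := c3 0 2 4
abbrev pb : Perm (Fin 10) := c3 1 3 5
abbrev pc : Perm (Fin 10) := c3 6 7 8
abbrev pc' : Perm (Fin 10) := c3 6 7 9
abbrev ps : Perm (Fin 10) := swap 0 1 * swap 2 3 * swap 4 5 * swap 6 7
abbrev p1 : Perm (Fin 10) := swap 2 4 * swap 3 5
abbrev p2 : Perm (Fin 10) := swap 6 7 * swap 8 9
abbrev pg : Perm (Fin 10) := swap 1 6 * (swap 3 8 * swap 3 5 * swap 3 7)
abbrev px : Perm (Fin 10) := pa * pb
abbrev pd : Perm (Fin 10) := pa * pb⁻¹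
abbrev p3 : Perm (Fin 10) := swap 0 1 * swap 2 3 * swap 4 5
abbrev p67 : Perm (Fin 10) := swap 6 7
abbrev p89 : Perm (Fin 10) := swap 8 9

theorem rels :
    pa ^ 3 = 1 ∧ pb ^ 3 = 1 ∧ pc ^ 3 = 1 ∧ pc' ^ 3 = 1 ∧
    pa * pb = pb * pa ∧ pa * pc = pc * pa ∧ pb * pc = pc * pb ∧
    pa * pc' = pc' * pa ∧ pb * pc' = pc' * pb ∧
    ps * pa * ps = pb ∧ ps * pb * ps = pa ∧ ps * pc * ps = pc⁻¹ ∧ ps * pc' * ps = pc'⁻¹ ∧
    p1 * pa * p1⁻¹ = pa⁻¹ ∧ p1 * pb * p1⁻¹ = pb⁻¹ ∧ p2 * pa * p2⁻¹ = pa ∧ p2 * pb * p2⁻¹ = pb ∧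
    p2 * pc * p2⁻¹ = pc'⁻¹ ∧
    pg * pa * pg⁻¹ = pa ∧ pg * pb * pg⁻¹ = pc ∧ pg * pc * pg⁻¹ = pb⁻¹ ∧
    pg * pg = swap 3 5 * swap 7 8 ∧ pc * pc' = swap 6 8 * swap 7 9 := by
  decide +kernel

theorem signs :
    Perm.sign pa = 1 ∧ Perm.sign pb = 1 ∧ Perm.sign pc = 1 ∧ Perm.sign pc' = 1 ∧
    Perm.sign ps = 1 ∧ Perm.sign p1 = 1 ∧ Perm.sign p2 = 1 ∧ Perm.sign pg = 1 := by
  decide +kernel

variable {q : Perm (Fin 10)}

theorem comm_apply {p : Perm (Fin 10)} (h : q * p = p * q) (x : Fin 10) : q (p x) = p (q x) := by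
  rw [← Perm.mul_apply, h, Perm.mul_apply]

theorem moved_of_comm {p : Perm (Fin 10)} (h : q * p = p * q) {x : Fin 10} (hx : p x ≠ x) :
    p (q x) ≠ q x := by
  rw [← comm_apply h]
  exact fun e => hx (q.injective e)

theorem fixed_of_comm {p : Perm (Fin 10)} (h : q * p = p * q) {x : Fin 10} (hx : p x = x) :
    p (q x) = q x := by
  rw [← comm_apply h, hx]

/-! ### The centralizer of the three disjoint three-cycles -/

theorem supp_facts : ∀ y : Fin 10, (pa y ≠ y → y = 0 ∨ y = 2 ∨ y = 4) ∧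
    (pb y ≠ y → y = 1 ∨ y = 3 ∨ y = 5) ∧ (pc y ≠ y → y = 6 ∨ y = 7 ∨ y = 8) ∧
    (pa y = y → pb y = y → pc y = y → y = 9) := by decide +kernel

theorem moved : pa 0 ≠ 0 ∧ pb 1 ≠ 1 ∧ pc 6 ≠ 6 ∧ pa 9 = 9 ∧ pb 9 = 9 ∧ pc 9 = 9 := by
  decide +kernel

theorem E_table : ∀ q0 q1 q6 : Fin 10, (q0 = 0 ∨ q0 = 2 ∨ q0 = 4) → (q1 = 1 ∨ q1 = 3 ∨ q1 = 5) →
    (q6 = 6 ∨ q6 = 7 ∨ q6 = 8) → ∃ i j l : Fin 3,
      q0 = (pa ^ (i : ℕ) * pb ^ (j : ℕ) * pc ^ (l : ℕ)) 0 ∧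
      q1 = (pa ^ (i : ℕ) * pb ^ (j : ℕ) * pc ^ (l : ℕ)) 1 ∧
      q6 = (pa ^ (i : ℕ) * pb ^ (j : ℕ) * pc ^ (l : ℕ)) 6 := by decide +kernel

theorem E_commutes : ∀ i j l : Fin 3,
    (pa ^ (i : ℕ) * pb ^ (j : ℕ) * pc ^ (l : ℕ)) * pa = pa * (pa ^ (i : ℕ) * pb ^ (j : ℕ) * pc ^ (l : ℕ)) ∧
    (pa ^ (i : ℕ) * pb ^ (j : ℕ) * pc ^ (l : ℕ)) * pb = pb * (pa ^ (i : ℕ) * pb ^ (j : ℕ) * pc ^ (l : ℕ)) ∧
    (pa ^ (i : ℕ) * pb ^ (j : ℕ) * pc ^ (l : ℕ)) * pc = pc * (pa ^ (i : ℕ) * pb ^ (j : ℕ) * pc ^ (l : ℕ)) := by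
  decide +kernel

theorem orbit_facts : pa 0 = 2 ∧ pa 2 = 4 ∧ pb 1 = 3 ∧ pb 3 = 5 ∧ pc 6 = 7 ∧ pc 7 = 8 := by
  decide +kernel

/-- Two permutations in the centralizer agreeing on three points are equal. -/
theorem eq_of_comm_E {q' : Perm (Fin 10)} (ha : q * pa = pa * q) (hb : q * pb = pb * q)
    (hc : q * pc = pc * q) (ha' : q' * pa = pa * q') (hb' : q' * pb = pb * q') (hc' : q' * pc = pc * q')
    (h0 : q 0 = q' 0) (h1 : q 1 = q' 1) (h6 : q 6 = q' 6) : q = q' := by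
  obtain ⟨o1, o2, o3, o4, o5, o6⟩ := orbit_facts
  have step : ∀ {p : Perm (Fin 10)}, q * p = p * q → q' * p = p * q' → ∀ {x y}, p x = y →
      q x = q' x → q y = q' y := fun h h' x y e hx => by
    rw [← e, comm_apply h, comm_apply h', hx]
  have h2 := step ha ha' o1 h0
  have h4 := step ha ha' o2 h2
  have h3 := step hb hb' o3 h1
  have h5 := step hb hb' o4 h3
  have h7 := step hc hc' o5 h6
  have h8 := step hc hc' o6 h7
  obtain ⟨-, -, -, m1, m2, m3⟩ := moved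
  have h9 : ∀ r : Perm (Fin 10), r * pa = pa * r → r * pb = pb * r → r * pc = pc * r → r 9 = 9 :=
    fun r ra rb rc => (supp_facts _).2.2.2 (fixed_of_comm ra m1) (fixed_of_comm rb m2)
      (fixed_of_comm rc m3)
  refine Equiv.ext fun x => ?_
  fin_cases x
  exacts [h0, h1, h2, h3, h4, h5, h6, h7, h8, (h9 q ha hb hc).trans (h9 q' ha' hb' hc').symm]

/-- The centralizer of `pa`, `pb`, `pc` is what they generate. -/
theorem exists_of_comm_E (ha : q * pa = pa * q) (hb : q * pb = pb * q) (hc : q * pc = pc * q) :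
    ∃ i j l : Fin 3, q = pa ^ (i : ℕ) * pb ^ (j : ℕ) * pc ^ (l : ℕ) := by
  obtain ⟨m0, m1, m6, -⟩ := moved
  obtain ⟨i, j, l, h0, h1, h6⟩ := E_table _ _ _ ((supp_facts _).1 (moved_of_comm ha m0))
    ((supp_facts _).2.1 (moved_of_comm hb m1)) ((supp_facts _).2.2.1 (moved_of_comm hc m6))
  obtain ⟨e1, e2, e3⟩ := E_commutes i j l
  exact ⟨i, j, l, eq_of_comm_E ha hb hc e1 e2 e3 h0 h1 h6⟩

/-! ### The centralizer of `pa * pb` -/

theorem px_facts : ∀ y : Fin 10, (px y ≠ y → y.val < 6) ∧ (px y = y → 6 ≤ y.val) := by decide +kernel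

theorem px_orbit : px 0 = 2 ∧ px 2 = 4 ∧ px 1 = 3 ∧ px 3 = 5 := by decide +kernel

theorem px_moved : px 0 ≠ 0 ∧ px 1 ≠ 1 ∧ px 6 = 6 ∧ px 7 = 7 ∧ px 8 = 8 ∧ px 9 = 9 := by
  decide +kernel

/-- The map given by the images of six points. -/
def ext6 (q0 q1 q6 q7 q8 q9 : Fin 10) : Fin 10 → Fin 10 :=
  ![q0, q1, px q0, px q1, px (px q0), px (px q1), q6, q7, q8, q9]

theorem eq_ext6 (h : q * px = px * q) :
    ∀ y, q y = ext6 (q 0) (q 1) (q 6) (q 7) (q 8) (q 9) y := by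
  obtain ⟨o1, o2, o3, o4⟩ := px_orbit
  intro y
  fin_cases y
  · rfl
  · rfl
  · show q 2 = px (q 0); rw [← comm_apply h, o1]
  · show q 3 = px (q 1); rw [← comm_apply h, o3]
  · show q 4 = px (px (q 0)); rw [← comm_apply h, ← comm_apply h, o1, o2]
  · show q 5 = px (px (q 1)); rw [← comm_apply h, ← comm_apply h, o3, o4]
  · rfl
  · rfl
  · rfl
  · rfl

theorem ext6_mem (h : q * px = px * q) :
    (q 0).val < 6 ∧ (q 1).val < 6 ∧ 6 ≤ (q 6).val ∧ 6 ≤ (q 7).val ∧ 6 ≤ (q 8).val ∧ 6 ≤ (q 9).val := by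
  obtain ⟨m0, m1, m6, m7, m8, m9⟩ := px_moved
  exact ⟨(px_facts _).1 (moved_of_comm h m0), (px_facts _).1 (moved_of_comm h m1),
    (px_facts _).2 (fixed_of_comm h m6), (px_facts _).2 (fixed_of_comm h m7),
    (px_facts _).2 (fixed_of_comm h m8), (px_facts _).2 (fixed_of_comm h m9)⟩

theorem conj_table : ∀ q0 q1 : Fin 10, q0.val < 6 → q1.val < 6 →
    q1 ∉ ({q0, px q0, px (px q0)} : Finset (Fin 10)) →
    (∀ y : Fin 10, y.val < 6 → ext6 q0 q1 6 7 8 9 (pa y) = pa (ext6 q0 q1 6 7 8 9 y)) ∨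
    (∀ y : Fin 10, y.val < 6 → ext6 q0 q1 6 7 8 9 (pa y) = pb (ext6 q0 q1 6 7 8 9 y)) := by
  decide +kernel

theorem ab_facts : ∀ y : Fin 10,
    (y.val < 6 → (pa y).val < 6) ∧ (6 ≤ y.val → pa y = y ∧ pb y = y) := by decide +kernel

theorem ext6_low : ∀ q0 q1 q6 q7 q8 q9 y : Fin 10, y.val < 6 →
    ext6 q0 q1 q6 q7 q8 q9 y = ext6 q0 q1 6 7 8 9 y := by
  intro q0 q1 q6 q7 q8 q9 y hy
  fin_cases y <;> simp [ext6] at hy ⊢

theorem low_stays (h : q * px = px * q) : ∀ y : Fin 10, y.val < 6 → (q y).val < 6 := by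
  intro y hy
  refine (px_facts _).1 (moved_of_comm h fun e => ?_)
  have := (px_facts y).2 e
  omega

theorem high_stays (h : q * px = px * q) : ∀ y : Fin 10, 6 ≤ y.val → 6 ≤ (q y).val := by
  intro y hy
  refine (px_facts _).2 (fixed_of_comm h ?_)
  by_contra e
  have := (px_facts y).1 e
  omega

/-- The centralizer of `pa * pb` permutes `pa` and `pb`. -/
theorem conj_pa (h : q * px = px * q) : q * pa * q⁻¹ = pa ∨ q * pa * q⁻¹ = pb := by
  obtain ⟨l0, l1, -⟩ := ext6_mem h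
  have hn : q 1 ∉ ({q 0, px (q 0), px (px (q 0))} : Finset (Fin 10)) := by
    obtain ⟨o1, o2, -⟩ := px_orbit
    rw [← comm_apply h, o1, ← comm_apply h, o2]
    simp
  have hlow : ∀ y : Fin 10, y.val < 6 → q y = ext6 (q 0) (q 1) 6 7 8 9 y := fun y hy => by
    rw [eq_ext6 h, ext6_low _ _ _ _ _ _ _ hy]
  have fin : ∀ p : Perm (Fin 10), (∀ y : Fin 10, 6 ≤ y.val → p y = y) →
      (∀ y : Fin 10, y.val < 6 →
        ext6 (q 0) (q 1) 6 7 8 9 (pa y) = p (ext6 (q 0) (q 1) 6 7 8 9 y)) → q * pa * q⁻¹ = p := by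
    intro p hp t
    refine mul_inv_eq_iff_eq_mul.2 (Equiv.ext fun y => ?_)
    simp only [Perm.mul_apply]
    by_cases hy : y.val < 6
    · rw [hlow _ ((ab_facts y).1 hy), t y hy, hlow y hy]
    · rw [((ab_facts y).2 (by omega)).1, hp _ (high_stays h y (by omega))]
  rcases conj_table _ _ l0 l1 hn with t | t
  · exact Or.inl (fin pa (fun y hy => ((ab_facts y).2 hy).1) t)
  · exact Or.inr (fin pb (fun y hy => ((ab_facts y).2 hy).2) t)

/-! ### The two blocks of the centralizer of `pa * pb` -/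

/-- The last four points. -/
def hi : Fin 4 → Fin 10 := ![6, 7, 8, 9]

/-- The map moving only the last four points. -/
def ext4 (t : Fin 4 → Fin 4) : Fin 10 → Fin 10 :=
  ![0, 1, 2, 3, 4, 5, hi (t 0), hi (t 1), hi (t 2), hi (t 3)]

theorem hi_facts : (∀ v : Fin 10, 6 ≤ v.val → ∃ a, hi a = v) ∧ (∀ a, 6 ≤ (hi a).val) ∧
    (∀ a b, hi a = hi b → a = b) ∧ hi 0 = 6 ∧ hi 1 = 7 ∧ hi 2 = 8 ∧ hi 3 = 9 := by decide +kernel

theorem ext6_high : ∀ (q0 q1 : Fin 10) (a b c d : Fin 4) (y : Fin 10), 6 ≤ y.val →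
    ext6 q0 q1 (hi a) (hi b) (hi c) (hi d) y = ext4 ![a, b, c, d] y := by
  intro q0 q1 a b c d y hy
  have h4 : ∀ v : Fin 10, 6 ≤ v.val → v = 6 ∨ v = 7 ∨ v = 8 ∨ v = 9 := by decide +kernel
  rcases h4 y hy with e | e | e | e <;> rw [e] <;> simp [ext6, ext4]

/-- The images of the two representatives and the permutation of the last four points. -/
theorem exists_param (h : q * px = px * q) :
    ∃ (q0 q1 : Fin 10) (a b c d : Fin 4), q0.val < 6 ∧ q1.val < 6 ∧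
      q1 ∉ ({q0, px q0, px (px q0)} : Finset (Fin 10)) ∧ [a, b, c, d].Nodup ∧
      q0 = q 0 ∧ q1 = q 1 ∧ hi a = q 6 ∧ hi b = q 7 ∧ hi c = q 8 ∧ hi d = q 9 ∧
      (∀ y : Fin 10, y.val < 6 → q y = ext6 q0 q1 6 7 8 9 y) ∧
      (∀ y : Fin 10, 6 ≤ y.val → q y = ext4 ![a, b, c, d] y) := by
  obtain ⟨l0, l1, l6, l7, l8, l9⟩ := ext6_mem h
  obtain ⟨a, ha⟩ := hi_facts.1 _ l6
  obtain ⟨b, hb⟩ := hi_facts.1 _ l7
  obtain ⟨c, hc⟩ := hi_facts.1 _ l8
  obtain ⟨d, hd⟩ := hi_facts.1 _ l9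
  refine ⟨q 0, q 1, a, b, c, d, l0, l1, ?_, ?_, rfl, rfl, ha, hb, hc, hd,
    fun y hy => ?_, fun y hy => ?_⟩
  · obtain ⟨o1, o2, -⟩ := px_orbit
    rw [← comm_apply h, o1, ← comm_apply h, o2]
    simp
  · have e : [q 6, q 7, q 8, q 9].Nodup :=
      (List.Nodup.map q.injective (show [(6 : Fin 10), 7, 8, 9].Nodup by decide))
    rw [← ha, ← hb, ← hc, ← hd] at e
    exact List.Nodup.of_map hi e
  · rw [eq_ext6 h, ext6_low _ _ _ _ _ _ _ hy]
  · rw [eq_ext6 h, ← ha, ← hb, ← hc, ← hd]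
    exact ext6_high _ _ _ _ _ _ y hy

/-- Permutations commuting with `pa * pb` are determined by six values. -/
theorem eq_of_six {q' : Perm (Fin 10)} (h : q * px = px * q) (h' : q' * px = px * q')
    (e0 : q 0 = q' 0) (e1 : q 1 = q' 1) (e6 : q 6 = q' 6) (e7 : q 7 = q' 7) (e8 : q 8 = q' 8)
    (e9 : q 9 = q' 9) : q = q' :=
  Equiv.ext fun y => by rw [eq_ext6 h, eq_ext6 h', e0, e1, e6, e7, e8, e9]

theorem inv_table6 : ∀ q0 q1 : Fin 10, q0.val < 6 → q1.val < 6 →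
    (∀ y : Fin 10, y.val < 6 → ext6 q0 q1 6 7 8 9 (ext6 q0 q1 6 7 8 9 (ext6 q0 q1 6 7 8 9 y)) = y) →
    (∀ y : Fin 10, y.val < 6 → ext6 q0 q1 6 7 8 9 (ps (ext6 q0 q1 6 7 8 9 (ps y))) = y) →
    ∃ i : Fin 3, q0 = (pd ^ (i : ℕ)) 0 ∧ q1 = (pd ^ (i : ℕ)) 1 := by decide +kernel

/-- The values on the last four points. -/
def onHigh (p : Perm (Fin 10)) (a b c d : Fin 4) : Bool :=
  decide (p 6 = hi a) && decide (p 7 = hi b) && decide (p 8 = hi c) && decide (p 9 = hi d)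

theorem onHigh_iff {p : Perm (Fin 10)} {a b c d : Fin 4} :
    onHigh p a b c d = true ↔ p 6 = hi a ∧ p 7 = hi b ∧ p 8 = hi c ∧ p 9 = hi d := by
  simp [onHigh, and_assoc]

theorem inv_table4 : ∀ a b c d : Fin 4,
    (∀ y : Fin 10, 6 ≤ y.val → ext4 ![a, b, c, d] (ext4 ![a, b, c, d] (ext4 ![a, b, c, d] y)) = y) →
    (∀ y : Fin 10, 6 ≤ y.val → ext4 ![a, b, c, d] (ps (ext4 ![a, b, c, d] (ps y))) = y) →
    ∃ j : Fin 3,
      onHigh (pc ^ (j : ℕ)) a b c d = true ∨ onHigh (pc' ^ (j : ℕ)) a b c d = true := by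
  decide +kernel

theorem prod_table : ∀ i j : Fin 3,
    (∀ y : Fin 10, y.val < 6 → (pd ^ (i : ℕ) * pc ^ (j : ℕ)) y = (pd ^ (i : ℕ)) y ∧
      (pd ^ (i : ℕ) * pc' ^ (j : ℕ)) y = (pd ^ (i : ℕ)) y) ∧
    (∀ y : Fin 10, 6 ≤ y.val → (pd ^ (i : ℕ) * pc ^ (j : ℕ)) y = (pc ^ (j : ℕ)) y ∧
      (pd ^ (i : ℕ) * pc' ^ (j : ℕ)) y = (pc' ^ (j : ℕ)) y) ∧
    (pd ^ (i : ℕ) * pc ^ (j : ℕ)) * px = px * (pd ^ (i : ℕ) * pc ^ (j : ℕ)) ∧
    (pd ^ (i : ℕ) * pc' ^ (j : ℕ)) * px = px * (pd ^ (i : ℕ) * pc' ^ (j : ℕ)) := by decide +kernel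

theorem ps_facts : ∀ y : Fin 10, (y.val < 6 → (ps y).val < 6) ∧ (6 ≤ y.val → 6 ≤ (ps y).val) := by
  decide +kernel

/-- Elements of order three commuting with `pa * pb` and inverted by `ps`. -/
theorem inverted_class (h : q * px = px * q) (h3 : q * q * q = 1) (hs : q * ps * q * ps = 1) :
    ∃ i j : Fin 3, q = pd ^ (i : ℕ) * pc ^ (j : ℕ) ∨ q = pd ^ (i : ℕ) * pc' ^ (j : ℕ) := by
  obtain ⟨q0, q1, a, b, c, d, l0, l1, -, -, e0, e1, ea, eb, ec, ed, hlow, hhigh⟩ := exists_param h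
  have h3' : ∀ y, q (q (q y)) = y := fun y => by
    rw [← Perm.mul_apply, ← Perm.mul_apply, h3, Perm.one_apply]
  have hs' : ∀ y, q (ps (q (ps y))) = y := fun y => by
    have := DFunLike.congr_fun hs y
    simpa only [Perm.mul_apply, Perm.one_apply] using this
  obtain ⟨i, hi0, hi1⟩ := inv_table6 _ _ l0 l1
    (fun y hy => by
      rw [← hlow y hy, ← hlow _ (low_stays h y hy), ← hlow _ (low_stays h _ (low_stays h y hy)), h3'])
    (fun y hy => by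
      have h1 := (ps_facts y).1 hy
      rw [← hlow _ h1, ← hlow _ ((ps_facts _).1 (low_stays h _ h1)), hs'])
  obtain ⟨j, hj⟩ := inv_table4 a b c d
    (fun y hy => by
      rw [← hhigh y hy, ← hhigh _ (high_stays h y hy), ← hhigh _ (high_stays h _ (high_stays h y hy)),
        h3'])
    (fun y hy => by
      have h1 := (ps_facts y).2 hy
      rw [← hhigh _ h1, ← hhigh _ ((ps_facts _).2 (high_stays h _ h1)), hs'])
  obtain ⟨hl, hh, c1, c2⟩ := prod_table i j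
  refine ⟨i, j, ?_⟩
  simp only [onHigh_iff] at hj
  rcases hj with ⟨a6, a7, a8, a9⟩ | ⟨a6, a7, a8, a9⟩
  · left
    refine eq_of_six h c1 ?_ ?_ ?_ ?_ ?_ ?_
    · rw [(hl 0 (by decide)).1, ← hi0, e0]
    · rw [(hl 1 (by decide)).1, ← hi1, e1]
    · rw [(hh 6 (by decide)).1, a6, ea]
    · rw [(hh 7 (by decide)).1, a7, eb]
    · rw [(hh 8 (by decide)).1, a8, ec]
    · rw [(hh 9 (by decide)).1, a9, ed]
  · right
    refine eq_of_six h c2 ?_ ?_ ?_ ?_ ?_ ?_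
    · rw [(hl 0 (by decide)).2, ← hi0, e0]
    · rw [(hl 1 (by decide)).2, ← hi1, e1]
    · rw [(hh 6 (by decide)).2, a6, ea]
    · rw [(hh 7 (by decide)).2, a7, eb]
    · rw [(hh 8 (by decide)).2, a8, ec]
    · rw [(hh 9 (by decide)).2, a9, ed]

theorem cent_table : ∀ q0 q1 : Fin 10, q0.val < 6 → q1.val < 6 →
    q1 ∉ ({q0, px q0, px (px q0)} : Finset (Fin 10)) →
    (∀ y : Fin 10, y.val < 6 → ext6 q0 q1 6 7 8 9 (ps y) = ps (ext6 q0 q1 6 7 8 9 y)) →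
    ∃ i : Fin 3, ∃ e : Fin 2, q0 = (px ^ (i : ℕ) * p3 ^ (e : ℕ)) 0 ∧
      q1 = (px ^ (i : ℕ) * p3 ^ (e : ℕ)) 1 := by decide +kernel

theorem cent_table4 : ∀ a b c d : Fin 4, [a, b, c, d].Nodup →
    (∀ y : Fin 10, 6 ≤ y.val → ext4 ![a, b, c, d] (ps y) = ps (ext4 ![a, b, c, d] y)) →
    ∃ e f : Fin 2,
      (p67 ^ (e : ℕ) * p89 ^ (f : ℕ)) 6 = hi a ∧ (p67 ^ (e : ℕ) * p89 ^ (f : ℕ)) 7 = hi b ∧
      (p67 ^ (e : ℕ) * p89 ^ (f : ℕ)) 8 = hi c ∧ (p67 ^ (e : ℕ) * p89 ^ (f : ℕ)) 9 = hi d := by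
  decide +kernel

/-- The elements of `cent_table`. -/
abbrev cEl (i : Fin 3) (e e' f : Fin 2) : Perm (Fin 10) :=
  px ^ (i : ℕ) * p3 ^ (e : ℕ) * (p67 ^ (e' : ℕ) * p89 ^ (f : ℕ))

theorem cEl_table : ∀ (i : Fin 3) (e e' f : Fin 2),
    cEl i e e' f * px = px * cEl i e e' f ∧
    (∀ y : Fin 10, y.val < 6 → cEl i e e' f y =
      (px ^ (i : ℕ) * p3 ^ (e : ℕ)) y) ∧
    (∀ y : Fin 10, 6 ≤ y.val → cEl i e e' f y = (p67 ^ (e' : ℕ) * p89 ^ (f : ℕ)) y) ∧
    (Perm.sign (cEl i e e' f) = 1 →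
      cEl i e e' f = px ^ (i : ℕ) ∨ cEl i e e' f = px ^ (i : ℕ) * ps ∨
      cEl i e e' f = px ^ (i : ℕ) * p2 ∨ cEl i e e' f = px ^ (i : ℕ) * ps * p2) := by
  decide +kernel

/-- The even permutations commuting with `pa * pb` and `ps`. -/
theorem cent_class (h : q * px = px * q) (hs : q * ps = ps * q) (hsign : Perm.sign q = 1) :
    ∃ i : Fin 3, q = px ^ (i : ℕ) ∨ q = px ^ (i : ℕ) * ps ∨ q = px ^ (i : ℕ) * p2 ∨
      q = px ^ (i : ℕ) * ps * p2 := by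
  obtain ⟨q0, q1, a, b, c, d, l0, l1, hne, hnd, e0, e1, ea, eb, ec, ed, hlow, hhigh⟩ := exists_param h
  obtain ⟨i, e, hi0, hi1⟩ := cent_table _ _ l0 l1 hne (fun y hy => by
    rw [← hlow y hy, ← hlow _ ((ps_facts y).1 hy), comm_apply hs])
  obtain ⟨e', f, a6, a7, a8, a9⟩ := cent_table4 a b c d hnd (fun y hy => by
    rw [← hhigh y hy, ← hhigh _ ((ps_facts y).2 hy), comm_apply hs])
  obtain ⟨c1, hl, hh, hsg⟩ := cEl_table i e e' f
  have heq : q = cEl i e e' f := by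
    refine eq_of_six h c1 ?_ ?_ ?_ ?_ ?_ ?_
    · rw [hl 0 (by decide), ← hi0, e0]
    · rw [hl 1 (by decide), ← hi1, e1]
    · rw [hh 6 (by decide), a6, ea]
    · rw [hh 7 (by decide), a7, eb]
    · rw [hh 8 (by decide), a8, ec]
    · rw [hh 9 (by decide), a9, ed]
  exact ⟨i, heq ▸ hsg (heq ▸ hsign)⟩

theorem exp_table6 : ∀ q0 q1 : Fin 10, q0.val < 6 → q1.val < 6 →
    q1 ∉ ({q0, px q0, px (px q0)} : Finset (Fin 10)) →
    ∀ y : Fin 10, y.val < 6 → (ext6 q0 q1 6 7 8 9)^[12] y = y := by decide +kernel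

theorem exp_table4 : ∀ a b c d : Fin 4, [a, b, c, d].Nodup →
    ∀ y : Fin 10, 6 ≤ y.val → (ext4 ![a, b, c, d])^[12] y = y := by decide +kernel

/-- The centralizer of `pa * pb` has exponent twelve. -/
theorem pow_twelve (h : q * px = px * q) : q ^ 12 = 1 := by
  obtain ⟨q0, q1, a, b, c, d, l0, l1, hne, hnd, -, -, -, -, -, -, hlow, hhigh⟩ := exists_param h
  have agree : ∀ (f : Fin 10 → Fin 10) (P : Fin 10 → Prop), (∀ y, P y → q y = f y ∧ P (q y)) →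
      ∀ (k : ℕ) (y : Fin 10), P y → (⇑q)^[k] y = f^[k] y := by
    intro f P hP k
    induction k with
    | zero => exact fun _ _ => rfl
    | succ k ih =>
      intro y hy
      rw [Function.iterate_succ_apply, Function.iterate_succ_apply, ← (hP y hy).1]
      exact ih _ (hP y hy).2
  refine Equiv.ext fun y => ?_
  rw [Perm.coe_pow, Perm.one_apply]
  by_cases hy : y.val < 6
  · rw [agree _ _ (fun y hy => ⟨hlow y hy, low_stays h y hy⟩) 12 y hy]
    exact exp_table6 _ _ l0 l1 hne y hy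
  · rw [agree _ _ (fun y hy => ⟨hhigh y hy, high_stays h y hy⟩) 12 y (by omega : 6 ≤ y.val)]
    exact exp_table4 _ _ _ _ hnd y (by omega)

/-! ### Involutions commuting with elements of order three -/

/-- An involution commuting with a three-cycle fixes its three points. -/
theorem fixes_of_comm_c3 {x y z : Fin 10} (hxy : x ≠ y) (hxz : x ≠ z) (hyz : y ≠ z)
    (h : q * c3 x y z = c3 x y z * q) (h2 : q * q = 1) : q x = x ∧ q y = y ∧ q z = z := by
  have hy : q y = c3 x y z (q x) := by rw [← comm_apply h, c3_fst hxy hxz]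
  have hz : q z = c3 x y z (q y) := by rw [← comm_apply h, c3_snd hxz hyz]
  have hm : c3 x y z (q x) ≠ q x := moved_of_comm h (by rw [c3_fst hxy hxz]; exact hxy.symm)
  have hqq : q (q x) = x := by rw [← Perm.mul_apply, h2, Perm.one_apply]
  have hx : q x = x ∨ q x = y ∨ q x = z := by
    by_contra hne
    push Not at hne
    exact hm (c3_other hne.1 hne.2.1 hne.2.2)
  rcases hx with e | e | e
  · rw [e, c3_fst hxy hxz] at hy
    rw [hy, c3_snd hxz hyz] at hz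
    exact ⟨e, hy, hz⟩
  · exfalso
    rw [e, hy, e, c3_snd hxz hyz] at hqq
    exact hxz hqq.symm
  · exfalso
    rw [e, c3_thd] at hy
    rw [e, hz, hy, c3_fst hxy hxz] at hqq
    exact hxy hqq.symm

/-- The number of points moved. -/
def nMoved (f : Fin 10 → Fin 10) : ℕ := (Finset.univ.filter fun y => f y ≠ y).card

/-- The map determined by commuting with `pa^i * pb^j * pc^l` and the images of 0, 1, 6. -/
def ext3 (p : Perm (Fin 10)) (q0 q1 q6 q9 : Fin 10) : Fin 10 → Fin 10 := fun y =>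
  if y = 0 then q0 else if y = p 0 then p q0 else if y = p (p 0) then p (p q0)
  else if y = 1 then q1 else if y = p 1 then p q1 else if y = p (p 1) then p (p q1)
  else if y = 6 then q6 else if y = p 6 then p q6 else if y = p (p 6) then p (p q6) else q9

theorem three_table : ∀ i j l : Fin 2, ∀ q0 q1 q6 : Fin 10,
    (let p : Perm (Fin 10) := pa ^ (i.val + 1) * pb ^ (j.val + 1) * pc ^ (l.val + 1)
     q0 ≠ 9 → q1 ≠ 9 → q6 ≠ 9 →
     (∀ y, ext3 p q0 q1 q6 9 (ext3 p q0 q1 q6 9 y) = y) →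
      nMoved (ext3 p q0 q1 q6 9) = 0 ∨ nMoved (ext3 p q0 q1 q6 9) = 6) := by decide +kernel

theorem three_facts : ∀ i j l : Fin 2,
    (let p : Perm (Fin 10) := pa ^ (i.val + 1) * pb ^ (j.val + 1) * pc ^ (l.val + 1)
     p 9 = 9 ∧ p 0 ≠ 0 ∧ p 1 ≠ 1 ∧ p 6 ≠ 6 ∧ ∀ y, p y = y → y = 9) := by decide +kernel

theorem three_cover : ∀ i j l : Fin 2, ∀ y : Fin 10,
    (let p : Perm (Fin 10) := pa ^ (i.val + 1) * pb ^ (j.val + 1) * pc ^ (l.val + 1)
     ¬ y = 0 → ¬ y = p 0 → ¬ y = p (p 0) → ¬ y = 1 → ¬ y = p 1 → ¬ y = p (p 1) →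
      ¬ y = 6 → ¬ y = p 6 → ¬ y = p (p 6) → y = 9) := by decide +kernel

/-- An involution commuting with a product of the three cycles moves six points or none. -/
theorem comm_three (i j l : Fin 2)
    (h : q * (pa ^ (i.val + 1) * pb ^ (j.val + 1) * pc ^ (l.val + 1)) =
      pa ^ (i.val + 1) * pb ^ (j.val + 1) * pc ^ (l.val + 1) * q) (h2 : q * q = 1) :
    q = 1 ∨ q.support.card = 6 := by
  set p : Perm (Fin 10) := pa ^ (i.val + 1) * pb ^ (j.val + 1) * pc ^ (l.val + 1) with hp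
  obtain ⟨f9, f0, f1, f6, fix⟩ := three_facts i j l
  have h9 : q 9 = 9 := fix _ (fixed_of_comm h f9)
  have hne : ∀ y, p y ≠ y → q y ≠ 9 := fun y hy e => moved_of_comm h hy (by rw [e, f9])
  have heq : ∀ y, q y = ext3 p (q 0) (q 1) (q 6) 9 y := by
    intro y
    simp only [ext3]
    split_ifs with c1 c2 c3' c4 c5 c6 c7 c8 c9
    · rw [c1]
    · rw [c2, comm_apply h]
    · rw [c3', comm_apply h, comm_apply h]
    · rw [c4]
    · rw [c5, comm_apply h]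
    · rw [c6, comm_apply h, comm_apply h]
    · rw [c7]
    · rw [c8, comm_apply h]
    · rw [c9, comm_apply h, comm_apply h]
    · rw [(three_cover i j l y c1 c2 c3' c4 c5 c6 c7 c8 c9 : y = 9), h9]
  have hfun : (fun y => q y) = ext3 p (q 0) (q 1) (q 6) 9 := funext heq
  have t := three_table i j l (q 0) (q 1) (q 6) (hne 0 f0) (hne 1 f1) (hne 6 f6) (fun y => by
    rw [← hfun]
    show q (q y) = y
    rw [← Perm.mul_apply, h2, Perm.one_apply])
  have hsupp : q.support.card = nMoved (ext3 p (q 0) (q 1) (q 6) 9) := by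
    rw [nMoved, ← hfun]
    rfl
  rw [← hsupp] at t
  exact t.imp_left fun e => Perm.card_support_eq_zero.1 e

/-- An involution moving six points is odd. -/
theorem sign_six (h2 : q * q = 1) (h6 : q.support.card = 6) : Perm.sign q = -1 := by
  have hall : ∀ n ∈ q.cycleType, n = 2 := fun n hn =>
    (Nat.dvd_prime Nat.prime_two).1 ((Perm.dvd_of_mem_cycleType hn).trans
      (orderOf_dvd_of_pow_eq_one (by rw [pow_two, h2]))) |>.resolve_left
      (Perm.one_lt_of_mem_cycleType hn).ne'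
  have hrep : q.cycleType = Multiset.replicate q.cycleType.card 2 := Multiset.eq_replicate_card.2 hall
  have hsum := Perm.sum_cycleType q
  rw [hrep, Multiset.sum_replicate, smul_eq_mul, h6] at hsum
  rw [Perm.sign_of_cycleType, hrep, Multiset.sum_replicate, Multiset.card_replicate, smul_eq_mul,
    show q.cycleType.card = 3 by omega]
  rfl

/-! ### Exponent patterns -/

theorem pattern : ∀ i j l : Fin 3,
    (∀ m : Fin 3, pa ^ (i : ℕ) * pb ^ (j : ℕ) * pc ^ (l : ℕ) ≠ px ^ (m : ℕ)) →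
    (∃ i' j' l' : Fin 2, pa ^ (i : ℕ) * pb ^ (j : ℕ) * pc ^ (l : ℕ) =
      pa ^ (i'.val + 1) * pb ^ (j'.val + 1) * pc ^ (l'.val + 1)) ∨
    ∃ m : Fin 2,
      (∃ i' j' l' : Fin 2, pa ^ (i : ℕ) * pb ^ (j : ℕ) * pc ^ (l : ℕ) * px ^ (m.val + 1) =
        pa ^ (i'.val + 1) * pb ^ (j'.val + 1) * pc ^ (l'.val + 1)) ∨
      (∃ i' : Fin 2, pa ^ (i : ℕ) * pb ^ (j : ℕ) * pc ^ (l : ℕ) * px ^ (m.val + 1) = pa ^ (i'.val + 1) ∨
        pa ^ (i : ℕ) * pb ^ (j : ℕ) * pc ^ (l : ℕ) * px ^ (m.val + 1) = pb ^ (i'.val + 1) ∨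
        pa ^ (i : ℕ) * pb ^ (j : ℕ) * pc ^ (l : ℕ) * px ^ (m.val + 1) = pc ^ (i'.val + 1)) := by
  decide +kernel

/-! ### Three-cycles and their centralizers -/

theorem comm_pow_apply {σ p : Perm (Fin 10)} (h : σ * p = p * σ) (i : ℕ) (w : Fin 10) :
    σ ((p ^ i) w) = (p ^ i) (σ w) :=
  comm_apply (Commute.pow_right h i) w

/-- An involution commuting with a 3-cycle fixes the points it moves. -/
theorem invol_fix {σ p : Perm (Fin 10)} {x₀ : Fin 10} (hp0 : p x₀ ≠ x₀) (hp00 : p (p x₀) ≠ x₀)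
    (horb : ∀ w, p w ≠ w → w = x₀ ∨ w = p x₀ ∨ w = p (p x₀)) (hp3 : p (p (p x₀)) = x₀)
    (h2 : σ * σ = 1) (hc : σ * p = p * σ) : ∀ w, p w ≠ w → σ w = w := by
  have h0 : σ x₀ = x₀ := by
    have hm : p (σ x₀) ≠ σ x₀ := by
      rw [← comm_apply hc]; exact fun e => hp0 (σ.injective e)
    have hs : σ (σ x₀) = x₀ := DFunLike.congr_fun h2 x₀
    rcases horb _ hm with e | e | e
    · exact e
    · rw [e, comm_apply hc, e] at hs
      exact absurd hs hp00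
    · rw [e, comm_apply hc, comm_apply hc, e] at hs
      rw [hp3] at hs
      exact absurd hs hp0
  intro w hw
  rcases horb w hw with rfl | rfl | rfl
  · exact h0
  · rw [comm_apply hc, h0]
  · rw [comm_apply hc, comm_apply hc, h0]

/-- An odd-order normal subgroup of the centralizer of a 3-cycle consists of its powers. -/
theorem odd_normal {p : Perm (Fin 10)} {x₀ : Fin 10} (hp0 : p x₀ ≠ x₀)
    (horb : ∀ w, p w ≠ w → w = x₀ ∨ w = p x₀ ∨ w = p (p x₀))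
    (hfix : 5 ≤ Nat.card {w : Fin 10 // p w = w}) (K : Subgroup (Perm (Fin 10)))
    (hodd : Odd (Nat.card K)) (hK : ∀ σ ∈ K, Perm.sign σ = 1 ∧ σ * p = p * σ)
    (hn : ∀ τ, Perm.sign τ = 1 → τ * p = p * τ → ∀ σ ∈ K, τ * σ * τ⁻¹ ∈ K) :
    ∀ σ ∈ K, ∃ i : ℕ, σ = p ^ i := by
  haveI : IsSimpleGroup (alternatingGroup {w : Fin 10 // p w = w}) :=
    alternatingGroup.isSimpleGroup hfix
  haveI : Nontrivial {w : Fin 10 // p w = w} :=
    (Finite.one_lt_card_iff_nontrivial).1 (lt_of_lt_of_le (by norm_num) hfix)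
  let f : alternatingGroup {w : Fin 10 // p w = w} →* Perm (Fin 10) :=
    Perm.ofSubtype.comp (alternatingGroup {w : Fin 10 // p w = w}).subtype
  have hfs : ∀ τ, Perm.sign (f τ) = 1 := fun τ =>
    (Perm.sign_ofSubtype (τ : Perm {w : Fin 10 // p w = w})).trans (Perm.mem_alternatingGroup.1 τ.2)
  have hfm : ∀ τ w, p w ≠ w → f τ w = w := fun τ w hw =>
    Perm.ofSubtype_apply_of_not_mem (τ : Perm {w : Fin 10 // p w = w}) hw
  have hfc : ∀ τ, f τ * p = p * f τ := by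
    intro τ
    refine Equiv.ext fun w => ?_
    show f τ (p w) = p (f τ w)
    by_cases hw : p w = w
    · rw [hw]
      exact ((Perm.ofSubtype_apply_mem_iff_mem (τ : Perm {w : Fin 10 // p w = w}) w).2 hw).symm
    · rw [hfm τ w hw, hfm τ (p w) (fun e => hw (p.injective e))]
  have hN : (K.comap f).Normal := ⟨fun a ha b => by
    rw [Subgroup.mem_comap] at ha ⊢
    rw [map_mul, map_mul, map_inv]
    exact hn _ (hfs b) (hfc b) _ ha⟩
  have hinj : Function.Injective f := fun a b h =>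
    Subtype.ext (Perm.ofSubtype_injective h)
  have hbot : K.comap f = ⊥ := by
    refine (hN.eq_bot_or_eq_top).resolve_right fun htop => ?_
    have hd : Nat.card (alternatingGroup {w : Fin 10 // p w = w}) ∣ Nat.card K := by
      refine Subgroup.card_dvd_of_injective (f.codRestrict K fun a => ?_) (fun a b h => hinj
        (congrArg Subtype.val h))
      exact Subgroup.mem_comap.1 (htop ▸ Subgroup.mem_top a)
    have h2 := two_mul_nat_card_alternatingGroup (α := {w : Fin 10 // p w = w})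
    rw [Nat.card_perm] at h2
    have h4 : 4 ∣ 2 * Nat.card (alternatingGroup {w : Fin 10 // p w = w}) := by
      rw [h2]
      exact (Nat.dvd_factorial (by norm_num) (by omega))
    have h2' : 2 ∣ Nat.card (alternatingGroup {w : Fin 10 // p w = w}) :=
      Nat.dvd_of_mul_dvd_mul_left (by norm_num) (show 2 * 2 ∣ 2 * _ from h4)
    exact Nat.not_even_iff_odd.2 hodd (even_iff_two_dvd.2 (h2'.trans hd))
  intro σ hσ
  obtain ⟨hσs, hσc⟩ := hK σ hσ
  have hpres : ∀ w, p w = w ↔ p (σ w) = σ w := fun w => by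
    rw [← comm_apply hσc]; exact σ.injective.eq_iff.symm
  have hcomm : ∀ τ, f τ * σ = σ * f τ := by
    intro τ
    have hmem : σ * f τ * σ⁻¹ * (f τ)⁻¹ ∈ K := by
      rw [show σ * f τ * σ⁻¹ * (f τ)⁻¹ = σ * (f τ * σ⁻¹ * (f τ)⁻¹) by group]
      exact K.mul_mem hσ (hn _ (hfs τ) (hfc τ) _ (K.inv_mem hσ))
    set ρ := σ * f τ * σ⁻¹ * (f τ)⁻¹ with hρ
    have hρs : Perm.sign ρ = 1 := (hK ρ hmem).1
    have hρm : ∀ w, ρ w ≠ w → p w = w := by
      intro w hw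
      by_contra hcon
      refine hw ?_
      rw [hρ, Perm.mul_apply, Perm.mul_apply, Perm.mul_apply]
      have h1 : (f τ)⁻¹ w = w := by rw [Perm.inv_eq_iff_eq, hfm τ w hcon]
      rw [h1, hfm τ]
      · exact σ.apply_symm_apply w
      · intro e
        have h3 := (hpres (σ⁻¹ w)).1 e
        rw [show σ (σ⁻¹ w) = w from σ.apply_symm_apply w] at h3
        exact hcon h3
    have hρp : ∀ w, p (ρ w) = ρ w ↔ p w = w := fun w => by
      rw [← comm_apply (hK ρ hmem).2]; exact ρ.injective.eq_iff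
    let ρ' : alternatingGroup {w : Fin 10 // p w = w} := ⟨Perm.subtypePerm ρ hρp, by
      rw [Perm.mem_alternatingGroup, ← Perm.sign_ofSubtype, Perm.ofSubtype_subtypePerm hρp hρm]
      exact hρs⟩
    have h5 : f ρ' = ρ := Perm.ofSubtype_subtypePerm hρp hρm
    have h6 : ρ' ∈ K.comap f := by rw [Subgroup.mem_comap, h5]; exact hmem
    rw [hbot, Subgroup.mem_bot] at h6
    rw [h6, map_one] at h5
    exact (mul_inv_eq_iff_eq_mul.1 (mul_inv_eq_one.1 h5.symm)).symm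
  have hfix' : ∀ w, p w = w → σ w = w := by
    intro w hw
    by_contra hne
    have hcard : 5 ≤ Fintype.card {w : Fin 10 // p w = w} := by rwa [← Nat.card_eq_fintype_card]
    obtain ⟨y, -, hy⟩ : ∃ y ∈ (Finset.univ : Finset {w : Fin 10 // p w = w}),
        y ∉ ({⟨w, hw⟩, ⟨σ w, (hpres w).1 hw⟩} : Finset _) := by
      refine Finset.exists_mem_notMem_of_card_lt_card ?_
      rw [Finset.card_univ]
      exact lt_of_le_of_lt Finset.card_le_two (by omega)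
    obtain ⟨y', -, hy'⟩ : ∃ y' ∈ (Finset.univ : Finset {w : Fin 10 // p w = w}),
        y' ∉ ({⟨w, hw⟩, ⟨σ w, (hpres w).1 hw⟩, y} : Finset _) := by
      refine Finset.exists_mem_notMem_of_card_lt_card ?_
      rw [Finset.card_univ]
      exact lt_of_le_of_lt Finset.card_le_three (by omega)
    simp only [Finset.mem_insert, Finset.mem_singleton, not_or] at hy hy'
    have hne' : (⟨σ w, (hpres w).1 hw⟩ : {w : Fin 10 // p w = w}) ≠ ⟨w, hw⟩ :=
      fun e => hne (congrArg Subtype.val e)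
    let τ : alternatingGroup {w : Fin 10 // p w = w} :=
      ⟨swap ⟨σ w, (hpres w).1 hw⟩ y * swap ⟨σ w, (hpres w).1 hw⟩ y', by
        rw [Perm.mem_alternatingGroup, map_mul, Perm.sign_swap (Ne.symm hy.2),
          Perm.sign_swap (Ne.symm hy'.2.1)]
        rfl⟩
    have h1 : f τ w = w := by
      refine (Perm.ofSubtype_apply_of_mem (τ : Perm {w : Fin 10 // p w = w}) hw).trans ?_
      show (((swap (⟨σ w, _⟩ : {w : Fin 10 // p w = w}) y * swap ⟨σ w, _⟩ y') ⟨w, hw⟩ :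
        {w : Fin 10 // p w = w}) : Fin 10) = w
      rw [Perm.mul_apply, swap_apply_of_ne_of_ne hne'.symm (Ne.symm hy'.1),
        swap_apply_of_ne_of_ne hne'.symm (Ne.symm hy.1)]
    have h2 : f τ (σ w) = σ w := by
      have := DFunLike.congr_fun (hcomm τ) w
      rw [Perm.mul_apply, Perm.mul_apply, h1] at this
      exact this
    have h3 := (Perm.ofSubtype_apply_of_mem (τ : Perm {w : Fin 10 // p w = w})
      ((hpres w).1 hw)).symm.trans h2
    have h4 := Subtype.ext (a1 := (τ : Perm {w : Fin 10 // p w = w}) ⟨σ w, (hpres w).1 hw⟩)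
      (a2 := ⟨σ w, (hpres w).1 hw⟩) h3
    change (swap (⟨σ w, _⟩ : {w : Fin 10 // p w = w}) y * swap ⟨σ w, _⟩ y') _ = _ at h4
    rw [Perm.mul_apply, swap_apply_left, swap_apply_of_ne_of_ne hy'.2.1 hy'.2.2] at h4
    exact hy'.2.1 h4
  obtain ⟨i, hi⟩ : ∃ i : ℕ, σ x₀ = (p ^ i) x₀ := by
    rcases horb _ (fun e => hp0 ((hpres x₀).2 e)) with e | e | e
    exacts [⟨0, e⟩, ⟨1, e⟩, ⟨2, e⟩]
  refine ⟨i, Equiv.ext fun w => ?_⟩
  by_cases hw : p w = w
  · rw [hfix' w hw, Perm.pow_apply_eq_self_of_apply_eq_self hw]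
  · have key : ∀ k : ℕ, σ ((p ^ k) x₀) = (p ^ i) ((p ^ k) x₀) := fun k => by
      rw [comm_pow_apply hσc, hi, ← Perm.mul_apply, ← Perm.mul_apply, ← pow_add, ← pow_add,
        Nat.add_comm]
    rcases horb w hw with e | e | e <;> rw [e]
    exacts [key 0, key 1, key 2]

end CfsgLib.Recog.DoubleAlt.Ten
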