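import Cfsg.Agent.Lib.Recog.DoubleAlt.Fusion
import Cfsg.Agent.Lib.Recog.DoubleAlt.TenData
import Cfsg.Agent.Lib.Recog.DoubleAlt.TenPerm

/-!
The local data of the odd-local argument, obtained from a set-up of degree ten.
-/

set_option autoImplicit false
set_option linter.unusedSectionVars false
set_option linter.style.haveILetI false

namespace CfsgLib.Recog.DoubleAlt.Ten

open Equiv Subgroup

variable {G : Type*} [Group G] [Finite G] (S : Setup G 10)

theorem factorization_eq_three {n : ℕ} (h1 : 3 ^ 1 ∣ n) (h2 : ¬ 9 ∣ n) (hn : n ≠ 0) :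
    n.factorization 3 = 1 :=
  le_antisymm (not_lt.1 fun h => h2 ((Nat.prime_three.pow_dvd_iff_le_factorization hn).2 (show 2 ≤ _ from h)))
    ((Nat.prime_three.pow_dvd_iff_le_factorization hn).1 h1)

/-- A lift of order dividing three. -/
theorem lift_three {p : Perm (Fin 10)} (hs : Perm.sign p = 1) (h3 : p ^ 3 = 1) :
    ∃ x, S.π x = p ∧ x ^ 3 = 1 :=
  (S.exists_odd_lift hs (by decide) h3).exists

theorem eq_of_three {x y : centralizer ({S.z} : Set G)} (h : S.π x = S.π y) (hx : x ^ 3 = 1)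
    (hy : y ^ 3 = 1) : x = y := by
  have h3 : S.π y ^ 3 = 1 := by rw [← map_pow, hy, map_one]
  exact (S.exists_odd_lift (S.sign_π y) (by decide) h3).unique ⟨h, hx⟩ ⟨rfl, hy⟩

/-- Conjugation is compsted in the image for elements of order three. -/
theorem conj_three {g x y : centralizer ({S.z} : Set G)} (hx : x ^ 3 = 1) (hy : y ^ 3 = 1)
    (h : S.π g * S.π x = S.π y * S.π g) : g * x = y * g := by
  refine mul_inv_eq_iff_eq_mul.1 (eq_of_three S ?_ (by rw [conj_pow, hx, mul_one, mul_inv_cancel]) hy)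
  rw [map_mul, map_mul, map_inv, h, mul_inv_cancel_right]

/-- Odd-order elements do not meet the central involution. -/
theorem eq_one_of_odd {w : centralizer ({S.z} : Set G)} (h : S.π w = 1) (ho : Odd (orderOf w)) :
    w = 1 := by
  refine ((S.ker' w).1 h).resolve_right fun e => ?_
  have h2 : orderOf w ∣ 2 := orderOf_dvd_of_pow_eq_one (by rw [e, pow_two, S.zc_sq])
  rcases (Nat.dvd_prime Nat.prime_two).1 h2 with e1 | e1
  · exact S.zc_ne (e ▸ orderOf_eq_one_iff.1 e1)
  · rw [e1] at ho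
    exact absurd ho (by decide)

/-- The properties of the centralizer of a 3-cycle. -/
theorem core_aux {q : centralizer ({S.z} : Set G)} {p : Perm (Fin 10)} {x₀ : Fin 10}
    (hq : S.π q = p) (hq3 : q ^ 3 = 1) (hp0 : p x₀ ≠ x₀) (hp00 : p (p x₀) ≠ x₀)
    (horb : ∀ w, p w ≠ w → w = x₀ ∨ w = p x₀ ∨ w = p (p x₀)) (hp3 : p (p (p x₀)) = x₀)
    (hsupp : p.support.card = 3) (hfix : 5 ≤ Nat.card {w : Fin 10 // p w = w}) :
    (∀ i : G, i * i = 1 → i * S.z = S.z * i → i * (q : G) = q * i → i = 1 ∨ i = S.z) ∧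
    ∀ H : Subgroup G, Odd (Nat.card H) → (∀ h ∈ H, h * S.z = S.z * h ∧ h * (q : G) = q * h) →
      (∀ g, g * S.z = S.z * g → g * (q : G) = q * g → ∀ h ∈ H, g * h * g⁻¹ ∈ H) →
      H ≤ zpowers (q : G) := by
  constructor
  · intro i hi hiz hiq
    by_contra hcon
    obtain ⟨hi1, hi2⟩ := not_or.1 hcon
    set ic : centralizer ({S.z} : Set G) := ⟨i, mem_centralizer_singleton_iff.2 hiz⟩ with hic
    have h2 : ic * ic = 1 := Subtype.ext hi
    have h8 := S.invol_eight (x := ic) (by norm_num) h2 (fun e => hi1 (congrArg Subtype.val e))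
      (fun e => hi2 (congrArg Subtype.val e))
    have hc : S.π ic * p = p * S.π ic := by
      rw [← hq, ← map_mul, ← map_mul, show ic * q = q * ic from Subtype.ext hiq]
    have hpi : S.π ic * S.π ic = 1 := by rw [← map_mul, h2, map_one]
    have hd : _root_.Disjoint (S.π ic).support p.support := by
      rw [Finset.disjoint_left]
      intro w hw hw'
      exact Perm.mem_support.1 hw (invol_fix hp0 hp00 horb hp3 hpi hc w (Perm.mem_support.1 hw'))
    have h9 : (S.π ic).support.card + p.support.card ≤ 10 := by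
      rw [← Finset.card_union_of_disjoint hd]
      exact (Finset.card_le_univ _).trans_eq (Fintype.card_fin 10)
    omega
  · intro H hodd hH hn h hh
    let Hc : Subgroup (centralizer ({S.z} : Set G)) := H.subgroupOf _
    have hle : H ≤ centralizer ({S.z} : Set G) :=
      fun g hg => mem_centralizer_singleton_iff.2 (hH g hg).1
    have hHc : Nat.card Hc = Nat.card H := Nat.card_congr (subgroupOfEquivOfLe hle).toEquiv
    have hKodd : Odd (Nat.card (Hc.map S.π)) :=
      Odd.of_dvd_nat hodd (hHc ▸ Subgroup.card_map_dvd _ _)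
    have hK : ∀ σ ∈ Hc.map S.π, Perm.sign σ = 1 ∧ σ * p = p * σ := by
      rintro σ ⟨g, hg, rfl⟩
      refine ⟨S.sign_π g, ?_⟩
      rw [← hq, ← map_mul, ← map_mul, show g * q = q * g from Subtype.ext (hH _ hg).2]
    have hKn : ∀ τ, Perm.sign τ = 1 → τ * p = p * τ → ∀ σ ∈ Hc.map S.π,
        τ * σ * τ⁻¹ ∈ Hc.map S.π := by
      rintro τ hτ hτp σ ⟨g, hg, rfl⟩
      obtain ⟨t, rfl⟩ := S.exists_lift hτ
      have htq : t * q = q * t := conj_three S hq3 hq3 (by rw [hq]; exact hτp)
      refine ⟨t * g * t⁻¹, ?_, by rw [map_mul, map_mul, map_inv]⟩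
      exact hn _ (mem_centralizer_singleton_iff.1 t.2) (congrArg Subtype.val htq) _ hg
    set hc : centralizer ({S.z} : Set G) := ⟨h, hle hh⟩ with hhc
    have hhmem : hc ∈ Hc := hh
    obtain ⟨i, hi⟩ := odd_normal hp0 horb hfix _ hKodd hK hKn (S.π hc) ⟨hc, hhmem, rfl⟩
    have hcq : Commute hc q := Subtype.ext (hH h hh).2
    have ho : Odd (orderOf ((q ^ i)⁻¹ * hc)) := by
      have h1 : orderOf hc ∣ Nat.card H := hHc ▸ orderOf_dvd_natCard Hc hhmem
      have h2 : orderOf (q ^ i)⁻¹ ∣ 3 := orderOf_dvd_of_pow_eq_one (by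
        rw [inv_pow, ← pow_mul, Nat.mul_comm, pow_mul, hq3, one_pow, inv_one])
      exact Odd.of_dvd_nat ((Nat.odd_mul.2 ⟨by decide, hodd⟩))
        ((hcq.symm.pow_left i).inv_left.orderOf_mul_dvd_lcm.trans
          ((Nat.lcm_dvd_mul _ _).trans (Nat.mul_dvd_mul h2 h1)))
    have he := eq_one_of_odd S (by rw [map_mul, map_inv, map_pow, hq, hi, inv_mul_cancel]) ho
    refine mem_zpowers_iff.2 ⟨(i : ℤ), ?_⟩
    rw [zpow_natCast]
    have := congrArg Subtype.val (inv_mul_eq_one.1 he)
    simpa using this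

/-- A subgroup of order nine does not centralize the two involutions. -/
theorem not_nine_dvd {u : centralizer ({S.z} : Set G)} (hu : S.π u = ps) :
    ¬ 9 ∣ Nat.card (centralizer ({u} : Set (centralizer ({S.z} : Set G)))) := by
  intro h9
  haveI : Fact (Nat.Prime 3) := ⟨Nat.prime_three⟩
  obtain ⟨P, hP⟩ := Sylow.exists_subgroup_card_pow_prime
    (G := centralizer ({u} : Set (centralizer ({S.z} : Set G)))) 3 (n := 2) (by norm_num; exact h9)
  let f : P →* centralizer ({ps} : Set (Perm (Fin 10))) :=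
    (S.π.comp ((centralizer ({u} : Set (centralizer ({S.z} : Set G)))).subtype.comp P.subtype)).codRestrict _
      fun w => mem_centralizer_singleton_iff.2 (by
        show S.π w.1.1 * ps = ps * S.π w.1.1
        rw [← hu, ← map_mul, ← map_mul, mem_centralizer_singleton_iff.1 w.1.2])
  have hf : Function.Injective f := by
    rw [injective_iff_map_eq_one]
    intro w hw
    have h1 : S.π w.1.1 = 1 := congrArg Subtype.val hw
    have h2 : orderOf w.1.1 ∣ 3 ^ 2 := by
      rw [Subgroup.orderOf_coe, Subgroup.orderOf_coe, ← hP]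
      exact orderOf_dvd_natCard w
    have h3 := eq_one_of_odd S h1 (Odd.of_dvd_nat (by decide) h2)
    exact Subtype.ext (Subtype.ext h3)
  have hd := Subgroup.card_dvd_of_injective f hf
  rw [hP, Perm.nat_card_centralizer] at hd
  have hct : ps.cycleType = {2, 2, 2, 2} := by decide +kernel
  rw [hct] at hd
  revert hd
  decide +kernel

/-- An element rotating `z, u, u * z` and centralizing `x`. -/
theorem exists_rotation {u k x : centralizer ({S.z} : Set G)} (hu : S.π u = ps) (hu2 : u * u = 1)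
    (hu1 : u ≠ 1) (huz : u ≠ S.zc) (hku : k * u = u * S.zc * k) (hx3 : x ^ 3 = 1) (hx1 : x ≠ 1)
    (hxu : u * x = x * u) :
    ∃ r : G, r * (x : G) = x * r ∧ r * S.z = u * r ∧ r * (u : G) = (u : G) * S.z * r := by
  haveI : Fact (Nat.Prime 3) := ⟨Nat.prime_three⟩
  obtain ⟨g, hgz, hgu⟩ := S.exists_exchange (by norm_num) hu2 hu1 huz
  have hgz' : g * S.z = u * g := mul_inv_eq_iff_eq_mul.1 hgz
  have hgu' : g * (u : G) = S.z * g := mul_inv_eq_iff_eq_mul.1 hgu
  have huz' : (u : G) * S.z = S.z * u := mem_centralizer_singleton_iff.1 u.2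
  have hkz : (k : G) * S.z = S.z * k := mem_centralizer_singleton_iff.1 k.2
  have hku' : (k : G) * u = u * S.z * k := congrArg Subtype.val hku
  set r₀ := g * (k : G) with hr₀
  have hr0z : SemiconjBy r₀ S.z (u : G) := by
    show g * (k : G) * S.z = u * (g * k)
    rw [mul_assoc, hkz, ← mul_assoc, hgz', mul_assoc]
  have hr0u : SemiconjBy r₀ (u : G) ((u : G) * S.z) := by
    show g * (k : G) * u = u * S.z * (g * k)
    calc g * (k : G) * u = g * ((k : G) * u) := mul_assoc _ _ _
      _ = (g * u) * S.z * k := by rw [hku']; group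
      _ = S.z * (g * S.z) * k := by rw [hgu']; group
      _ = S.z * u * (g * k) := by rw [hgz']; group
      _ = _ := by rw [huz']
  set C := centralizer ({u} : Set (centralizer ({S.z} : Set G))) with hC
  have hxC : x ∈ C := mem_centralizer_singleton_iff.2 hxu.symm
  set y : G := r₀ * (x : G) * r₀⁻¹ with hy
  have hcy : ∀ v v' : G, SemiconjBy r₀ v v' → Commute (x : G) v → Commute y v' := by
    intro v v' h hc
    show r₀ * (x : G) * r₀⁻¹ * v' = v' * (r₀ * (x : G) * r₀⁻¹)
    have e : v' = r₀ * v * r₀⁻¹ := by rw [h.eq, mul_inv_cancel_right]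
    rw [e, show r₀ * (x : G) * r₀⁻¹ * (r₀ * v * r₀⁻¹) = r₀ * ((x : G) * v) * r₀⁻¹ by group, hc.eq]
    group
  have hcxz : Commute (x : G) S.z := mem_centralizer_singleton_iff.1 x.2
  have hcxu : Commute (x : G) u := congrArg Subtype.val hxu.symm
  have hyu : Commute y u := hcy _ _ hr0z hcxz
  have hyz : Commute y S.z := by
    have h1 := hyu.mul_right (hcy _ _ hr0u hcxu)
    rwa [← mul_assoc, show (u : G) * u = 1 from congrArg Subtype.val hu2, one_mul] at h1
  let yc : centralizer ({S.z} : Set G) := ⟨y, mem_centralizer_singleton_iff.2 hyz⟩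
  have hyC : yc ∈ C := mem_centralizer_singleton_iff.2 (Subtype.ext hyu)
  have hox : orderOf (⟨x, hxC⟩ : C) = 3 := by
    rw [← Subgroup.orderOf_coe]
    exact orderOf_eq_prime hx3 hx1
  have hoy : orderOf (⟨yc, hyC⟩ : C) = 3 := by
    rw [← Subgroup.orderOf_coe, ← Subgroup.orderOf_coe]
    show orderOf y = 3
    refine orderOf_eq_prime ?_ ?_
    · rw [hy, conj_pow, show (x : G) ^ 3 = 1 from congrArg Subtype.val hx3, mul_one, mul_inv_cancel]
    · intro e
      exact hx1 (Subtype.ext (conj_eq_one_iff.1 e))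
  have hfac : (Nat.card C).factorization 3 = 1 := by
    refine factorization_eq_three ?_ (not_nine_dvd S hu) Nat.card_pos.ne'
    rw [pow_one, ← hox]
    exact orderOf_dvd_natCard _
  let P : Sylow 3 C := Sylow.ofCard (zpowers ⟨x, hxC⟩)
    (by rw [Nat.card_zpowers, hox, hfac]; norm_num)
  let Q : Sylow 3 C := Sylow.ofCard (zpowers ⟨yc, hyC⟩)
    (by rw [Nat.card_zpowers, hoy, hfac]; norm_num)
  obtain ⟨h, hh⟩ := MulAction.exists_smul_eq C Q P
  have hmem : h * ⟨yc, hyC⟩ * h⁻¹ ∈ zpowers (⟨x, hxC⟩ : C) := by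
    have h1 : h * ⟨yc, hyC⟩ * h⁻¹ ∈ ((h • Q : Sylow 3 C) : Subgroup C) := by
      rw [Sylow.coe_subgroup_smul]
      exact ⟨⟨yc, hyC⟩, mem_zpowers _, by simp [MulAut.smul_def]⟩
    rw [hh] at h1
    exact h1
  obtain ⟨m, hm3, hm⟩ : ∃ m < 3, (⟨x, hxC⟩ : C) ^ m = h * ⟨yc, hyC⟩ * h⁻¹ := by
    obtain ⟨m, hm⟩ := (isOfFinOrder_of_finite _).mem_powers_iff_mem_zpowers.2 hmem
    exact ⟨m % 3, Nat.mod_lt _ (by norm_num), by rw [← hox, pow_mod_orderOf]; exact hm⟩
  set r₁ : G := (h.1.1 : G) * r₀ with hr₁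
  have hhz : Commute (h.1.1 : G) S.z := mem_centralizer_singleton_iff.1 h.1.2
  have hhu : Commute (h.1.1 : G) u :=
    congrArg Subtype.val (mem_centralizer_singleton_iff.1 h.2)
  have hr1z : SemiconjBy r₁ S.z (u : G) := SemiconjBy.mul_left hhu hr0z
  have hr1u : SemiconjBy r₁ (u : G) ((u : G) * S.z) := SemiconjBy.mul_left (hhu.mul_right hhz) hr0u
  have hr1x : SemiconjBy r₁ (x : G) ((x : G) ^ m) := by
    have e : ((x : G)) ^ m = (h.1.1 : G) * y * (h.1.1 : G)⁻¹ :=
      congrArg (fun w : C => ((w : centralizer ({S.z} : Set G)) : G)) hm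
    show r₁ * x = (x : G) ^ m * r₁
    rw [e, hr₁, hy]
    group
  have hr1w : SemiconjBy r₁ ((u : G) * S.z) S.z := by
    have := hr1u.mul_right hr1z
    rwa [mul_assoc, ← huz', ← mul_assoc, show (u : G) * u = 1 from congrArg Subtype.val hu2,
      one_mul] at this
  have hxm : ∀ n : ℕ, SemiconjBy (r₁ ^ n) (x : G) ((x : G) ^ (m ^ n)) := by
    intro n
    induction n with
    | zero => simp
    | succ n ih =>
      rw [pow_succ' r₁, pow_succ m n, Nat.mul_comm, pow_mul]
      exact SemiconjBy.mul_left (hr1x.pow_right _) ih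
  have hsq : r₁ ^ 4 = r₁ * (r₁ * (r₁ * r₁)) := by simp [pow_succ, mul_assoc]
  refine ⟨r₁ ^ 4, ?_, ?_, ?_⟩
  · have h4 := hxm 4
    have hm4 : ∀ m' < 3, m' ≠ 0 → m' ^ 4 % 3 = 1 := by decide +kernel
    have hm0 : m ≠ 0 := by
      intro e
      rw [e, pow_zero] at hm
      have h5 : (⟨yc, hyC⟩ : C) = 1 := conj_eq_one_iff.1 hm.symm
      rw [h5, orderOf_one] at hoy
      exact absurd hoy (by norm_num)
    rw [pow_eq_pow_mod (m ^ 4) (show (x : G) ^ 3 = 1 from congrArg Subtype.val hx3),
      hm4 m hm3 hm0, pow_one] at h4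
    exact h4
  · rw [hsq]
    exact SemiconjBy.mul_left hr1z (SemiconjBy.mul_left hr1w (SemiconjBy.mul_left hr1u hr1z))
  · rw [hsq]
    exact SemiconjBy.mul_left hr1u (SemiconjBy.mul_left hr1z (SemiconjBy.mul_left hr1w hr1u))

/-- A three-group in the centralizer of `x` has order at most 27. -/
theorem card_three_le {x : centralizer ({S.z} : Set G)} (hx : S.π x = px) (P : Subgroup G)
    (hP : IsPGroup 3 P) (hc : ∀ h ∈ P, h * S.z = S.z * h ∧ h * (x : G) = x * h) : Nat.card P ≤ 27 := by
  haveI : Fact (Nat.Prime 3) := ⟨Nat.prime_three⟩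
  let ι : P →* centralizer ({S.z} : Set G) :=
    P.subtype.codRestrict _ fun w => mem_centralizer_singleton_iff.2 (hc _ w.2).1
  let f : P →* centralizer ({px} : Set (Perm (Fin 10))) :=
    (S.π.comp ι).codRestrict _ fun w => mem_centralizer_singleton_iff.2 (by
      show S.π (ι w) * px = px * S.π (ι w)
      rw [← hx, ← map_mul, ← map_mul, show ι w * x = x * ι w from Subtype.ext (hc _ w.2).2])
  obtain ⟨n, hn⟩ := IsPGroup.iff_card.1 hP
  have hf : Function.Injective f := by
    rw [injective_iff_map_eq_one]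
    intro w hw
    have h1 : S.π (ι w) = 1 := congrArg Subtype.val hw
    have h2 : orderOf (ι w) ∣ 3 ^ n := by
      rw [orderOf_injective ι (fun a b e => Subtype.ext (congrArg Subtype.val e :)), ← hn]
      exact orderOf_dvd_natCard w
    have h3 := eq_one_of_odd S h1 (Odd.of_dvd_nat (Odd.pow (by decide)) h2)
    exact Subtype.ext (congrArg Subtype.val h3 :)
  have hd := Subgroup.card_dvd_of_injective f hf
  rw [hn, Perm.nat_card_centralizer] at hd
  have hct : (px : Perm (Fin 10)).cycleType = {3, 3} := by decide +kernel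
  rw [hct] at hd
  have h432 : 3 ^ n ∣ 3 ^ 3 * 16 := by
    refine hd.trans ?_
    decide +kernel
  have := Nat.le_of_dvd (by norm_num) ((Nat.Coprime.pow_left n (by norm_num : Nat.Coprime 3 16)).dvd_of_dvd_mul_right h432)
  omega

theorem semiconj_rot {r z u : G} (hzu : z * u = u * z) (hu : u * u = 1)
    (h1 : r * z = u * r) (h2 : r * u = u * z * r) : r * (u * z) = z * r := by
  calc r * (u * z) = r * u * z := (mul_assoc _ _ _).symm
    _ = u * z * (r * z) := by rw [h2, mul_assoc]
    _ = u * (u * z) * r := by rw [h1, mul_assoc u z, ← mul_assoc z u r, hzu]; group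
    _ = z * r := by rw [← mul_assoc u u z, hu, one_mul]

/-- The four elements fixed by a rotation and in the four group. -/
theorem rot_fixed {r z u v : G} (hz : z ≠ 1) (hu : u ≠ 1) (huz : u ≠ z)
    (h1 : r * z = u * r) (h2 : r * u = u * z * r) (h3 : r * (u * z) = z * r)
    (hv : v = 1 ∨ v = z ∨ v = u ∨ v = u * z) (hrv : r * v = v * r) : v = 1 := by
  rcases hv with e | e | e | e <;> subst e
  · rfl
  · exact absurd (mul_right_cancel (h1.symm.trans hrv)) huz
  · exact absurd (mul_right_cancel (h2.symm.trans hrv)) (fun e => hz (mul_eq_left.1 e))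
  · exact absurd (mul_right_cancel (h3.symm.trans hrv)) (fun e => hu (mul_eq_right.1 e.symm))

/-- Centralizing `z`, `u` and `x`. -/
theorem cent_four {x u m : centralizer ({S.z} : Set G)} (hx : S.π x = px) (hu : S.π u = ps)
    (hm : S.π m = p2) (hxu : Commute x u) (hmu : m * u = u * S.zc * m) {h : G}
    (hz : h * S.z = S.z * h) (hhu : h * (u : G) = u * h) (hhx : h * (x : G) = x * h) :
    ∃ i : ℕ, h = (x : G) ^ i ∨ h = (x : G) ^ i * S.z ∨ h = (x : G) ^ i * u ∨
      h = (x : G) ^ i * ((u : G) * S.z) := by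
  set w : centralizer ({S.z} : Set G) := ⟨h, mem_centralizer_singleton_iff.2 hz⟩ with hw
  have cu : Commute w u := Subtype.ext hhu
  have hq : S.π w * px = px * S.π w := by
    rw [← hx, ← map_mul, ← map_mul, show w * x = x * w from Subtype.ext hhx]
  have hq' : S.π w * ps = ps * S.π w := by rw [← hu, ← map_mul, ← map_mul, cu.eq]
  have bad : ∀ w' : centralizer ({S.z} : Set G), S.π w' = p2 → ¬ Commute w' u := by
    intro w' hw' hc
    have hmc : Commute m u := by
      rcases S.eq_or (hw'.trans hm.symm) with e | e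
      · exact e ▸ hc
      · have := hc.mul_left (show Commute S.zc u from (S.zc_comm u).symm)
        rwa [e, mul_assoc, S.zc_sq, mul_one] at this
    have h1 := hmu
    rw [hmc.eq] at h1
    exact S.zc_ne (mul_eq_left.1 (mul_right_cancel h1).symm)
  obtain ⟨i, e | e | e | e⟩ := cent_class hq hq' (S.sign_π w)
  · refine ⟨(i : ℕ), ?_⟩
    rcases S.eq_or (x := w) (y := x ^ (i : ℕ)) (by rw [map_pow, hx, e]) with h | h
    · exact Or.inl (by simpa [hw] using congrArg Subtype.val h)
    · exact Or.inr (Or.inl (by simpa [hw, Setup.zc] using congrArg Subtype.val h))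
  · refine ⟨(i : ℕ), ?_⟩
    rcases S.eq_or (x := w) (y := x ^ (i : ℕ) * u) (by rw [map_mul, map_pow, hx, hu, e]) with h | h
    · exact Or.inr (Or.inr (Or.inl (by simpa [hw] using congrArg Subtype.val h)))
    · exact Or.inr (Or.inr (Or.inr (by simpa [hw, Setup.zc, mul_assoc] using congrArg Subtype.val h)))
  · exact absurd ((hxu.pow_left (i : ℕ)).inv_left.mul_left cu)
      (bad _ (by rw [map_mul, map_inv, map_pow, hx, e, inv_mul_cancel_left]))
  · exact absurd (((hxu.pow_left (i : ℕ)).mul_left (Commute.refl u)).inv_left.mul_left cu)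
      (bad _ (by rw [map_mul, map_inv, map_mul, map_pow, hx, hu, e, inv_mul_cancel_left]))

/-- The rotation of order three and the element inverting `x` that commutes with it. -/
theorem exists_rk {z u x k₀ r₀ : G} (hz : z ≠ 1) (hu1 : u ≠ 1) (huz : u ≠ z) (hz2 : z * z = 1)
    (hu2 : u * u = 1) (hzu : z * u = u * z) (hxz : Commute x z) (hxu : Commute x u) (hx3 : x ^ 3 = 1)
    (hkz : Commute k₀ z) (hku : Commute k₀ u) (hkx : k₀ * x = x⁻¹ * k₀)
    (hrx : Commute r₀ x) (hrz : r₀ * z = u * r₀) (hru : r₀ * u = u * z * r₀)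
    (hcent : ∀ h : G, h * z = z * h → h * u = u * h → h * x = x * h →
      ∃ i : ℕ, h = x ^ i ∨ h = x ^ i * z ∨ h = x ^ i * u ∨ h = x ^ i * (u * z)) :
    ∃ r k : G, r ^ 3 = 1 ∧ r * x = x * r ∧ r * z = u * r ∧ r * u = u * z * r ∧ k * z = z * k ∧
      k * u = u * k ∧ k * x = x⁻¹ * k ∧ k * r = r * k := by
  have hrw : r₀ * (u * z) = z * r₀ := semiconj_rot hzu hu2 hrz hru
  have hcent' : ∀ h : G, h * z = z * h → h * u = u * h → h * x = x * h →
      ∃ (i : ℕ) (v : G), (v = 1 ∨ v = z ∨ v = u ∨ v = u * z) ∧ h = x ^ i * v := by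
    intro h a b c
    obtain ⟨i, e | e | e | e⟩ := hcent h a b c
    exacts [⟨i, 1, by simp, by rw [mul_one, e]⟩, ⟨i, z, by simp, e⟩, ⟨i, u, by simp, e⟩,
      ⟨i, u * z, by simp, e⟩]
  have hri : ∀ {v v' : G}, r₀ * v = v' * r₀ → SemiconjBy r₀⁻¹ v' v := fun {v v'} e =>
    SemiconjBy.inv_symm_left e
  have hkxi : SemiconjBy k₀⁻¹ x x⁻¹ := by
    have h := (show SemiconjBy k₀ x x⁻¹ from hkx).inv_right
    rw [inv_inv] at h
    exact h.inv_symm_left
  have hk' : SemiconjBy k₀ x⁻¹ x := by
    have h := (show SemiconjBy k₀ x x⁻¹ from hkx).inv_right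
    rwa [inv_inv] at h
  obtain ⟨i, v, hv, hy⟩ := hcent' (k₀ * r₀ * k₀⁻¹ * r₀⁻¹)
    (SemiconjBy.mul_left (SemiconjBy.mul_left (SemiconjBy.mul_left hkz
        (show SemiconjBy r₀ (u * z) z from hrw)) (hku.inv_left.mul_right hkz.inv_left)) (hri hrw)).eq
    (SemiconjBy.mul_left (SemiconjBy.mul_left (SemiconjBy.mul_left hku
        (show SemiconjBy r₀ z u from hrz)) hkz.inv_left) (hri hrz)).eq
    (SemiconjBy.mul_left (SemiconjBy.mul_left (SemiconjBy.mul_left hk' hrx.inv_right) hkxi)
      hrx.inv_left).eq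
  obtain ⟨w, hw, hwv⟩ : ∃ w : G, (w = 1 ∨ w = z ∨ w = u ∨ w = u * z) ∧ r₀ * w = w * v * r₀ := by
    rcases hv with e | e | e | e <;> rw [e]
    · exact ⟨1, by simp, by simp⟩
    · exact ⟨u, by simp, hru⟩
    · refine ⟨u * z, by simp, ?_⟩
      rw [hrw, mul_assoc u z u, hzu, ← mul_assoc u u z, hu2, one_mul]
    · refine ⟨z, by simp, ?_⟩
      rw [hrz, ← mul_assoc z u z, hzu, mul_assoc u z z, hz2, mul_one]
  have hwz : Commute w z := by
    rcases hw with e | e | e | e
    exacts [e ▸ Commute.one_left z, e ▸ Commute.refl z, e ▸ hzu.symm,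
      e ▸ (show Commute u z from hzu.symm).mul_left (Commute.refl z)]
  have hwu : Commute w u := by
    rcases hw with e | e | e | e
    exacts [e ▸ Commute.one_left u, e ▸ hzu, e ▸ Commute.refl u,
      e ▸ (Commute.refl u).mul_left (show Commute z u from hzu)]
  have hwx : Commute w x := by
    rcases hw with e | e | e | e <;> rw [e]
    exacts [Commute.one_left x, hxz.symm, hxu.symm, hxu.symm.mul_left hxz.symm]
  set k := w * k₀ with hk
  have kz : Commute k z := hwz.mul_left hkz
  have ku : Commute k u := hwu.mul_left hku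
  have kx : SemiconjBy k x x⁻¹ := SemiconjBy.mul_left hwx.inv_right hkx
  have kr : SemiconjBy k r₀ (x ^ i * r₀) := by
    show w * k₀ * r₀ = x ^ i * r₀ * (w * k₀)
    have h1 : k₀ * r₀ = x ^ i * v * r₀ * k₀ := by rw [← hy]; group
    calc w * k₀ * r₀ = w * x ^ i * v * r₀ * k₀ := by rw [mul_assoc w k₀, h1]; group
      _ = x ^ i * (w * v * r₀) * k₀ := by rw [(hwx.pow_right i).eq]; group
      _ = _ := by rw [← hwv]; group
  -- the cube
  have hrot : ∀ a b c : G, r₀ * a = b * r₀ → r₀ * b = c * r₀ → r₀ * c = a * r₀ →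
      r₀ ^ 3 * a = a * r₀ ^ 3 := by
    intro a b c h1 h2 h3
    rw [show r₀ ^ 3 = r₀ * (r₀ * r₀) by simp [pow_succ, mul_assoc]]
    exact SemiconjBy.mul_left h3 (SemiconjBy.mul_left h2 h1)
  obtain ⟨e, v', hv', hy'⟩ := hcent' (r₀ ^ 3) (hrot _ _ _ hrz hru hrw) (hrot _ _ _ hru hrw hrz)
    (hrx.pow_left 3).eq
  have hr3 : r₀ ^ 3 = x ^ e := by
    have hc : Commute r₀ v' := by
      have h1 : Commute r₀ (x ^ e * v') := hy' ▸ Commute.self_pow r₀ 3
      have := (hrx.pow_right e).inv_right.mul_right h1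
      rwa [inv_mul_cancel_left] at this
    rw [hy', rot_fixed hz hu1 huz hrz hru hrw hv' hc.eq, mul_one]
  have hxp : ∀ n : ℕ, (x ^ n) ^ 3 = 1 := fun n => by rw [← pow_mul, mul_comm, pow_mul, hx3, one_pow]
  have he : x ^ e = 1 := by
    have h1 : SemiconjBy k (r₀ ^ 3) ((x ^ i * r₀) ^ 3) := kr.pow_right 3
    rw [(hrx.symm.pow_left i).mul_pow, hxp, one_mul, hr3] at h1
    have h2 : x⁻¹ ^ e = x ^ e := mul_right_cancel ((kx.pow_right e).eq.symm.trans h1.eq)
    have h3 : x ^ e * x ^ e = 1 := by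
      nth_rewrite 1 [← h2]
      rw [inv_pow, inv_mul_cancel]
    have h4 := hxp e
    rwa [pow_succ, pow_two, h3, one_mul] at h4
  refine ⟨x ^ (2 * i) * r₀, k, ?_, ?_, ?_, ?_, kz.eq, ku.eq, kx.eq, ?_⟩
  · rw [(hrx.symm.pow_left _).mul_pow, hxp, one_mul, hr3, he]
  · exact (((Commute.refl x).pow_left _).mul_left hrx).eq
  · exact SemiconjBy.mul_left (hxu.pow_left _) hrz
  · exact SemiconjBy.mul_left ((hxu.mul_right hxz).pow_left _) hru
  · have h1 : SemiconjBy k (x ^ (2 * i) * r₀) (x⁻¹ ^ (2 * i) * (x ^ i * r₀)) :=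
      (kx.pow_right _).mul_right kr
    rw [← mul_assoc, inv_pow, show (x ^ (2 * i))⁻¹ * x ^ i = x ^ (2 * i) by
      rw [inv_mul_eq_iff_eq_mul, ← pow_add, show 2 * i + 2 * i = i + 3 * i by ring, pow_add x i,
        pow_mul, hx3, one_pow, mul_one]] at h1
    exact h1.eq

theorem ps_invol : ∀ y : Fin 10, ps (ps y) = y := by decide +kernel

/-- The pairs of `ps`. -/
def flips : Subgroup (Perm (Fin 10)) where
  carrier := {σ | ∀ y, σ y = y ∨ σ y = ps y}
  one_mem' := fun _ => Or.inl rfl
  mul_mem' := fun {σ τ} hσ hτ y => by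
    show σ (τ y) = y ∨ σ (τ y) = ps y
    rcases hτ y with e | e <;> rw [e]
    · exact hσ y
    · rcases hσ (ps y) with e' | e'
      · exact Or.inr e'
      · exact Or.inl (e'.trans (ps_invol y))
  inv_mem' := fun {σ} hσ y => by
    rw [Perm.inv_eq_iff_eq, Perm.inv_eq_iff_eq]
    rcases hσ y with e | e
    · exact Or.inl e.symm
    · right
      rcases hσ (ps y) with e' | e'
      · have := σ.injective (e.trans e'.symm)
        rw [← this, e, ← this]
      · rw [e']
        exact (ps_invol y).symm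

theorem flips_sq {σ : Perm (Fin 10)} (h : σ ∈ flips) : σ * σ = 1 := by
  refine Equiv.ext fun y => ?_
  show σ (σ y) = y
  rcases h y with e | e
  · rw [e, e]
  · rw [e]
    rcases h (ps y) with e' | e'
    · rw [e']
      exact (σ.injective (e.trans e'.symm)).symm
    · rw [e']
      exact ps_invol y

theorem flips_conj {σ f : Perm (Fin 10)} (hσ : σ ∈ flips) (hf : f * ps = ps * f) :
    f * σ * f⁻¹ ∈ flips := by
  intro y
  show f (σ (f⁻¹ y)) = y ∨ f (σ (f⁻¹ y)) = ps y
  rcases hσ (f⁻¹ y) with e | e <;> rw [e]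
  · exact Or.inl (f.apply_symm_apply y)
  · exact Or.inr (by rw [comm_apply hf]; exact congrArg ps (f.apply_symm_apply y))

/-- The root of `z` in a normal two-subgroup of the centralizer of the four group. -/
theorem exists_root {u : centralizer ({S.z} : Set G)} (hu : S.π u = ps) :
    ∃ Q : Subgroup G, IsPGroup 2 Q ∧ (∀ h ∈ Q, h * S.z = S.z * h ∧ h * (u : G) = u * h) ∧
      (∀ f, f * S.z = S.z * f → f * (u : G) = u * f → ∀ h ∈ Q, f * h * f⁻¹ ∈ Q) ∧
      ∃ q ∈ Q, q * q = S.z := by
  set Q₀ : Subgroup (centralizer ({S.z} : Set G)) :=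
    centralizer ({u} : Set (centralizer ({S.z} : Set G))) ⊓ flips.comap S.π with hQ₀
  refine ⟨Q₀.map (centralizer ({S.z} : Set G)).subtype, ?_, ?_, ?_, ?_⟩
  · rintro ⟨h, w, hw, rfl⟩
    refine ⟨2, Subtype.ext ?_⟩
    show ((w : G)) ^ 2 ^ 2 = 1
    have h1 : S.π (w * w) = 1 := by rw [map_mul]; exact flips_sq hw.2
    have h2 : w ^ 2 ^ 2 = 1 := by
      rw [show (2 ^ 2 : ℕ) = 2 * 2 by norm_num, pow_mul, pow_two, pow_two]
      rcases (S.ker' _).1 h1 with e | e <;> rw [e]
      exacts [one_mul 1, S.zc_sq]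
    exact congrArg Subtype.val h2
  · rintro h ⟨w, hw, rfl⟩
    exact ⟨mem_centralizer_singleton_iff.1 w.2,
      congrArg Subtype.val (mem_centralizer_singleton_iff.1 hw.1)⟩
  · rintro f hfz hfu h ⟨w, hw, rfl⟩
    set f' : centralizer ({S.z} : Set G) := ⟨f, mem_centralizer_singleton_iff.2 hfz⟩ with hf'
    have hf'u : f' * u = u * f' := Subtype.ext hfu
    have hfC : f' ∈ centralizer ({u} : Set (centralizer ({S.z} : Set G))) :=
      mem_centralizer_singleton_iff.2 hf'u
    refine ⟨f' * w * f'⁻¹, ⟨Subgroup.mul_mem _ (Subgroup.mul_mem _ hfC hw.1) (Subgroup.inv_mem _ hfC), ?_⟩, rfl⟩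
    show S.π (f' * w * f'⁻¹) ∈ flips
    rw [map_mul, map_mul, map_inv]
    exact flips_conj hw.2 (by rw [← hu, ← map_mul, ← map_mul, hf'u])
  · obtain ⟨q, hq⟩ := S.exists_lift (p := swap 0 1 * swap 2 3) (by decide +kernel)
    have hsq : q * q = S.zc := S.sq_two (by decide) hq
    have hcu : q * u = u * q := by
      have h := S.mul_eq_pow (x := q) (y := u) (i := 1) (j := 2) (k := 1)
        (by rw [hq]; decide +kernel) (by rw [hu]; decide +kernel) (by rw [hq, hu]; decide +kernel)
        (by rw [hq]; decide +kernel) (by rw [hu]; decide +kernel) (by rw [hq, hu]; decide +kernel)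
      rw [h, show S.zc ^ (1 + 1 + 2) = 1 by
        rw [show (1 + 1 + 2 : ℕ) = 2 * 2 by norm_num, pow_mul, pow_two S.zc, S.zc_sq, one_pow], mul_one]
    refine ⟨(q : G), ⟨q, ⟨mem_centralizer_singleton_iff.2 hcu, ?_⟩, rfl⟩, congrArg Subtype.val hsq⟩
    show S.π q ∈ flips
    rw [hq]
    show ∀ y : Fin 10, (swap 0 1 * swap 2 3 : Perm (Fin 10)) y = y ∨
      (swap 0 1 * swap 2 3 : Perm (Fin 10)) y = ps y
    decide +kernel

theorem pow_add_one_cases {G : Type*} [Group G] {q : G} (h : q ^ 3 = 1) (i : Fin 2) :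
    q ^ (i.val + 1) = q ∨ q ^ (i.val + 1) = q⁻¹ := by
  fin_cases i
  · exact Or.inl (pow_one q)
  · exact Or.inr (eq_inv_of_mul_eq_one_left (by rw [← pow_succ]; exact h))

theorem not_dvd_add_one (i : Fin 2) : ¬ 3 ∣ i.val + 1 := by omega

theorem pow_facts : (pa : Perm (Fin 10)) ^ 3 = 1 ∧ (pb : Perm (Fin 10)) ^ 3 = 1 ∧
    (pc : Perm (Fin 10)) ^ 3 = 1 ∧ (pc' : Perm (Fin 10)) ^ 3 = 1 := by decide +kernel

include S in
/-- The local data of the odd-local argument. -/
theorem exists_tenData : Nonempty (TenData G) := by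
  obtain ⟨sa, sb, sc, sc', su, s1, s2, sg⟩ := signs
  obtain ⟨a, hπa, ha3⟩ := lift_three S sa pow_facts.1
  obtain ⟨b, hπb, hb3⟩ := lift_three S sb pow_facts.2.1
  obtain ⟨c, hπc, hc3⟩ := lift_three S sc pow_facts.2.2.1
  obtain ⟨c', hπc', hc'3⟩ := lift_three S sc' pow_facts.2.2.2
  obtain ⟨u, hπu⟩ := S.exists_lift su
  obtain ⟨m, hπm⟩ := S.exists_lift s2
  obtain ⟨g, hπg⟩ := S.exists_lift sg
  obtain ⟨k₀, hπk⟩ := S.exists_lift (p := p1 * p2) (by rw [map_mul, s1, s2, mul_one])
  have pdis : Perm.Disjoint pa pb ∧ Perm.Disjoint pa pc ∧ Perm.Disjoint pb pc ∧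
      Perm.Disjoint pa pc' ∧ Perm.Disjoint pb pc' := by unfold Perm.Disjoint; decide +kernel
  have hab : a * b = b * a := (S.commute_disjoint (by rw [hπa, hπb]; exact pdis.1)).eq
  have hac : a * c = c * a := (S.commute_disjoint (by rw [hπa, hπc]; exact pdis.2.1)).eq
  have hbc : b * c = c * b := (S.commute_disjoint (by rw [hπb, hπc]; exact pdis.2.2.1)).eq
  have hac' : a * c' = c' * a := (S.commute_disjoint (by rw [hπa, hπc']; exact pdis.2.2.2.1)).eq
  have hbc' : b * c' = c' * b := (S.commute_disjoint (by rw [hπb, hπc']; exact pdis.2.2.2.2)).eq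
  have hu2 : u * u = 1 := by
    rw [S.sq_support (k := 2) (by rw [hπu]; decide +kernel) (by rw [hπu]; decide +kernel), pow_two,
      S.zc_sq]
  have hu1 : u ≠ 1 := fun e => by
    rw [e, map_one] at hπu; exact absurd hπu (by decide +kernel)
  have huz : u ≠ S.zc := fun e => by
    rw [e, S.π_zc] at hπu; exact absurd hπu (by decide +kernel)
  have inv3 : ∀ w : centralizer ({S.z} : Set G), w ^ 3 = 1 → w⁻¹ ^ 3 = 1 := fun w hw => by
    rw [inv_pow, hw, inv_one]
  have hua : u * a = b * u := conj_three S ha3 hb3 (by rw [hπu, hπa, hπb]; decide +kernel)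
  have hub : u * b = a * u := conj_three S hb3 ha3 (by rw [hπu, hπb, hπa]; decide +kernel)
  have huc : u * c = c⁻¹ * u :=
    conj_three S hc3 (inv3 c hc3) (by rw [map_inv, hπu, hπc]; decide +kernel)
  have huc' : u * c' = c'⁻¹ * u :=
    conj_three S hc'3 (inv3 c' hc'3) (by rw [map_inv, hπu, hπc']; decide +kernel)
  have hma : m * a = a * m := conj_three S ha3 ha3 (by rw [hπm, hπa]; decide +kernel)
  have hmb : m * b = b * m := conj_three S hb3 hb3 (by rw [hπm, hπb]; decide +kernel)
  have hmc : m * c = c'⁻¹ * m :=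
    conj_three S hc3 (inv3 c' hc'3) (by rw [map_inv, hπm, hπc, hπc']; decide +kernel)
  have hga : g * a = a * g := conj_three S ha3 ha3 (by rw [hπg, hπa]; decide +kernel)
  have hgb : g * b = c * g := conj_three S hb3 hc3 (by rw [hπg, hπb, hπc]; decide +kernel)
  have hgc : g * c = b⁻¹ * g :=
    conj_three S hc3 (inv3 b hb3) (by rw [map_inv, hπg, hπb, hπc]; decide +kernel)
  have hg4 : g ^ 4 = S.zc := by
    have h : S.π (g * g) = swap 3 5 * swap 7 8 := by rw [map_mul, hπg]; decide +kernel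
    rw [← S.sq_two (by decide) h]
    simp [pow_succ, mul_assoc]
  have hcc : c * c' * (c * c') = S.zc :=
    S.sq_two (a := 6) (b := 8) (c := 7) (d := 9) (by decide)
      (by rw [map_mul, hπc, hπc']; decide +kernel)
  have hmu : m * u = u * S.zc * m := by
    have h := S.mul_eq_pow (x := m) (y := u) (i := 1) (j := 2) (k := 2)
      (by rw [hπm]; decide +kernel) (by rw [hπu]; decide +kernel) (by rw [hπm, hπu]; decide +kernel)
      (by rw [hπm]; decide +kernel) (by rw [hπu]; decide +kernel) (by rw [hπm, hπu]; decide +kernel)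
    rw [h, show S.zc ^ (2 + 1 + 2) = S.zc by
      rw [show (2 + 1 + 2 : ℕ) = 2 * 2 + 1 by norm_num, pow_succ, pow_mul, pow_two S.zc, S.zc_sq,
        one_pow, one_mul], mul_assoc, mul_assoc, S.zc_comm m]
  have hku : k₀ * u = u * k₀ := by
    have h := S.mul_eq_pow (x := k₀) (y := u) (i := 2) (j := 2) (k := 2)
      (by rw [hπk]; decide +kernel) (by rw [hπu]; decide +kernel) (by rw [hπk, hπu]; decide +kernel)
      (by rw [hπk]; decide +kernel) (by rw [hπu]; decide +kernel) (by rw [hπk, hπu]; decide +kernel)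
    rw [h, show S.zc ^ (2 + 2 + 2) = 1 by
      rw [show (2 + 2 + 2 : ℕ) = 2 * 3 by norm_num, pow_mul, pow_two S.zc, S.zc_sq, one_pow], mul_one]
  have hab' : Commute a b := hab
  have hx3 : (a * b) ^ 3 = 1 := by rw [hab'.mul_pow, ha3, hb3, one_mul]
  have hπx : S.π (a * b) = px := by rw [map_mul, hπa, hπb]
  have hx1 : a * b ≠ 1 := fun e => by
    have h := congrArg S.π e
    rw [hπx, map_one] at h
    exact absurd h (by decide +kernel)
  have hxu : u * (a * b) = a * b * u := by
    rw [← mul_assoc, hua, mul_assoc, hub, ← mul_assoc, ← hab]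
  have hkx : k₀ * (a * b) = (a * b)⁻¹ * k₀ :=
    conj_three S hx3 (inv3 _ hx3) (by rw [map_inv, hπk, hπx]; decide +kernel)
  obtain ⟨r₀, hrx₀, hrz₀, hru₀⟩ := exists_rotation S hπu hu2 hu1 huz hmu hx3 hx1 hxu
  have hcent : ∀ h : G, h * S.z = S.z * h → h * (u : G) = u * h →
      h * ((a * b : centralizer ({S.z} : Set G)) : G) = (a * b : centralizer ({S.z} : Set G)) * h → _ :=
    fun h => cent_four S hπx hπu hπm hxu.symm hmu (h := h)
  obtain ⟨r, k, hr3, hrx, hrz, hru, hkz, hku', hkx', hkr⟩ :=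
    exists_rk (z := S.z) (u := (u : G)) (x := ((a * b : centralizer ({S.z} : Set G)) : G))
      (k₀ := (k₀ : G)) (r₀ := r₀) S.ne (fun e => hu1 (Subtype.ext e)) (fun e => huz (Subtype.ext e))
      S.z_sq (congrArg Subtype.val hu2) (mem_centralizer_singleton_iff.1 u.2).symm
      (mem_centralizer_singleton_iff.1 (a * b).2) (congrArg Subtype.val hxu.symm)
      (congrArg Subtype.val hx3) (mem_centralizer_singleton_iff.1 k₀.2) (congrArg Subtype.val hku)
      (congrArg Subtype.val hkx) hrx₀ hrz₀ hru₀ hcent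
  have toC : ∀ w : G, w * S.z = S.z * w → ∃ wc : centralizer ({S.z} : Set G), (wc : G) = w :=
    fun w hw => ⟨⟨w, mem_centralizer_singleton_iff.2 hw⟩, rfl⟩
  have hac'' : Commute (a * b) c := (show Commute a c from hac).mul_left hbc
  have hcube : ∀ i j l : ℕ, (a ^ i * b ^ j * c ^ l) ^ 3 = 1 := fun i j l => by
    have hp : ∀ (w : centralizer ({S.z} : Set G)), w ^ 3 = 1 → ∀ n : ℕ, (w ^ n) ^ 3 = 1 :=
      fun w hw n => by rw [← pow_mul, mul_comm, pow_mul, hw, one_pow]
    rw [(((show Commute a c from hac).pow_pow i l).mul_left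
      ((show Commute b c from hbc).pow_pow j l)).mul_pow, (hab'.pow_pow i j).mul_pow,
      hp _ ha3, hp _ hb3, hp _ hc3, one_mul, one_mul]
  have hπp : ∀ i j l : ℕ, S.π (a ^ i * b ^ j * c ^ l) = pa ^ i * pb ^ j * pc ^ l := fun i j l => by
    rw [map_mul, map_mul, map_pow, map_pow, map_pow, hπa, hπb, hπc]
  have hmod : ∀ i j l : ℕ, (pa : Perm (Fin 10)) ^ i * pb ^ j * pc ^ l =
      pa ^ (i % 3) * pb ^ (j % 3) * pc ^ (l % 3) := fun i j l => by
    rw [← pow_eq_pow_mod i pow_facts.1, ← pow_eq_pow_mod j pow_facts.2.1,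
      ← pow_eq_pow_mod l pow_facts.2.2.1]
  have hcore_a := core_aux S (x₀ := 0) hπa ha3 (by decide +kernel) (by decide +kernel) (by decide +kernel)
    (by decide +kernel) (by decide +kernel) (by rw [Nat.card_eq_fintype_card]; decide +kernel)
  have hcore_b := core_aux S (x₀ := 1) hπb hb3 (by decide +kernel) (by decide +kernel) (by decide +kernel)
    (by decide +kernel) (by decide +kernel) (by rw [Nat.card_eq_fintype_card]; decide +kernel)
  have hcore_c := core_aux S (x₀ := 6) hπc hc3 (by decide +kernel) (by decide +kernel) (by decide +kernel)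
    (by decide +kernel) (by decide +kernel) (by rw [Nat.card_eq_fintype_card]; decide +kernel)
  refine ⟨{ z := S.z, u := u, a := a, b := b, c := c, c' := c', m := m, g := g, r := r, k := k
            z_sq := S.z_sq, z_ne := S.ne
            u_sq := congrArg Subtype.val hu2
            u_ne := fun e => hu1 (Subtype.ext e)
            zu := (mem_centralizer_singleton_iff.1 u.2).symm
            u_ne_z := fun e => huz (Subtype.ext e)
            a3 := congrArg Subtype.val ha3, b3 := congrArg Subtype.val hb3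
            c3 := congrArg Subtype.val hc3, c'3 := congrArg Subtype.val hc'3
            za := (mem_centralizer_singleton_iff.1 a.2).symm
            zb := (mem_centralizer_singleton_iff.1 b.2).symm
            zc := (mem_centralizer_singleton_iff.1 c.2).symm
            zc' := (mem_centralizer_singleton_iff.1 c'.2).symm
            ab := congrArg Subtype.val hab, ac := congrArg Subtype.val hac
            bc := congrArg Subtype.val hbc, ac' := congrArg Subtype.val hac'
            bc' := congrArg Subtype.val hbc'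
            ua := ?ua, uc := ?uc, uc' := ?uc', indep := ?indep
            cc'_sq := congrArg Subtype.val hcc
            mz := mem_centralizer_singleton_iff.1 m.2
            mu := congrArg Subtype.val hmu
            ma := congrArg Subtype.val hma, mb := congrArg Subtype.val hmb
            mc := congrArg Subtype.val hmc
            gz := mem_centralizer_singleton_iff.1 g.2
            ga := congrArg Subtype.val hga, gb := congrArg Subtype.val hgb
            gc := congrArg Subtype.val hgc, g4 := congrArg Subtype.val hg4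
            r3 := hr3, rx := hrx, rz := hrz, ru := hru
            kz := hkz, ku := hku', kx := hkx', kr := hkr
            odd_three := ?odd, inverted := ?inv, conj_d := ?cd, cent_E := ?cE, cent_H := hcent
            three_part := fun P hP hc => card_three_le S hπx P hP hc
            core := ?core, single_invol := ?single, triple_two := ?triple, pattern := ?pattern
            root := exists_root S hπu }⟩
  case ua =>
    have h : u * a * u = b := by rw [hua, mul_assoc, hu2, mul_one]
    exact congrArg Subtype.val h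
  case uc =>
    have h : u * c * u = c⁻¹ := by rw [huc, mul_assoc, hu2, mul_one]
    exact congrArg Subtype.val h
  case uc' =>
    have h : u * c' * u = c'⁻¹ := by rw [huc', mul_assoc, hu2, mul_one]
    exact congrArg Subtype.val h
  case indep =>
    intro i j l h
    have h' : a ^ i * b ^ j * c ^ l = 1 := Subtype.ext (by simpa using h)
    have hp := congrArg S.π h'
    rw [hπp, hmod, map_one] at hp
    have key : ∀ i' : Fin 3, ∀ j' : Fin 3, ∀ l' : Fin 3,
        (pa : Perm (Fin 10)) ^ i'.val * pb ^ j'.val * pc ^ l'.val = 1 →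
        i'.val = 0 ∧ j'.val = 0 ∧ l'.val = 0 := by decide +kernel
    obtain ⟨e1, e2, e3⟩ := key ⟨i % 3, Nat.mod_lt _ (by norm_num)⟩ ⟨j % 3, Nat.mod_lt _ (by norm_num)⟩
      ⟨l % 3, Nat.mod_lt _ (by norm_num)⟩ hp
    exact ⟨Nat.dvd_of_mod_eq_zero e1, Nat.dvd_of_mod_eq_zero e2, Nat.dvd_of_mod_eq_zero e3⟩
  case odd =>
    intro w hwz hwx ho
    obtain ⟨wc, rfl⟩ := toC w hwz
    have hc : wc * (a * b) = a * b * wc := Subtype.ext hwx
    have hp := congrArg S.π hc
    simp only [map_mul, hπa, hπb] at hp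
    have h1 : orderOf (S.π wc) ∣ 12 := orderOf_dvd_of_pow_eq_one (pow_twelve hp)
    have h2 : orderOf (S.π wc) ∣ orderOf wc := orderOf_map_dvd _ _
    rw [Subgroup.orderOf_coe] at ho
    have h4 : Nat.Coprime (orderOf (S.π wc)) (2 ^ 2) :=
      (Nat.coprime_two_right.2 (Odd.of_dvd_nat ho h2)).pow_right 2
    have h3 : orderOf (S.π wc) ∣ 3 := h4.dvd_of_dvd_mul_left h1
    have h5 := eq_one_of_odd S (w := wc ^ 3) (by rw [map_pow]; exact orderOf_dvd_iff_pow_eq_one.1 h3)
      (Odd.of_dvd_nat ho (orderOf_pow_dvd 3))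
    exact congrArg Subtype.val h5
  case inv =>
    intro w hwz hwx hw3 hwu
    obtain ⟨wc, rfl⟩ := toC w hwz
    have hc : wc * (a * b) = a * b * wc := Subtype.ext hwx
    have hp := congrArg S.π hc
    simp only [map_mul, hπa, hπb] at hp
    have h3 : wc ^ 3 = 1 := Subtype.ext hw3
    have hu' : u * wc * u = wc⁻¹ := Subtype.ext hwu
    have h4 : wc * u * wc * u = 1 := by rw [mul_assoc, mul_assoc, ← mul_assoc u, hu', mul_inv_cancel]
    have hs := congrArg S.π h4
    simp only [map_mul, hπu, map_one] at hs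
    have h3' := congrArg S.π h3
    rw [map_pow, map_one, pow_succ, pow_two] at h3'
    obtain ⟨i, j, e⟩ := inverted_class hp h3' hs
    refine ⟨i, j, ?_⟩
    have cube : ∀ q : centralizer ({S.z} : Set G), q ^ 3 = 1 → Commute (a * b⁻¹) q →
        ((a * b⁻¹) ^ (i : ℕ) * q ^ (j : ℕ)) ^ 3 = 1 := fun q hq hc => by
      rw [(hc.pow_pow _ _).mul_pow, ← pow_mul, ← pow_mul, Nat.mul_comm (i : ℕ), Nat.mul_comm (j : ℕ),
        pow_mul, pow_mul, hq, hab'.inv_right.mul_pow, ha3, inv_pow, hb3, inv_one, one_mul, one_pow,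
        one_pow, one_mul]
    rcases e with e | e
    · left
      have := eq_of_three S (x := wc) (y := (a * b⁻¹) ^ (i : ℕ) * c ^ (j : ℕ))
        (by simp only [map_mul, map_pow, map_inv, hπa, hπb, hπc]; exact e) h3
        (cube c hc3 ((show Commute a c from hac).mul_left (show Commute b c from hbc).inv_left))
      simpa using congrArg Subtype.val this
    · right
      have := eq_of_three S (x := wc) (y := (a * b⁻¹) ^ (i : ℕ) * c' ^ (j : ℕ))
        (by simp only [map_mul, map_pow, map_inv, hπa, hπb, hπc']; exact e) h3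
        (cube c' hc'3 ((show Commute a c' from hac').mul_left (show Commute b c' from hbc').inv_left))
      simpa using congrArg Subtype.val this
  case cd =>
    intro w hwz hwx
    obtain ⟨wc, rfl⟩ := toC w hwz
    have hc : wc * (a * b) = a * b * wc := Subtype.ext hwx
    have hp := congrArg S.π hc
    simp only [map_mul, hπa, hπb] at hp
    have hx : (wc * a * wc⁻¹) * (wc * b * wc⁻¹) = a * b := by
      rw [show wc * a * wc⁻¹ * (wc * b * wc⁻¹) = wc * (a * b) * wc⁻¹ by group, hc, mul_inv_cancel_right]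
    have key : wc * (a * b⁻¹) * wc⁻¹ = (wc * a * wc⁻¹) * (wc * b * wc⁻¹)⁻¹ := by group
    rcases conj_pa hp with e | e
    · have hA : wc * a = a * wc := conj_three S ha3 ha3
        (by rw [hπa]; exact mul_inv_eq_iff_eq_mul.1 e)
      left
      rw [hA, mul_inv_cancel_right] at hx key
      have := key.trans (by rw [mul_left_cancel hx])
      simpa using congrArg Subtype.val this
    · have hA : wc * a = b * wc := conj_three S ha3 hb3
        (by rw [hπa, hπb]; exact mul_inv_eq_iff_eq_mul.1 e)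
      right
      rw [hA, mul_inv_cancel_right] at hx key
      rw [hab] at hx
      rw [mul_left_cancel hx, show b * a⁻¹ = (a * b⁻¹)⁻¹ by group] at key
      simpa using congrArg Subtype.val key
  case cE =>
    intro w hwz hwa hwb hwc
    obtain ⟨wc, rfl⟩ := toC w hwz
    have h1 := congrArg S.π (show wc * a = a * wc from Subtype.ext hwa)
    have h2 := congrArg S.π (show wc * b = b * wc from Subtype.ext hwb)
    have h3 := congrArg S.π (show wc * c = c * wc from Subtype.ext hwc)
    simp only [map_mul, hπa, hπb, hπc] at h1 h2 h3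
    obtain ⟨i, j, l, e⟩ := exists_of_comm_E h1 h2 h3
    refine ⟨i, j, l, ?_⟩
    rcases S.eq_or (e.trans (hπp i j l).symm) with h | h
    · exact Or.inl (by simpa using congrArg Subtype.val h)
    · exact Or.inr (by simpa [Setup.zc] using congrArg Subtype.val h)
  case core =>
    rintro p (rfl | rfl)
    · exact hcore_a
    · exact hcore_b
  case single =>
    rintro p ⟨q, hq, hp⟩ i hi hiz hip
    have hiq : i * q = q * i := by
      rcases hp with rfl | rfl
      · exact hip
      · simpa using (show Commute i q⁻¹ from hip).inv_right.eq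
    rcases hq with rfl | rfl | rfl
    exacts [hcore_a.1 i hi hiz hiq, hcore_b.1 i hi hiz hiq, hcore_c.1 i hi hiz hiq]
  case triple =>
    rintro p ⟨i, j, l, hi, hj, hl, rfl⟩ w hw hwz hwp
    obtain ⟨wc, rfl⟩ := toC w hwz
    have hc : wc * (a ^ i * b ^ j * c ^ l) = a ^ i * b ^ j * c ^ l * wc := Subtype.ext (by simpa using hwp)
    have hp := congrArg S.π hc
    rw [map_mul S.π wc, map_mul S.π _ wc, hπp, hmod] at hp
    have h2 : S.π wc * S.π wc = 1 := by
      rw [← map_mul]
      rcases hw with e | e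
      · rw [show wc * wc = 1 from Subtype.ext e, map_one]
      · rw [show wc * wc = S.zc from Subtype.ext e, S.π_zc]
    obtain ⟨i', hi'⟩ : ∃ i' : Fin 2, i % 3 = i'.val + 1 := ⟨⟨i % 3 - 1, by omega⟩, by simp; omega⟩
    obtain ⟨j', hj'⟩ : ∃ j' : Fin 2, j % 3 = j'.val + 1 := ⟨⟨j % 3 - 1, by omega⟩, by simp; omega⟩
    obtain ⟨l', hl'⟩ : ∃ l' : Fin 2, l % 3 = l'.val + 1 := ⟨⟨l % 3 - 1, by omega⟩, by simp; omega⟩
    rw [hi', hj', hl'] at hp
    have h1 : S.π wc = 1 := by
      refine (comm_three i' j' l' hp h2).resolve_right fun e => ?_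
      have := sign_six h2 e
      rw [S.sign_π] at this
      exact absurd this (by decide)
    exact ((S.ker wc).1 h1)
  case pattern =>
    intro i j l hn
    obtain ⟨i₀, j₀, l₀, hp⟩ : ∃ i₀ j₀ l₀ : Fin 3,
        S.π (a ^ i * b ^ j * c ^ l) = pa ^ i₀.val * pb ^ j₀.val * pc ^ l₀.val :=
      ⟨⟨i % 3, Nat.mod_lt _ (by norm_num)⟩, ⟨j % 3, Nat.mod_lt _ (by norm_num)⟩,
        ⟨l % 3, Nat.mod_lt _ (by norm_num)⟩, (hπp i j l).trans (hmod i j l)⟩
    have hxp : ∀ n : ℕ, ((a * b) ^ n) ^ 3 = 1 := fun n => by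
      rw [← pow_mul, mul_comm, pow_mul, hx3, one_pow]
    have hmul : ∀ n : ℕ, (a ^ i * b ^ j * c ^ l * (a * b) ^ n) ^ 3 = 1 := fun n => by
      have hA : Commute a (a * b) := (Commute.refl a).mul_right hab'
      have hB : Commute b (a * b) := hab'.symm.mul_right (Commute.refl b)
      rw [(((hA.pow_pow i n).mul_left (hB.pow_pow j n)).mul_left
        (hac''.symm.pow_pow l n)).mul_pow, hcube, hxp, one_mul]
    have htriple : ∀ (w : centralizer ({S.z} : Set G)) (i' j' l' : Fin 2), w ^ 3 = 1 →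
        S.π w = pa ^ (i'.val + 1) * pb ^ (j'.val + 1) * pc ^ (l'.val + 1) →
        TenTriple (a : G) b c (w : G) := fun w i' j' l' h3 e => by
      refine ⟨i'.val + 1, j'.val + 1, l'.val + 1, not_dvd_add_one _, not_dvd_add_one _,
        not_dvd_add_one _, ?_⟩
      have := eq_of_three S (e.trans (hπp _ _ _).symm) h3 (hcube _ _ _)
      simpa using congrArg Subtype.val this
    have hsingle : ∀ (w q : centralizer ({S.z} : Set G)) (p : Perm (Fin 10)) (i' : Fin 2), w ^ 3 = 1 →
        q ^ 3 = 1 → S.π q = p → S.π w = p ^ (i'.val + 1) →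
        (w : G) = q ∨ (w : G) = (q : G)⁻¹ := fun w q p i' h3 hq hpq e => by
      have := eq_of_three S (x := w) (y := q ^ (i'.val + 1)) (by rw [map_pow, hpq, e]) h3
        (by rw [← pow_mul, mul_comm, pow_mul, hq, one_pow])
      rw [this]
      rcases pow_add_one_cases hq i' with h | h <;> rw [h] <;> simp
    rcases Ten.pattern i₀ j₀ l₀ (fun n e => hn n (by
      have := eq_of_three S (x := a ^ i * b ^ j * c ^ l) (y := (a * b) ^ (n : ℕ))
        (by rw [hp, e, map_pow, hπx]) (hcube _ _ _) (hxp _)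
      simpa using congrArg Subtype.val this)) with ⟨i', j', l', e⟩ | ⟨n, h⟩
    · left
      simpa using htriple _ i' j' l' (hcube i j l) (hp.trans e)
    · right
      refine ⟨n.val + 1, not_dvd_add_one n, ?_⟩
      have hp' : S.π (a ^ i * b ^ j * c ^ l * (a * b) ^ (n.val + 1)) =
          pa ^ i₀.val * pb ^ j₀.val * pc ^ l₀.val * px ^ (n.val + 1) := by
        rw [map_mul _ _ ((a * b) ^ _), hp, map_pow, hπx]
      rcases h with ⟨i', j', l', e⟩ | ⟨i', e | e | e⟩
      · right
        simpa using htriple _ i' j' l' (hmul _) (hp'.trans e)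
      · left
        refine ⟨a, Or.inl rfl, ?_⟩
        simpa using hsingle _ a pa i' (hmul _) ha3 hπa (hp'.trans e)
      · left
        refine ⟨b, Or.inr (Or.inl rfl), ?_⟩
        simpa using hsingle _ b pb i' (hmul _) hb3 hπb (hp'.trans e)
      · left
        refine ⟨c, Or.inr (Or.inr rfl), ?_⟩
        simpa using hsingle _ c pc i' (hmul _) hc3 hπc (hp'.trans e)

end CfsgLib.Recog.DoubleAlt.Ten
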