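import Cfsg.Agent.Lib.Recog.DoubleAlt.TenCore

/-!
Degree ten: no non-trivial element of odd order centralizing `a` and `b` is inverted by `z`.
-/

set_option autoImplicit false
set_option linter.unusedSectionVars false
set_option linter.style.haveILetI false

namespace CfsgLib.Recog.DoubleAlt

open Subgroup

variable {G : Type*} [Group G]

/-- A subgroup covered by two subgroups lies in one of them. -/
theorem le_or_le_of_mem_or {K A B : Subgroup G} (h : ∀ g ∈ K, g ∈ A ∨ g ∈ B) : K ≤ A ∨ K ≤ B := by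
  by_contra hne
  push Not at hne
  obtain ⟨g, hg, hgA⟩ := SetLike.not_le_iff_exists.1 hne.1
  obtain ⟨g', hg', hgB⟩ := SetLike.not_le_iff_exists.1 hne.2
  have hgB' := (h g hg).resolve_left hgA
  have hgA' := (h g' hg').resolve_right hgB
  rcases h (g * g') (mul_mem hg hg') with e | e
  · exact hgA ((mul_mem_cancel_right hgA').1 e)
  · exact hgB ((mul_mem_cancel_left hgB').1 e)

/-- A subgroup inside the products of powers of two commuting elements of order three is cyclic or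
contains both. -/
theorem cyclic_or_both {D C : G} (hD : D ^ 3 = 1) (hC : C ^ 3 = 1) (hDC : D * C = C * D)
    (K : Subgroup G) (h : ∀ g ∈ K, ∃ i j : ℕ, g = D ^ i * C ^ j) :
    (D ∈ K ∧ C ∈ K) ∨ ∃ g ∈ K, K ≤ zpowers g := by
  have hc : Commute D C := hDC
  have hmod : ∀ {g : G}, g ^ 3 = 1 → ∀ n : ℕ, g ^ n = g ^ (n % 3) := fun {g} hg n => by
    conv_lhs => rw [← Nat.mod_add_div n 3, pow_add, pow_mul, hg, one_pow, mul_one]
  by_cases hflat : ∀ g ∈ K, g ∈ zpowers D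
  · by_cases hDK : D ∈ K
    · exact Or.inr ⟨D, hDK, hflat⟩
    · refine Or.inr ⟨1, one_mem K, fun g hg => ?_⟩
      obtain ⟨i, hi⟩ : ∃ i : ℕ, g = D ^ i := by
        have hd : D ∈ zpowers D := mem_zpowers D
        obtain ⟨k, hk⟩ := mem_zpowers_iff.1 (hflat g hg)
        refine ⟨(k % 3).toNat, ?_⟩
        rw [← hk, ← zpow_natCast, Int.toNat_of_nonneg (Int.emod_nonneg _ (by norm_num))]
        conv_lhs => rw [← Int.emod_add_mul_ediv k 3, zpow_add, zpow_mul,
          show D ^ (3 : ℤ) = 1 by rw [zpow_ofNat]; exact hD, one_zpow, mul_one]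
      rw [hmod hD] at hi
      obtain h' | h' | h' : i % 3 = 0 ∨ i % 3 = 1 ∨ i % 3 = 2 := by omega
      · rw [h', pow_zero] at hi
        rw [hi]
        exact one_mem _
      · rw [h', pow_one] at hi
        exact absurd (hi ▸ hg) hDK
      · refine absurd ?_ hDK
        have e : D = g * g := by
          rw [hi, h', ← pow_add, show 2 + 2 = 3 + 1 from rfl, pow_succ, hD, one_mul]
        rw [e]
        exact mul_mem hg hg
  · push Not at hflat
    obtain ⟨g, hg, hgD⟩ := hflat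
    obtain ⟨i, j, rfl⟩ := h g hg
    have hj : ¬ 3 ∣ j := by
      rintro ⟨t, rfl⟩
      rw [pow_mul, hC, one_pow, mul_one] at hgD
      exact hgD (pow_mem (mem_zpowers D) i)
    by_cases hDK : D ∈ K
    · refine Or.inl ⟨hDK, ?_⟩
      have hCj : C ^ j ∈ K := by
        have := mul_mem (inv_mem (pow_mem hDK i)) hg
        rwa [inv_mul_cancel_left] at this
      rw [hmod hC] at hCj
      obtain h' | h' : j % 3 = 1 ∨ j % 3 = 2 := by omega
      · rwa [h', pow_one] at hCj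
      · have e : C = C ^ 2 * C ^ 2 := by
          rw [← pow_add, show 2 + 2 = 3 + 1 from rfl, pow_succ, hC, one_mul]
        rw [h'] at hCj
        rw [e]
        exact mul_mem hCj hCj
    · refine Or.inr ⟨D ^ i * C ^ j, hg, fun g' hg' => ?_⟩
      obtain ⟨i', j', rfl⟩ := h g' hg'
      obtain ⟨k, hk⟩ : ∃ k : ℕ, (j' + k * j) % 3 = 0 := by
        obtain a | a : j % 3 = 1 ∨ j % 3 = 2 := by omega
        · exact ⟨2 * j', by simp [Nat.add_mod, Nat.mul_mod, a]; omega⟩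
        · exact ⟨j', by simp [Nat.add_mod, Nat.mul_mod, a]; omega⟩
      have e : D ^ i' * C ^ j' * (D ^ i * C ^ j) ^ k = D ^ (i' + i * k) * C ^ (j' + k * j) := by
        rw [(hc.pow_pow i j).mul_pow, ← pow_mul, ← pow_mul, pow_add, pow_add, mul_comm j k]
        simp only [mul_assoc]
        rw [← mul_assoc (C ^ j'), ((hc.pow_pow (i * k) j').symm).eq, mul_assoc]
      have hm := mul_mem hg' (pow_mem hg k)
      rw [e, hmod hC (j' + k * j), hk, pow_zero, mul_one] at hm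
      have hm0 : D ^ (i' + i * k) = 1 := by
        rw [hmod hD] at hm ⊢
        obtain a | a | a : (i' + i * k) % 3 = 0 ∨ (i' + i * k) % 3 = 1 ∨ (i' + i * k) % 3 = 2 := by
          omega
        · rw [a, pow_zero]
        · rw [a, pow_one] at hm
          exact absurd hm hDK
        · rw [a] at hm
          refine absurd ?_ hDK
          have e' : D = D ^ 2 * D ^ 2 := by
            rw [← pow_add, show 2 + 2 = 3 + 1 from rfl, pow_succ, hD, one_mul]
          rw [e']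
          exact mul_mem hm hm
      rw [hm0, hmod hC (j' + k * j), hk, pow_zero, mul_one, mul_eq_one_iff_eq_inv] at e
      rw [e]
      exact inv_mem (pow_mem (mem_zpowers _) k)

namespace TenData

variable [Finite G] (N : TenData G)

theorem conj_mul' (g p q : G) : g * p * g⁻¹ * (g * q * g⁻¹) = g * (p * q) * g⁻¹ := by group

theorem ub : N.u * N.b * N.u = N.a := by
  rw [← N.ua]
  calc N.u * (N.u * N.a * N.u) * N.u = N.u * N.u * N.a * (N.u * N.u) := by group
    _ = N.a := by rw [N.u_sq, one_mul, mul_one]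

theorem u_inv : N.u⁻¹ = N.u := inv_eq_of_mul_eq_one_right N.u_sq

theorem inverted_one : N.Inverted 1 :=
  ⟨by rw [orderOf_one]; exact odd_one, by simp, by simp, by simp [N.z_sq]⟩

theorem inverted_inv {w : G} (h : N.Inverted w) : N.Inverted w⁻¹ := by
  obtain ⟨h1, h2, h3, h4⟩ := h
  refine ⟨by rwa [orderOf_inv], (Commute.inv_left h2).eq, (Commute.inv_left h3).eq, ?_⟩
  have e : N.z * w⁻¹ * N.z = (N.z * w * N.z)⁻¹ := by
    rw [mul_inv_rev, mul_inv_rev, N.z_inv, mul_assoc]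
  rw [e, h4]

/-- Inverted elements commute with each other. -/
theorem inverted_comm {s t : G} (hs : N.Inverted s) (ht : N.Inverted t) : s * t = t * s := by
  obtain ⟨Oa, -, -, -, -, hma, hca⟩ := N.coreFacts (Or.inl rfl)
  obtain ⟨Ob, -, -, -, -, hmb, hcb⟩ := N.coreFacts (Or.inr rfl)
  have h1 := hca s (hma s hs.1 hs.2.1 hs.2.2.2) t (hma t ht.1 ht.2.1 ht.2.2.2)
  have h2 := hcb s (hmb s hs.1 hs.2.2.1 hs.2.2.2) t (hmb t ht.1 ht.2.2.1 ht.2.2.2)
  obtain ⟨i, hi⟩ := mem_zpowers_iff.1 h1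
  obtain ⟨j, hj⟩ := mem_zpowers_iff.1 h2
  have hnat : ∀ {g : G}, g ^ 3 = 1 → ∀ k : ℤ, g ^ k = g ^ (k % 3).toNat := fun {g} hg k => by
    rw [← zpow_natCast, Int.toNat_of_nonneg (Int.emod_nonneg _ (by norm_num))]
    conv_lhs => rw [← Int.emod_add_mul_ediv k 3, zpow_add, zpow_mul,
      show g ^ (3 : ℤ) = 1 by rw [zpow_ofNat]; exact hg, one_zpow, mul_one]
  rw [hnat N.a3] at hi
  rw [hnat N.b3] at hj
  have e : N.a ^ (i % 3).toNat * N.b ^ (2 * (j % 3).toNat) * N.c ^ 0 = 1 := by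
    rw [pow_zero, mul_one, hi, ← hj, ← pow_add,
      show (j % 3).toNat + 2 * (j % 3).toNat = 3 * (j % 3).toNat by omega, pow_mul, N.b3, one_pow]
  obtain ⟨a3, -, -⟩ := N.indep _ _ _ e
  obtain ⟨q, hq⟩ := a3
  rw [hq, pow_mul, N.a3, one_pow] at hi
  have h : s * t * s⁻¹ * t⁻¹ = 1 := hi.symm
  exact mul_inv_eq_iff_eq_mul.1 (mul_inv_eq_one.1 h)

theorem inverted_mul {s t : G} (hs : N.Inverted s) (ht : N.Inverted t) : N.Inverted (s * t) := by
  have hst : Commute s t := N.inverted_comm hs ht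
  refine ⟨Odd.of_dvd_nat (hs.1.mul ht.1) (hst.orderOf_mul_dvd_lcm.trans (Nat.lcm_dvd_mul _ _)),
    (Commute.mul_left hs.2.1 ht.2.1).eq, (Commute.mul_left hs.2.2.1 ht.2.2.1).eq, ?_⟩
  have e : N.z * (s * t) * N.z = (N.z * s * N.z) * (N.z * t * N.z) := by
    calc N.z * (s * t) * N.z = N.z * s * (N.z * N.z) * t * N.z := by rw [N.z_sq]; group
      _ = _ := by group
  rw [e, hs.2.2.2, ht.2.2.2, hst.eq, mul_inv_rev]

/-- The group of inverted elements. -/
def W : Subgroup G where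
  carrier := {w | N.Inverted w}
  one_mem' := N.inverted_one
  mul_mem' := N.inverted_mul
  inv_mem' := N.inverted_inv

theorem mem_W {w : G} : w ∈ N.W ↔ N.Inverted w := Iff.rfl

/-- A non-trivial inverted element does not commute with `z`. -/
theorem not_commute_z {w : G} (hw : w ∈ N.W) (h : w * N.z = N.z * w) : w = 1 := by
  have := hw.2.2.2
  rw [mul_assoc, h, ← mul_assoc, N.z_sq, one_mul] at this
  exact eq_one_of_odd_sq hw.1 (mul_eq_one_iff_eq_inv.2 this)

/-- Conjugation by an element fixing `z` and normalising `⟨a, b⟩`. -/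
theorem conj_mem_W {f w : G} (hz : f * N.z = N.z * f) (hw : w ∈ N.W)
    (hab : (f * N.a = N.a * f ∧ f * N.b = N.b * f) ∨ (f * N.a = N.b * f ∧ f * N.b = N.a * f)) :
    f * w * f⁻¹ ∈ N.W := by
  obtain ⟨h1, h2, h3, h4⟩ := hw
  refine ⟨odd_order_conj h1, ?_, ?_, conj_invert hz h4⟩
  · rcases hab with ⟨e1, -⟩ | ⟨-, e2⟩
    · exact conj_commute e1 h2
    · exact conj_commute e2 h3
  · rcases hab with ⟨-, e2⟩ | ⟨e1, -⟩
    · exact conj_commute e2 h3
    · exact conj_commute e1 h2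

theorem u_ab : N.u * N.a = N.b * N.u ∧ N.u * N.b = N.a * N.u := by
  constructor
  · rw [← N.ua, mul_assoc, N.u_sq, mul_one]
  · rw [← N.ub, mul_assoc, N.u_sq, mul_one]

theorem conj_u {w : G} (hw : w ∈ N.W) : N.u * w * N.u ∈ N.W := by
  have := N.conj_mem_W (f := N.u) N.zu.symm hw (Or.inr N.u_ab)
  rwa [N.u_inv] at this

theorem conj_m {w : G} (hw : w ∈ N.W) : N.m * w * N.m⁻¹ ∈ N.W :=
  N.conj_mem_W N.mz hw (Or.inl ⟨N.ma, N.mb⟩)

theorem conj_m' {w : G} (hw : w ∈ N.W) : N.m⁻¹ * w * N.m ∈ N.W := by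
  have := N.conj_mem_W (f := N.m⁻¹) (Commute.inv_left N.mz).eq hw
    (Or.inl ⟨(Commute.inv_left N.ma).eq, (Commute.inv_left N.mb).eq⟩)
  rwa [inv_inv] at this

theorem r_inv : N.r⁻¹ = N.r * N.r := inv_eq_of_mul_eq_one_right (by
  rw [← mul_assoc, ← pow_two, ← pow_succ, N.r3])

theorem r_inv_inv : N.r⁻¹ * N.r⁻¹ = N.r := by
  rw [N.r_inv, ← mul_assoc, mul_assoc N.r N.r N.r, ← pow_two, ← pow_succ', N.r3, one_mul]

theorem r_conj_u : N.r⁻¹ * N.u * N.r = N.z := by
  rw [mul_assoc, ← N.rz, inv_mul_cancel_left]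

theorem r_conj_z : N.r⁻¹ * N.z * N.r = N.u * N.z := by
  have e : N.r⁻¹ * N.r⁻¹ = N.r := by
    rw [N.r_inv, ← mul_assoc, mul_assoc N.r N.r N.r, ← pow_two, ← pow_succ', N.r3, one_mul]
  have h1 : N.r⁻¹ * (N.u * N.z) * N.r = N.u := by
    rw [mul_assoc, ← N.ru, inv_mul_cancel_left]
  calc N.r⁻¹ * N.z * N.r = N.r⁻¹ * (N.r⁻¹ * N.u * N.r) * N.r := by rw [N.r_conj_u]
    _ = N.r⁻¹ * (N.r⁻¹ * (N.r⁻¹ * (N.u * N.z) * N.r) * N.r) * N.r := by rw [h1]
    _ = (N.r⁻¹ * N.r⁻¹) * N.r⁻¹ * (N.u * N.z) * (N.r * N.r * N.r) := by group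
    _ = _ := by
      rw [e, mul_inv_cancel, one_mul]
      rw [show N.r * N.r * N.r = 1 by rw [← pow_two, ← pow_succ, N.r3], mul_one]

/-- The pull-back under `r` of the inverted elements centralizing `u`. -/
def W₀ : Subgroup G := (N.W ⊓ centralizer ({N.u} : Set G)).comap (MulAut.conj N.r).toMonoidHom

theorem mem_W₀ {h : G} :
    h ∈ N.W₀ ↔ N.r * h * N.r⁻¹ ∈ N.W ∧ N.r * h * N.r⁻¹ * N.u = N.u * (N.r * h * N.r⁻¹) :=
  ⟨fun hh => ⟨hh.1, mem_centralizer_singleton_iff.1 hh.2⟩,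
    fun hh => ⟨hh.1, mem_centralizer_singleton_iff.2 hh.2⟩⟩

theorem W₀_facts {h : G} (hh : h ∈ N.W₀) :
    h * N.z = N.z * h ∧ h * N.x = N.x * h ∧ h ^ 3 = 1 ∧ N.u * h * N.u = h⁻¹ := by
  obtain ⟨hw, hu⟩ := N.mem_W₀.1 hh
  set w := N.r * h * N.r⁻¹ with hwdef
  have eh : h = N.r⁻¹ * w * N.r⁻¹⁻¹ := by rw [hwdef]; group
  have hru : N.r⁻¹ * N.u = N.z * N.r⁻¹ := eq_mul_inv_of_mul_eq N.r_conj_u
  have hrz : N.r⁻¹ * N.z = N.u * N.z * N.r⁻¹ := eq_mul_inv_of_mul_eq N.r_conj_z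
  have hz : h * N.z = N.z * h := eh ▸ conj_commute hru hu
  have hrx : N.r⁻¹ * (N.a * N.b) = N.a * N.b * N.r⁻¹ := (Commute.inv_left N.rx).eq
  have hx : h * N.x = N.x * h :=
    eh ▸ conj_commute hrx (Commute.mul_right hw.2.1 hw.2.2.1).eq
  have hinv : N.u * N.z * h * (N.u * N.z) = h⁻¹ := eh ▸ conj_invert hrz hw.2.2.2
  have ho : Odd (orderOf h) := eh ▸ odd_order_conj hw.1
  refine ⟨hz, hx, N.odd_three h hz hx ho, ?_⟩
  calc N.u * h * N.u = N.u * (h * (N.z * N.z)) * N.u := by rw [N.z_sq, mul_one]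
    _ = N.u * ((h * N.z) * (N.z * N.u)) := by group
    _ = N.u * ((N.z * h) * (N.u * N.z)) := by rw [hz, N.zu]
    _ = N.u * N.z * h * (N.u * N.z) := by group
    _ = h⁻¹ := hinv

theorem d_comm : N.d * N.c = N.c * N.d ∧ N.d * N.c' = N.c' * N.d :=
  ⟨(Commute.mul_left N.ac (Commute.inv_left N.bc)).eq,
    (Commute.mul_left N.ac' (Commute.inv_left N.bc')).eq⟩

theorem d_cube : N.d ^ 3 = 1 := by
  rw [d, (Commute.inv_right (show Commute N.a N.b from N.ab)).mul_pow, inv_pow, N.a3, N.b3, inv_one,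
    one_mul]

theorem d_ne : N.d ≠ 1 := by
  intro h
  rw [d, mul_inv_eq_one] at h
  have := (N.indep 1 2 0 (by
    rw [pow_one, pow_zero, mul_one, h, ← pow_succ', N.b3])).1
  omega

/-- The inverted elements centralizing `u` are cyclic or as large as possible. -/
theorem W₀_cases : (N.d ∈ N.W₀ ∧ (N.c ∈ N.W₀ ∨ N.c' ∈ N.W₀)) ∨
    ∃ h ∈ N.W₀, N.W₀ ≤ zpowers h := by
  have hsub : ∀ C : G, C ^ 3 = 1 → N.d * C = C * N.d →
      ∀ g ∈ closure ({N.d, C} : Set G), ∃ i j : ℕ, g = N.d ^ i * C ^ j := by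
    intro C hC hdC g hg
    have hc : Commute N.d C := hdC
    induction hg using closure_induction with
    | mem g hg =>
      rcases hg with rfl | rfl
      · exact ⟨1, 0, by simp⟩
      · exact ⟨0, 1, by simp⟩
    | one => exact ⟨0, 0, by simp⟩
    | mul g h _ _ hg hh =>
      obtain ⟨i, j, rfl⟩ := hg
      obtain ⟨i', j', rfl⟩ := hh
      refine ⟨i + i', j + j', ?_⟩
      rw [pow_add, pow_add]
      simp only [mul_assoc]
      rw [← mul_assoc (C ^ j), ((hc.pow_pow i' j).symm).eq, mul_assoc]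
    | inv g _ hg =>
      obtain ⟨i, j, rfl⟩ := hg
      refine ⟨2 * i, 2 * j, inv_eq_of_mul_eq_one_right ?_⟩
      rw [mul_assoc, ← mul_assoc (C ^ j), ((hc.pow_pow (2 * i) j).symm).eq, mul_assoc, ← pow_add,
        ← mul_assoc, ← pow_add, show j + 2 * j = 3 * j by omega, show i + 2 * i = 3 * i by omega,
        pow_mul, pow_mul, N.d_cube, hC, one_pow, one_pow, one_mul]
  rcases le_or_le_of_mem_or (K := N.W₀) (A := closure ({N.d, N.c} : Set G))
    (B := closure ({N.d, N.c'} : Set G)) (fun h hh => by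
      obtain ⟨h1, h2, h3, h4⟩ := N.W₀_facts hh
      obtain ⟨i, j, rfl | rfl⟩ := N.inverted h h1 h2 h3 h4
      · exact Or.inl (mul_mem (pow_mem (subset_closure (by simp [d])) i)
          (pow_mem (subset_closure (by simp)) j))
      · exact Or.inr (mul_mem (pow_mem (subset_closure (by simp [d])) i)
          (pow_mem (subset_closure (by simp)) j))) with hle | hle
  · rcases cyclic_or_both N.d_cube N.c3 N.d_comm.1 N.W₀
      (fun g hg => hsub _ N.c3 N.d_comm.1 g (hle hg)) with h | h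
    · exact Or.inl ⟨h.1, Or.inl h.2⟩
    · exact Or.inr h
  · rcases cyclic_or_both N.d_cube N.c'3 N.d_comm.2 N.W₀
      (fun g hg => hsub _ N.c'3 N.d_comm.2 g (hle hg)) with h | h
    · exact Or.inl ⟨h.1, Or.inr h.2⟩
    · exact Or.inr h

/-- `d` and one of `c`, `c'` inside: `z` would centralize `r d r⁻¹` or its conjugate. -/
theorem not_full (hd : N.d ∈ N.W₀) (hc : N.c ∈ N.W₀ ∨ N.c' ∈ N.W₀) : False := by
  set d₁ := N.r * N.d * N.r⁻¹ with hd1
  set d₂ := N.r * d₁ * N.r⁻¹ with hd2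
  have hd1W : d₁ ∈ N.W := (N.mem_W₀.1 hd).1
  have hwd : ∀ w ∈ N.W, w * N.d = N.d * w := fun w hw =>
    (Commute.mul_right hw.2.1 (Commute.inv_right hw.2.2.1)).eq
  have hrot : N.r⁻¹ * d₂ * N.r = d₁ ∧ N.r⁻¹ * N.d * N.r = d₂ := by
    refine ⟨by rw [hd2]; group, ?_⟩
    calc N.r⁻¹ * N.d * N.r = (N.r * N.r) * N.d * (N.r⁻¹ * N.r⁻¹) := by rw [N.r_inv_inv, ← N.r_inv]
      _ = d₂ := by rw [hd2, hd1]; group
  -- `m` exchanges the two conjugates of `d`
  have hm : N.m * d₁ * N.m⁻¹ = d₂ ∨ N.m * d₁ * N.m⁻¹ = d₂⁻¹ := by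
    set f := N.r⁻¹ * N.r⁻¹ * N.m * N.r with hf
    have e : N.r⁻¹ * N.r⁻¹ = N.r := by
      rw [N.r_inv, ← mul_assoc, mul_assoc N.r N.r N.r, ← pow_two, ← pow_succ', N.r3, one_mul]
    have hfz : f * N.z = N.z * f := by
      rw [hf, e]
      calc N.r * N.m * N.r * N.z = N.r * N.m * (N.r * N.z) := by group
        _ = N.r * (N.m * N.u) * N.r := by rw [N.rz]; group
        _ = (N.r * N.u) * N.z * N.m * N.r := by rw [N.mu]; group
        _ = N.u * (N.z * N.r * N.z) * N.m * N.r := by rw [N.ru]; group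
        _ = N.z * (N.r * N.m * N.r) := by
          have e' : N.u * N.z * N.r * N.z = N.z * N.r := by
            calc N.u * N.z * N.r * N.z = N.r * (N.u * N.z) := by rw [← N.ru]; group
              _ = N.r * (N.r⁻¹ * N.z * N.r) := by rw [N.r_conj_z]
              _ = N.z * N.r := by group
          calc N.u * (N.z * N.r * N.z) * N.m * N.r = (N.u * N.z * N.r * N.z) * N.m * N.r := by group
            _ = _ := by rw [e']; group
    have hmx : N.m * N.x = N.x * N.m := (Commute.mul_right N.ma N.mb).eq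
    have hrx : Commute N.r N.x := N.rx
    have hfx : f * N.x = N.x * f :=
      (((hrx.inv_left.mul_left hrx.inv_left).mul_left hmx).mul_left hrx).eq
    have key : N.r * (N.r * (f * N.d * f⁻¹) * N.r⁻¹) * N.r⁻¹ = N.m * d₁ * N.m⁻¹ := by
      rw [hf, hd1]; group
    rcases N.conj_d f hfz hfx with h | h
    · left
      rw [← key, show f * N.d * f⁻¹ = N.d from h, hd2, hd1]
    · right
      rw [← key, show f * N.d * f⁻¹ = N.d⁻¹ from h, hd2, hd1, conj_inv, conj_inv]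
  have hd2W : d₂ ∈ N.W := by
    rcases hm with h | h
    · exact h ▸ N.conj_m hd1W
    · exact inv_inv d₂ ▸ inv_mem (h ▸ N.conj_m hd1W)
  have hne : d₁ ≠ 1 := fun h => N.d_ne (conj_eq_one_iff.1 h)
  have hne2 : d₂ ≠ 1 := fun h => hne (conj_eq_one_iff.1 h)
  have hm' : N.m⁻¹ * d₂ * N.m = d₁ ∨ N.m⁻¹ * d₂ * N.m = d₁⁻¹ := by
    rcases hm with h | h
    · left; rw [← h]; group
    · right; rw [← inv_inv d₂, ← h]; group
  have hcc : ∀ C ∈ N.W₀, C * d₁ = d₁ * C ∧ C * d₂ = d₂ * C := by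
    intro C hC
    have hw := (N.mem_W₀.1 hC).1
    have hCC : C = N.r⁻¹ * (N.r * C * N.r⁻¹) * N.r⁻¹⁻¹ := by group
    constructor
    · have e : N.r⁻¹ * d₂ = d₁ * N.r⁻¹ := by rw [← hrot.1]; group
      rw [hCC]
      exact conj_commute e (N.inverted_comm hw hd2W)
    · have e : N.r⁻¹ * N.d = d₂ * N.r⁻¹ := by rw [← hrot.2]; group
      rw [hCC]
      exact conj_commute e (hwd _ hw)
  have hboth : ∃ e ∈ N.W, e ≠ 1 ∧ N.c * e = e * N.c ∧ N.c' * e = e * N.c' := by
    rcases hc with hC | hC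
    · refine ⟨d₂, hd2W, hne2, (hcc _ hC).2, ?_⟩
      have h' : (N.m * N.c * N.m⁻¹) * (N.m * d₁ * N.m⁻¹) = (N.m * d₁ * N.m⁻¹) * (N.m * N.c * N.m⁻¹) := by
        rw [conj_mul', conj_mul', (hcc _ hC).1]
      rw [conj_eq_of N.mc] at h'
      have h'' : Commute N.c'⁻¹ d₂ := by
        rcases hm with h | h <;> rw [h] at h'
        · exact h'
        · exact Commute.inv_right_iff.1 h'
      exact (Commute.inv_left_iff.1 h'').eq
    · refine ⟨d₁, hd1W, hne, ?_, (hcc _ hC).1⟩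
      have hcm : N.m⁻¹ * N.c'⁻¹ = N.c * N.m⁻¹ := by
        apply inv_injective
        rw [mul_inv_rev, mul_inv_rev, inv_inv, inv_inv]
        calc N.c' * N.m = N.c' * (N.m * N.c) * N.c⁻¹ := by group
          _ = N.c' * (N.c'⁻¹ * N.m) * N.c⁻¹ := by rw [N.mc]
          _ = N.m * N.c⁻¹ := by group
      have h'' : Commute N.c'⁻¹ d₂ := Commute.inv_left (hcc _ hC).2
      rcases hm' with h | h
      · have h' := conj_commute (eq_mul_inv_of_mul_eq h : N.m⁻¹ * d₂ = d₁ * N.m⁻¹) h''.eq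
        rwa [conj_eq_of hcm] at h'
      · have h' := conj_commute (eq_mul_inv_of_mul_eq h : N.m⁻¹ * d₂ = d₁⁻¹ * N.m⁻¹) h''.eq
        rw [conj_eq_of hcm] at h'
        exact (Commute.inv_right_iff.1 (show Commute N.c d₁⁻¹ from h')).eq
  obtain ⟨e, he, hne', h1, h2⟩ := hboth
  refine hne' (N.not_commute_z he ?_)
  have h12 : Commute (N.c * N.c') e := (show Commute N.c e from h1).mul_left h2
  exact ((N.cc'_sq ▸ h12.mul_left h12 : Commute N.z e)).eq.symm

/-- The cyclic case: `g` would act on a group of order three with fourth power inverting it. -/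
theorem not_cyclic {h : G} (hh : h ∈ N.W₀) (hle : N.W₀ ≤ zpowers h) : ∀ w ∈ N.W, w = 1 := by
  classical
  set w₁ := N.r * h * N.r⁻¹ with hw1
  set w₂ := N.m * w₁ * N.m⁻¹ with hw2
  obtain ⟨hw1W, hw1u⟩ := N.mem_W₀.1 hh
  have h3 : w₁ ^ 3 = 1 := by rw [hw1, conj_pow, (N.W₀_facts hh).2.2.1, mul_one, mul_inv_cancel]
  have h3' : w₂ ^ 3 = 1 := by rw [hw2, conj_pow, h3, mul_one, mul_inv_cancel]
  have hw2W : w₂ ∈ N.W := N.conj_m hw1W
  -- elements fixed by `u`
  have hfix : ∀ w ∈ N.W, w * N.u = N.u * w → w ∈ zpowers w₁ := by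
    intro w hw hu
    have hm : N.r⁻¹ * w * N.r ∈ N.W₀ := N.mem_W₀.2 (by
      rw [show N.r * (N.r⁻¹ * w * N.r) * N.r⁻¹ = w by group]; exact ⟨hw, hu⟩)
    obtain ⟨k, hk⟩ := mem_zpowers_iff.1 (hle hm)
    refine mem_zpowers_iff.2 ⟨k, ?_⟩
    rw [hw1, conj_zpow, hk]
    group
  have hfix' : ∀ w ∈ N.W, w * (N.u * N.z) = N.u * N.z * w → w ∈ zpowers w₂ := by
    intro w hw hu
    have hmu : N.m⁻¹ * (N.u * N.z) = N.u * N.m⁻¹ := eq_mul_inv_of_mul_eq (by
      rw [mul_assoc, ← N.mu, inv_mul_cancel_left])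
    have h' : N.m⁻¹ * w * N.m ∈ zpowers w₁ := by
      refine hfix _ (N.conj_m' hw) ?_
      have := conj_commute hmu hu
      rwa [inv_inv] at this
    obtain ⟨k, hk⟩ := mem_zpowers_iff.1 h'
    refine mem_zpowers_iff.2 ⟨k, ?_⟩
    rw [hw2, conj_zpow, hk]
    group
  have hW : ∀ w ∈ N.W, ∃ i j : ℕ, w = w₁ ^ i * w₂ ^ j := by
    intro w hw
    set v := N.u * w * N.u with hv
    have hvW : v ∈ N.W := N.conj_u hw
    have huv : N.u * v * N.u = w := by
      rw [hv]
      calc N.u * (N.u * w * N.u) * N.u = N.u * N.u * w * (N.u * N.u) := by group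
        _ = w := by rw [N.u_sq, one_mul, mul_one]
    have hz' : ∀ y ∈ N.W, N.z * y * N.z = y⁻¹ := fun y hy => hy.2.2.2
    have hcm := N.inverted_comm hw hvW
    have hinvu : ∀ y, (N.u * y * N.u)⁻¹ = N.u * y⁻¹ * N.u := fun y => by
      rw [mul_inv_rev, mul_inv_rev, N.u_inv, mul_assoc]
    clear_value v
    have hp : w * v * N.u = N.u * (w * v) := by
      have e : N.u * (w * v) * N.u = w * v := by
        calc N.u * (w * v) * N.u = (N.u * w * N.u) * (N.u * v * N.u) := by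
              rw [show N.u * w * N.u * (N.u * v * N.u) = N.u * w * (N.u * N.u) * v * N.u by group,
                N.u_sq]; group
          _ = v * w := by rw [huv, ← hv]
          _ = _ := hcm.symm
      calc w * v * N.u = N.u * (w * v) * N.u * N.u := by rw [e]
        _ = _ := by rw [mul_assoc _ N.u N.u, N.u_sq, mul_one]
    have hq : w * v⁻¹ * (N.u * N.z) = N.u * N.z * (w * v⁻¹) := by
      have e1 : N.u * (w * v⁻¹) * N.u = (w * v⁻¹)⁻¹ := by
        calc N.u * (w * v⁻¹) * N.u = (N.u * w * N.u) * (N.u * v * N.u)⁻¹ := by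
              rw [hinvu v, show N.u * w * N.u * (N.u * v⁻¹ * N.u) =
                N.u * w * (N.u * N.u) * v⁻¹ * N.u by group, N.u_sq]; group
          _ = _ := by rw [huv, ← hv, mul_inv_rev, inv_inv]
      have e2 := hz' _ (mul_mem hw (inv_mem hvW))
      set y := w * v⁻¹
      calc y * (N.u * N.z) = (N.u * (N.u * y * N.u)) * N.z := by
            rw [← mul_assoc N.u, ← mul_assoc N.u, N.u_sq]; group
        _ = N.u * (N.z * y * N.z) * N.z := by rw [e1, e2]
        _ = _ := by rw [mul_assoc N.u, mul_assoc _ N.z N.z, N.z_sq]; group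
    obtain ⟨i, hi⟩ := mem_zpowers_iff.1 (hfix _ (mul_mem hw hvW) hp)
    obtain ⟨j, hj⟩ := mem_zpowers_iff.1 (hfix' _ (mul_mem hw (inv_mem hvW)) hq)
    have hnat : ∀ {g : G}, g ^ 3 = 1 → ∀ k : ℤ, g ^ k = g ^ (k % 3).toNat := fun {g} hg k => by
      rw [← zpow_natCast, Int.toNat_of_nonneg (Int.emod_nonneg _ (by norm_num))]
      conv_lhs => rw [← Int.emod_add_mul_ediv k 3, zpow_add, zpow_mul,
        show g ^ (3 : ℤ) = 1 by rw [zpow_ofNat]; exact hg, one_zpow, mul_one]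
    rw [hnat h3] at hi
    rw [hnat h3'] at hj
    set i' := (i % 3).toNat
    set j' := (j % 3).toNat
    have hsq : w * w = w₁ ^ i' * w₂ ^ j' := by
      rw [hi, hj]
      calc w * w = w * (v * v⁻¹) * w := by rw [mul_inv_cancel, mul_one]
        _ = w * v * (v⁻¹ * w) := by group
        _ = w * v * (w * v⁻¹) := by rw [((show Commute w v from hcm).inv_right).eq]
    have hc : Commute (w₁ ^ i') (w₂ ^ j') :=
      (show Commute w₁ w₂ from N.inverted_comm hw1W hw2W).pow_pow i' j'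
    have h6 : w ^ 6 = 1 := by
      rw [show (6 : ℕ) = 2 * 3 from rfl, pow_mul, pow_two, hsq, hc.mul_pow, ← pow_mul, ← pow_mul,
        mul_comm i', mul_comm j', pow_mul, pow_mul, h3, h3', one_pow, one_pow, one_mul]
    have hw3 : w ^ 3 = 1 := eq_one_of_odd_sq (Odd.of_dvd_nat hw.1 (orderOf_pow_dvd 3))
      (by rw [← pow_add]; exact h6)
    refine ⟨2 * i', 2 * j', ?_⟩
    calc w = w ^ 4 := by rw [pow_succ, hw3, one_mul]
      _ = (w * w) ^ 2 := by rw [← pow_two, ← pow_mul]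
      _ = _ := by rw [hsq, hc.mul_pow, ← pow_mul, ← pow_mul, mul_comm i', mul_comm j']
  -- the group is a 3-group of order at most nine
  haveI : Fact (Nat.Prime 3) := ⟨Nat.prime_three⟩
  have hW3 : ∀ w ∈ N.W, w ^ 3 = 1 := fun w hw => by
    obtain ⟨i, j, rfl⟩ := hW w hw
    rw [((show Commute w₁ w₂ from N.inverted_comm hw1W hw2W).pow_pow i j).mul_pow, ← pow_mul,
      ← pow_mul, mul_comm i, mul_comm j, pow_mul, pow_mul, h3, h3', one_pow, one_pow, one_mul]
  have hp : IsPGroup 3 N.W := fun w => ⟨1, Subtype.ext (by simpa using hW3 w w.2)⟩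
  have hcard : Nat.card N.W ≤ 9 := by
    have hmod : ∀ {g : G}, g ^ 3 = 1 → ∀ n : ℕ, g ^ n = g ^ (n % 3) := fun {g} hg n => by
      conv_lhs => rw [← Nat.mod_add_div n 3, pow_add, pow_mul, hg, one_pow, mul_one]
    let φ : Fin 3 × Fin 3 → N.W := fun p =>
      ⟨w₁ ^ (p.1 : ℕ) * w₂ ^ (p.2 : ℕ), mul_mem (pow_mem hw1W _) (pow_mem hw2W _)⟩
    have hs : Function.Surjective φ := by
      rintro ⟨w, hw⟩
      obtain ⟨i, j, rfl⟩ := hW w hw
      exact ⟨(⟨i % 3, Nat.mod_lt _ (by norm_num)⟩, ⟨j % 3, Nat.mod_lt _ (by norm_num)⟩),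
        Subtype.ext (by show w₁ ^ (i % 3) * w₂ ^ (j % 3) = _; rw [← hmod h3, ← hmod h3'])⟩
    calc Nat.card N.W ≤ Nat.card (Fin 3 × Fin 3) := Nat.card_le_card_of_surjective φ hs
      _ = 9 := by simp
  by_contra hne
  push Not at hne
  obtain ⟨w₀, hw₀, hw₀1⟩ := hne
  -- the fixed points of `c`
  let act : MulAction (zpowers N.c) N.W :=
    { smul := fun f w => ⟨(f : G) * w * (f : G)⁻¹, by
        obtain ⟨k, hk⟩ := mem_zpowers_iff.1 f.2
        have e : ∀ y, Commute N.c y → (f : G) * y = y * f := fun y hy => by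
          rw [← hk]; exact (hy.zpow_left k).eq
        exact N.conj_mem_W (e _ N.zc.symm) w.2
          (Or.inl ⟨e _ N.ac.symm, e _ N.bc.symm⟩)⟩
      one_smul := fun w => Subtype.ext (by
        show ((1 : zpowers N.c) : G) * w * ((1 : zpowers N.c) : G)⁻¹ = w
        simp)
      mul_smul := fun f f' w => Subtype.ext (by
        show ((f * f' : zpowers N.c) : G) * w * ((f * f' : zpowers N.c) : G)⁻¹ =
          (f : G) * ((f' : G) * w * (f' : G)⁻¹) * (f : G)⁻¹
        simp [mul_assoc]) }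
  let F : Subgroup G := N.W ⊓ centralizer ({N.c} : Set G)
  have hFmem : ∀ w, w ∈ F ↔ w ∈ N.W ∧ w * N.c = N.c * w := fun w =>
    ⟨fun hw => ⟨hw.1, mem_centralizer_singleton_iff.1 hw.2⟩,
      fun hw => ⟨hw.1, mem_centralizer_singleton_iff.2 hw.2⟩⟩
  have hC3 : IsPGroup 3 (zpowers N.c) := IsPGroup.of_card_dvd_pow (n := 1) (by
    rw [Nat.card_zpowers, pow_one]; exact orderOf_dvd_of_pow_eq_one N.c3)
  have hF1 : F ≠ ⊥ := by
    intro hF
    have h1 := hC3.card_modEq_card_fixedPoints N.W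
    have h2 : 3 ∣ Nat.card N.W := by
      have hnt : Nontrivial N.W := ⟨⟨w₀, hw₀⟩, 1, fun e => hw₀1 (congrArg Subtype.val e)⟩
      obtain ⟨n, hn, e⟩ := (hp.nontrivial_iff_card).1 hnt
      exact e ▸ dvd_pow_self 3 (by omega)
    have hsub : Subsingleton (MulAction.fixedPoints (zpowers N.c) N.W) := by
      refine ⟨fun p q => ?_⟩
      have one : ∀ p : MulAction.fixedPoints (zpowers N.c) N.W, (p.1 : G) = 1 := by
        intro p
        have e : N.c * (p.1 : G) * N.c⁻¹ = p.1 :=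
          congrArg Subtype.val (p.2 ⟨N.c, mem_zpowers N.c⟩)
        have hm : (p.1 : G) ∈ F := (hFmem _).2 ⟨p.1.2, (mul_inv_eq_iff_eq_mul.1 e).symm⟩
        rwa [hF, mem_bot] at hm
      exact Subtype.ext (Subtype.ext ((one p).trans (one q).symm))
    haveI : Nonempty (MulAction.fixedPoints (zpowers N.c) N.W) :=
      ⟨⟨1, fun f => Subtype.ext (by
        show (f : G) * (1 : G) * (f : G)⁻¹ = 1
        simp)⟩⟩
    rw [Nat.card_of_subsingleton (Classical.arbitrary (MulAction.fixedPoints (zpowers N.c) N.W))] at h1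
    have := h1.symm.trans (Nat.modEq_zero_iff_dvd.2 h2)
    exact absurd this (by decide)
  have hFW : F ≠ N.W := by
    intro hF
    have hcW : ∀ w ∈ N.W, w * N.c = N.c * w := fun w hw => ((hFmem w).1 (hF ▸ hw)).2
    have hc'W : ∀ w ∈ N.W, w * N.c' = N.c' * w := by
      intro w hw
      have h' := conj_commute N.mc (hcW _ (N.conj_m' hw))
      rw [show N.m * (N.m⁻¹ * w * N.m) * N.m⁻¹ = w by group] at h'
      exact (Commute.inv_right_iff.1 (show Commute w N.c'⁻¹ from h')).eq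
    refine hw₀1 (N.not_commute_z hw₀ ?_)
    have h12 : Commute w₀ (N.c * N.c') := (show Commute w₀ N.c from hcW _ hw₀).mul_right (hc'W _ hw₀)
    exact (N.cc'_sq ▸ h12.mul_right h12 : Commute w₀ N.z).eq
  -- so it has order three and is invariant under `g`
  obtain ⟨n, hn⟩ := IsPGroup.iff_card.1 (hp.to_le (inf_le_left : F ≤ N.W))
  have hn1 : n = 1 := by
    have hlt : Nat.card F < Nat.card N.W :=
      Nat.lt_of_not_le fun hle => hFW (eq_of_le_of_card_ge inf_le_left hle)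
    have hpos : n ≠ 0 := fun e => hF1 (card_eq_one.1 (by rw [hn, e, pow_zero]))
    by_contra hn1
    have hn' : Nat.card F = 3 ^ n := hn
    rw [hn'] at hlt
    have : 3 ^ 2 ≤ 3 ^ n := Nat.pow_le_pow_right (by norm_num) (by omega)
    omega
  have hcardF : Nat.card F = 3 := by rw [hn, hn1, pow_one]
  obtain ⟨f, hf, hf1⟩ := SetLike.exists_of_lt (bot_lt_iff_ne_bot.2 hF1)
  have hf1' : f ≠ 1 := fun e => hf1 (mem_bot.2 e)
  have hgf : ∀ y ∈ F, N.g * y * N.g⁻¹ ∈ F := by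
    intro y hy
    obtain ⟨⟨y1, y2, y3, y4⟩, y5⟩ := (hFmem y).1 hy
    refine (hFmem _).2 ⟨⟨odd_order_conj y1, conj_commute N.ga y2, ?_, conj_invert N.gz y4⟩, ?_⟩
    · exact (Commute.inv_right_iff.1 (show Commute _ N.b⁻¹ from conj_commute N.gc y5)).eq
    · exact conj_commute N.gb y3
  have hcyc : ∀ y ∈ F, y = 1 ∨ y = f ∨ y = f⁻¹ := by
    intro y hy
    have hzf : zpowers f = F := by
      refine eq_of_le_of_card_ge (zpowers_le.2 hf) (le_of_eq ?_)
      rw [hcardF, Nat.card_zpowers]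
      exact (orderOf_eq_prime (hW3 f ((hFmem f).1 hf).1) hf1').symm
    obtain ⟨k, hk⟩ := mem_zpowers_iff.1 (hzf ▸ hy : y ∈ zpowers f)
    have hf3 : f ^ (3 : ℤ) = 1 := by
      rw [zpow_ofNat]; exact hW3 f ((hFmem f).1 hf).1
    rw [← hk, ← Int.emod_add_mul_ediv k 3, zpow_add, zpow_mul, hf3, one_zpow, mul_one]
    obtain a | a | a : k % 3 = 0 ∨ k % 3 = 1 ∨ k % 3 = 2 := by omega
    · left; rw [a, zpow_zero]
    · right; left; rw [a, zpow_one]
    · right; right
      rw [a, show (2 : ℤ) = 3 + -1 from rfl, zpow_add, hf3, one_mul, zpow_neg_one]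
  have hg2 : N.g * N.g * f * (N.g * N.g)⁻¹ = f := by
    have e : N.g * N.g * f * (N.g * N.g)⁻¹ = N.g * (N.g * f * N.g⁻¹) * N.g⁻¹ := by group
    rcases hcyc _ (hgf f hf) with h1 | h1 | h1
    · exact absurd (conj_eq_one_iff.1 h1) hf1'
    · rw [e, h1, h1]
    · rw [e, h1, ← conj_inv, h1, inv_inv]
  refine hf1' (N.not_commute_z ((hFmem f).1 hf).1 ?_)
  have h2 : Commute (N.g * N.g) f := mul_inv_eq_iff_eq_mul.1 hg2
  rw [← N.g4, show N.g ^ 4 = N.g * N.g * (N.g * N.g) by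
    rw [pow_succ, pow_succ, pow_succ, pow_one]; group]
  exact (h2.mul_left h2).eq.symm

/-- **No inverted elements.** -/
theorem inverted_trivial : ∀ w, N.Inverted w → w = 1 := by
  intro w hw
  rcases N.W₀_cases with ⟨hd, hc⟩ | ⟨h, hh, hle⟩
  · exact (N.not_full hd hc).elim
  · exact N.not_cyclic hh hle w hw

end TenData

end CfsgLib.Recog.DoubleAlt
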