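import Cfsg.Agent.Lib.Recog.DoubleAlt.TenFacts
import Cfsg.Agent.Lib.Recog.DoubleAlt.TenW
import Cfsg.Agent.Lib.Recog.DoubleAlt.TenEnd

/-!
Degree ten is impossible.
-/

set_option autoImplicit false

namespace CfsgLib.Recog.DoubleAlt

variable {G : Type*} [Group G] [Finite G]

/-- Degree ten is impossible. -/
theorem false_ten (S : Setup G 10) : False := by
  obtain ⟨N⟩ := Ten.exists_tenData S
  exact N.false_of_inverted N.inverted_trivial

end CfsgLib.Recog.DoubleAlt
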