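import Cfsg.Agent.Lib.Recog.DoubleAlt.TwelvePerm
import Mathlib.GroupTheory.OrderOfElement
import Mathlib.Tactic.Group

/-!
An involution whose centraliser is a double cover of `A₁₂` in which double transpositions lift to
elements of order four is isolated.
-/

set_option autoImplicit false
set_option maxRecDepth 20000
set_option linter.unusedSectionVars false

namespace CfsgLib.Recog.DoubleAlt.Twelve

open Equiv Subgroup

theorem commute_conj_down {G : Type*} [Group G] {g x y h : G} (e : g * x * g⁻¹ = y) (hy : h * y = y * h) :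
    g⁻¹ * h * g * x = x * (g⁻¹ * h * g) := by
  subst e
  calc g⁻¹ * h * g * x = g⁻¹ * (h * (g * x * g⁻¹)) * g := by group
    _ = g⁻¹ * (g * x * g⁻¹ * h) * g := by rw [hy]
    _ = _ := by group

theorem commute_conj_up {G : Type*} [Group G] {g x y h : G} (e : g * x * g⁻¹ = y) (hx : h * x = x * h) :
    g * h * g⁻¹ * y = y * (g * h * g⁻¹) := by
  subst e
  calc g * h * g⁻¹ * (g * x * g⁻¹) = g * (h * x) * g⁻¹ := by group
    _ = g * (x * h) * g⁻¹ := by rw [hx]
    _ = _ := by group

/-- The double cover of `A₁₂` inside an involution centraliser. -/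
structure Data {G : Type*} [Group G] (z : G) where
  /-- The map onto the alternating group. -/
  q : ↥(centralizer ({z} : Set G)) →* Perm (Fin 12)
  inv : z * z = 1
  ne : z ≠ 1
  even : ∀ c, Perm.sign (q c) = 1
  surj : ∀ p : Perm (Fin 12), Perm.sign p = 1 → ∃ c, q c = p
  ker : ∀ c : ↥(centralizer ({z} : Set G)), q c = 1 ↔ (c : G) = 1 ∨ (c : G) = z
  sq : ∀ c : ↥(centralizer ({z} : Set G)), q c * q c = 1 → (q c).support.card = 4 → (c : G) * c = z

namespace Data

variable {G : Type*} [Group G] {z : G} (D : Data z)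

/-- The involution as an element of its centraliser. -/
def zc : ↥(centralizer ({z} : Set G)) := ⟨z, mem_centralizer_singleton_iff.2 rfl⟩

theorem zc_comm (c : ↥(centralizer ({z} : Set G))) : c * zc = zc * c :=
  Subtype.ext (mem_centralizer_singleton_iff.1 c.2)

include D in
theorem zc_sq : (zc : ↥(centralizer ({z} : Set G))) * zc = 1 := Subtype.ext D.inv

include D in
theorem zc_ne : (zc : ↥(centralizer ({z} : Set G))) ≠ 1 := fun e => D.ne (congrArg Subtype.val e)

theorem q_zc : D.q zc = 1 := (D.ker zc).2 (Or.inr rfl)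

theorem ker_cases {c : ↥(centralizer ({z} : Set G))} (h : D.q c = 1) : c = 1 ∨ c = zc := by
  rcases (D.ker c).1 h with e | e
  · exact Or.inl (Subtype.ext e)
  · exact Or.inr (Subtype.ext e)

theorem eq_cases {a b : ↥(centralizer ({z} : Set G))} (h : D.q a = D.q b) : a = b ∨ a = b * zc := by
  rcases D.ker_cases (c := b⁻¹ * a) (by rw [map_mul, map_inv, h, inv_mul_cancel]) with e | e
  · exact Or.inl (inv_mul_eq_one.1 e).symm
  · exact Or.inr (inv_mul_eq_iff_eq_mul.1 e)

theorem sq_lift {c : ↥(centralizer ({z} : Set G))} (h2 : D.q c * D.q c = 1) (h4 : (D.q c).support.card = 4) : c * c = zc :=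
  Subtype.ext (D.sq c h2 h4)

theorem commute_of_cube {y s : ↥(centralizer ({z} : Set G))} (hy : y ^ 3 = 1) (h : D.q y * D.q s = D.q s * D.q y) :
    Commute y s := by
  have hz : ∀ c : ↥(centralizer ({z} : Set G)), c * zc = zc * c := zc_comm
  rcases D.eq_cases (a := y * s * y⁻¹) (b := s) (by
    rw [map_mul, map_mul, map_inv, h, mul_inv_cancel_right]) with e | e
  · exact mul_inv_eq_iff_eq_mul.1 e
  · exfalso
    have e2 : y * s = s * zc * y := mul_inv_eq_iff_eq_mul.1 e
    have e3 : ∀ n : ℕ, y ^ n * s = s * zc ^ n * y ^ n := by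
      intro n
      induction n with
      | zero => simp
      | succ n ih =>
        rw [pow_succ', mul_assoc, ih, ← mul_assoc, ← mul_assoc, e2, pow_succ' (zc : ↥(centralizer ({z} : Set G)))]
        simp only [mul_assoc]
        rw [← mul_assoc y (zc ^ n) (y ^ n), ← ((show Commute (zc : ↥(centralizer ({z} : Set G))) y from (hz y).symm).pow_left n).eq]
        simp only [mul_assoc]
    have := e3 3
    rw [hy, one_mul, mul_one, pow_succ, pow_two, D.zc_sq, one_mul] at this
    exact D.zc_ne (mul_eq_left.1 this.symm)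

theorem exists_cube {α : Perm (Fin 12)} (h : α ^ 3 = 1) : ∃ y, D.q y = α ∧ y ^ 3 = 1 := by
  have hs : Perm.sign α = 1 := by
    have e : Perm.sign α ^ 3 = 1 := by rw [← map_pow, h, map_one]
    rcases Int.units_eq_one_or (Perm.sign α) with e' | e'
    · exact e'
    · rw [e'] at e; exact absurd e (by decide)
  obtain ⟨y, rfl⟩ := D.surj α hs
  rcases D.ker_cases (c := y ^ 3) (by rw [map_pow, h]) with e | e
  · exact ⟨y, rfl, e⟩
  · refine ⟨y * zc, by rw [map_mul, D.q_zc, mul_one], ?_⟩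
    rw [(show Commute y zc from zc_comm y).mul_pow, e, pow_succ, pow_two, D.zc_sq, one_mul, D.zc_sq]

theorem commute_of_gen {a s : ↥(centralizer ({z} : Set G))} (h : Gen3 (D.q a) (D.q s)) : Commute a s := by
  obtain ⟨α, β, ha, hb, hab, hca, hcb⟩ := h
  obtain ⟨x, rfl, hx⟩ := D.exists_cube ha
  obtain ⟨y, rfl, hy⟩ := D.exists_cube hb
  have hxy : Commute (x * y) s := (D.commute_of_cube hx hca).mul_left (D.commute_of_cube hy hcb)
  rcases D.eq_cases (a := a) (b := x * y) (by rw [hab, map_mul]) with rfl | rfl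
  · exact hxy
  · exact hxy.mul_left (zc_comm s).symm

theorem commute_zc (c : ↥(centralizer ({z} : Set G))) : Commute zc c := (zc_comm c).symm

theorem lift_dt {p : Perm (Fin 12)} (h2 : p * p = 1) (h4 : p.support.card = 4) (hs : Perm.sign p = 1) :
    ∃ c, D.q c = p ∧ c * c = zc := by
  obtain ⟨c, rfl⟩ := D.surj p hs
  exact ⟨c, rfl, D.sq_lift h2 h4⟩

/-- The standard involution and what is used about it. -/
theorem exists_u : ∃ u : ↥(centralizer ({z} : Set G)), D.q u = pU ∧ u * u = 1 ∧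
    (∃ y : ↥(centralizer ({z} : Set G)), y * u * y⁻¹ = u * zc) ∧
    (∀ t : ↥(centralizer ({z} : Set G)), D.q t = pA ∨ D.q t = pA' → Commute t u) ∧
    (∃ w : ↥(centralizer ({z} : Set G)), D.q w = pW ∧ w * w = zc) := by
  obtain ⟨⟨a2, a4, as⟩, ⟨b2, b4, bs⟩, ⟨c2, c4, cs⟩, ⟨a2', a4', as'⟩, ⟨b2', b4', bs'⟩, ⟨y2, y4, ys⟩,
    ⟨ya2, ya4⟩, -, -, hab', -, -, -⟩ := basic
  obtain ⟨a, qa, ha⟩ := D.lift_dt a2 a4 as
  obtain ⟨b, qb, hb⟩ := D.lift_dt b2 b4 bs
  obtain ⟨c, qc, hc⟩ := D.lift_dt c2 c4 cs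
  obtain ⟨a', qa', -⟩ := D.lift_dt a2' a4' as'
  obtain ⟨b', qb', -⟩ := D.lift_dt b2' b4' bs'
  obtain ⟨y, qy, hy⟩ := D.lift_dt y2 y4 ys
  have hab : Commute a b := D.commute_of_gen (by rw [qa, qb]; exact gen3_AB)
  have hca : Commute c a := D.commute_of_gen (by rw [qc, qa]; exact gen3_CA)
  have hcb : Commute c b := D.commute_of_gen (by rw [qc, qb]; exact gen3_CB)
  have hby : Commute b y := D.commute_of_gen (by rw [qb, qy]; exact gen3_BY)
  have hu : (a * b) * (a * b) = 1 := by
    rw [hab.symm.mul_mul_mul_comm, ha, hb, D.zc_sq]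
  refine ⟨a * b, by rw [map_mul, qa, qb]; rfl, hu, ⟨y, ?_⟩, ?_, ⟨a * b * c, by
    rw [map_mul, map_mul, qa, qb, qc]; rfl, ?_⟩⟩
  · have hya : (y * a) * (y * a) = zc := D.sq_lift (by rw [map_mul, qy, qa]; exact ya2)
      (by rw [map_mul, qy, qa]; exact ya4)
    have e1 : y * a * y⁻¹ = a * zc := by
      rw [mul_inv_eq_iff_eq_mul]
      have h3 : a * y * a = y⁻¹ * zc := eq_inv_mul_iff_mul_eq.2 (by simpa only [mul_assoc] using hya)
      have h4 : y⁻¹ = y * zc := by
        rw [inv_eq_iff_mul_eq_one, ← mul_assoc, hy, D.zc_sq]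
      rw [h4, mul_assoc y, D.zc_sq, mul_one] at h3
      calc y * a = (a * y * a) * a := by rw [h3]
        _ = a * y * (a * a) := by simp only [mul_assoc]
        _ = a * zc * y := by rw [ha, mul_assoc, zc_comm y, ← mul_assoc]
    calc y * (a * b) * y⁻¹ = (y * a * y⁻¹) * (y * b * y⁻¹) := by group
      _ = a * zc * b := by rw [e1, hby.symm.eq, mul_inv_cancel_right]
      _ = a * b * zc := by rw [mul_assoc, ← zc_comm b, ← mul_assoc]
  · rintro t (ht | ht)
    · rcases D.eq_cases (a := t) (b := a) (ht.trans qa.symm) with rfl | rfl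
      · exact (Commute.refl _).mul_right hab
      · exact ((Commute.refl a).mul_right hab).mul_left (commute_zc _)
    · have hab2 : Commute a' b' := D.commute_of_gen (by rw [qa', qb']; exact gen3_AB')
      have hau : Commute a' (a * b) := by
        rcases D.eq_cases (a := a * b) (b := a' * b') (by
          rw [map_mul, map_mul, qa, qb, qa', qb', hab']; rfl) with e | e <;> rw [e]
        · exact (Commute.refl a').mul_right hab2
        · exact ((Commute.refl a').mul_right hab2).mul_right (commute_zc _).symm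
      rcases D.eq_cases (a := t) (b := a') (ht.trans qa'.symm) with rfl | rfl
      · exact hau
      · exact hau.mul_left (commute_zc _)
  · have h : Commute (a * b) c := hca.symm.mul_left hcb.symm
    rw [h.symm.mul_mul_mul_comm, hu, hc, one_mul]

/-- Involutions other than `z` are conjugate to the standard one. -/
theorem invol_conj {u : ↥(centralizer ({z} : Set G))} (qu : D.q u = pU) (hy : ∃ y : ↥(centralizer ({z} : Set G)), y * u * y⁻¹ = u * zc)
    (hw : ∃ w : ↥(centralizer ({z} : Set G)), D.q w = pW ∧ w * w = zc) {t : ↥(centralizer ({z} : Set G))} (t2 : t * t = 1) (t1 : t ≠ 1) (tz : t ≠ zc) :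
    ∃ p : ↥(centralizer ({z} : Set G)), t = p * u * p⁻¹ := by
  have q2 : D.q t * D.q t = 1 := by rw [← map_mul, t2, map_one]
  have q1 : D.q t ≠ 1 := fun e => (D.ker_cases e).elim t1 tz
  obtain ⟨-, -, -, -, -, -, -, ⟨U2, U8, -⟩, ⟨W2, W12⟩, -, hcU, hcW, -⟩ := basic
  rcases card_cases q2 q1 (D.even t) with h | h | h
  · exact absurd ((D.sq_lift q2 h).symm.trans t2) D.zc_ne
  · obtain ⟨π, hs, hπ⟩ := exists_even_conj (isConj_of_card U2 q2 (U8.trans h.symm)) hcU
    obtain ⟨p, rfl⟩ := D.surj π hs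
    rcases D.eq_cases (a := t) (b := p * u * p⁻¹) (by rw [map_mul, map_mul, map_inv, qu, hπ]) with e | e
    · exact ⟨p, e⟩
    · obtain ⟨y, hy⟩ := hy
      refine ⟨p * y, e.trans ?_⟩
      calc p * u * p⁻¹ * zc = p * (u * zc) * p⁻¹ := by
            rw [mul_assoc, zc_comm p⁻¹]; simp only [mul_assoc]
        _ = p * y * u * (p * y)⁻¹ := by rw [← hy]; group
  · obtain ⟨π, hs, hπ⟩ := exists_even_conj (isConj_of_card W2 q2 (W12.trans h.symm)) hcW
    obtain ⟨p, rfl⟩ := D.surj π hs
    obtain ⟨w, qw, hw⟩ := hw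
    refine absurd ?_ D.zc_ne
    have hb : (p * w * p⁻¹) * (p * w * p⁻¹) = zc := by
      calc (p * w * p⁻¹) * (p * w * p⁻¹) = p * (w * w) * p⁻¹ := by group
        _ = zc := by rw [hw, zc_comm p, mul_inv_cancel_right]
    rcases D.eq_cases (a := t) (b := p * w * p⁻¹) (by rw [map_mul, map_mul, map_inv, qw, hπ]) with e | e
    · rw [← hb, ← e, t2]
    · rw [e, (commute_zc (p * w * p⁻¹)).mul_mul_mul_comm, hb, D.zc_sq, mul_one] at t2
      exact t2

variable (g : G) (u : ↥(centralizer ({z} : Set G)))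

/-- An element of the conjugate of the lifts of permutations of the four last points. -/
def InM (m : ↥(centralizer ({z} : Set G))) : Prop := ∃ l : ↥(centralizer ({z} : Set G)), Out (D.q l) ∧ (m : G) = g * l * g⁻¹

variable {D} {g} in
theorem InM.mul {m m' : ↥(centralizer ({z} : Set G))} (h : D.InM g m) (h' : D.InM g m') : D.InM g (m * m') := by
  obtain ⟨l, hl, e⟩ := h
  obtain ⟨l', hl', e'⟩ := h'
  exact ⟨l * l', by rw [map_mul]; exact out_mul hl hl', by
    rw [Subgroup.coe_mul, e, e', Subgroup.coe_mul]; group⟩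

variable {D} {g} in
theorem InM.inv {m : ↥(centralizer ({z} : Set G))} (h : D.InM g m) : D.InM g m⁻¹ := by
  obtain ⟨l, hl, e⟩ := h
  exact ⟨l⁻¹, by rw [map_inv]; exact out_inv hl, by rw [Subgroup.coe_inv, e, Subgroup.coe_inv]; group⟩

variable {g u} {D} (qu : D.q u = pU) (hgz : g * z * g⁻¹ = u) (hgu : g * u * g⁻¹ = z)

variable (D) in
include qu in
theorem out_comm_u {l : ↥(centralizer ({z} : Set G))} (hl : Out (D.q l)) : Commute l u := by
  obtain ⟨⟨α, β, ha, hb, ao, bo, hab⟩, -, -⟩ := out_facts hl (D.even l)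
  exact D.commute_of_gen ⟨α, β, ha, hb, hab,
    by rw [qu]; exact out_commute ao fun x hx => (pU_fix_iff x).2 hx,
    by rw [qu]; exact out_commute bo fun x hx => (pU_fix_iff x).2 hx⟩

variable (D) in
include qu in
theorem out_invol {l : ↥(centralizer ({z} : Set G))} (hl : Out (D.q l)) (h2 : l * l = 1) : l = 1 ∨ l = zc := by
  refine D.ker_cases ?_
  by_contra h
  have q2 : D.q l * D.q l = 1 := by rw [← map_mul, h2, map_one]
  exact D.zc_ne ((D.sq_lift q2 ((out_facts hl (D.even l)).2.1 h q2)).symm.trans h2)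

include qu hgz in
theorem InM.comm_u {m : ↥(centralizer ({z} : Set G))} (h : D.InM g m) : Commute m u := by
  obtain ⟨l, -, e⟩ := h
  refine Subtype.ext ?_
  show (m : G) * u = u * m
  rw [e]
  exact commute_conj_up hgz (mem_centralizer_singleton_iff.1 l.2)

include qu hgz hgu in
theorem InM.conj {m h : ↥(centralizer ({z} : Set G))} (hm : D.InM g m) (hh : Commute h u) : D.InM g (h * m * h⁻¹) := by
  obtain ⟨l, hl, e⟩ := hm
  have hz' : g⁻¹ * h * g ∈ centralizer ({z} : Set G) :=
    mem_centralizer_singleton_iff.2 (commute_conj_down hgz (congrArg Subtype.val hh.eq))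
  have hu' : Commute (⟨_, hz'⟩ : ↥(centralizer ({z} : Set G))) u :=
    Subtype.ext (commute_conj_down hgu (mem_centralizer_singleton_iff.1 h.2))
  refine ⟨⟨_, hz'⟩ * l * (⟨_, hz'⟩ : ↥(centralizer ({z} : Set G)))⁻¹, ?_, ?_⟩
  · rw [map_mul, map_mul, map_inv]
    refine out_conj hl ?_
    rw [← qu, ← map_mul, hu'.eq, map_mul]
  · simp only [Subgroup.coe_mul, Subgroup.coe_inv, e]
    group

include qu hgz in
theorem InM.invol {m : ↥(centralizer ({z} : Set G))} (h : D.InM g m) (h2 : m * m = 1) : m = 1 ∨ m = u := by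
  obtain ⟨l, hl, e⟩ := h
  have hm2 : (m : G) * m = 1 := congrArg Subtype.val h2
  have l2 : l * l = 1 := Subtype.ext (by
    show (l : G) * l = 1
    calc (l : G) * l = g⁻¹ * ((m : G) * m) * g := by rw [e]; group
      _ = 1 := by rw [hm2]; group)
  rcases D.out_invol qu hl l2 with rfl | rfl
  · exact Or.inl (Subtype.ext (by rw [e]; simp))
  · exact Or.inr (Subtype.ext (e.trans hgz))

include qu hgz in
theorem InM.ne_zc : ¬ D.InM g zc := by
  intro h
  rcases h.invol qu hgz D.zc_sq with e | e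
  · exact D.zc_ne e
  · have := congrArg D.q e
    rw [D.q_zc, qu] at this
    exact basic.2.2.2.2.2.2.2.1.2.2 (by rw [← this]; rfl)

include qu hgz hgu in
theorem InM.inter {d : ↥(centralizer ({z} : Set G))} (h : D.InM g d) (hd : Out (D.q d)) : d = 1 := by
  by_contra h1
  have q1 : D.q d ≠ 1 := fun e => (D.ker_cases e).elim h1 fun e' => InM.ne_zc qu hgz (e' ▸ h)
  obtain ⟨-, f4, fw⟩ := out_facts hd (D.even d)
  by_cases q2 : D.q d * D.q d = 1
  · exact InM.ne_zc qu hgz (D.sq_lift q2 (f4 q1 q2) ▸ h.mul h)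
  · obtain ⟨w, ws, wo, w1, w2⟩ := fw q1 q2
    obtain ⟨x, rfl⟩ := D.surj w ws
    have hM : D.InM g (d * (x * d⁻¹ * x⁻¹)) := h.mul (h.inv.conj qu hgz hgu (D.out_comm_u qu wo))
    have hq : D.q (d * (x * d⁻¹ * x⁻¹)) = D.q d * D.q x * (D.q d)⁻¹ * (D.q x)⁻¹ := by
      simp only [map_mul, map_inv, mul_assoc]
    have ho : Out (D.q (d * (x * d⁻¹ * x⁻¹))) := by
      rw [hq]; exact out_mul (out_mul (out_mul hd wo) (out_inv hd)) (out_inv wo)
    rw [← hq] at w1 w2
    exact InM.ne_zc qu hgz (D.sq_lift w2 ((out_facts ho (D.even _)).2.1 w1 w2) ▸ hM.mul hM)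

include qu hgz hgu in
theorem InM.commute_out {m l : ↥(centralizer ({z} : Set G))} (h : D.InM g m) (hl : Out (D.q l)) : Commute m l := by
  have hM : D.InM g (m * (l * m⁻¹ * l⁻¹)) := h.mul (h.inv.conj qu hgz hgu (D.out_comm_u qu hl))
  have hq : D.q (m * (l * m⁻¹ * l⁻¹)) = D.q m * D.q l * (D.q m)⁻¹ * (D.q l)⁻¹ := by
    simp only [map_mul, map_inv, mul_assoc]
  have ho : Out (D.q (m * (l * m⁻¹ * l⁻¹))) := by
    rw [hq]
    refine out_mul (out_conj hl ?_) (out_inv hl)
    rw [← qu, ← map_mul, (h.comm_u qu hgz).eq, map_mul]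
  have e := hM.inter qu hgz hgu ho
  rw [← mul_assoc, ← mul_assoc, mul_inv_eq_one, mul_inv_eq_iff_eq_mul] at e
  exact e

variable (D) in
include qu hgz hgu in
theorem no_swap (hA : ∀ t : ↥(centralizer ({z} : Set G)), D.q t = pA ∨ D.q t = pA' → Commute t u) : False := by
  obtain ⟨⟨a2, -, as⟩, -, -, ⟨a2', -, as'⟩, -, -, -, ⟨U2, -, U0⟩, -, -, -, -, T3, T3', T1, TO⟩ := basic
  obtain ⟨y, qy, hy⟩ := D.exists_cube T3
  have hyo : Out (D.q y) := by rw [qy]; exact fun x hx => (TO x hx).1
  have hm0 : g * y * g⁻¹ ∈ centralizer ({z} : Set G) :=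
    mem_centralizer_singleton_iff.2 (commute_conj_up hgu (congrArg Subtype.val (D.out_comm_u qu hyo).eq))
  let m : ↥(centralizer ({z} : Set G)) := ⟨_, hm0⟩
  have hmM : D.InM g m := ⟨y, hyo, rfl⟩
  have hm3 : m ^ 3 = 1 := Subtype.ext (by
    show (g * y * g⁻¹) ^ 3 = 1
    rw [conj_pow, show (y : G) ^ 3 = 1 from congrArg Subtype.val hy, mul_one, mul_inv_cancel])
  have hm1 : m ≠ 1 := fun e => T1 (by
    have e' : g * (y : G) * g⁻¹ = 1 := congrArg Subtype.val e
    rw [mul_inv_eq_one, mul_eq_left] at e'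
    rw [← qy, show y = 1 from Subtype.ext e', map_one])
  have hU : D.q m * pU = pU * D.q m := by rw [← qu, ← map_mul, (hmM.comm_u qu hgz).eq, map_mul]
  have hfix : ∀ x : Fin 12, 8 ≤ x.val → D.q m x = x := by
    have hT : D.q m * pT = pT * D.q m := by
      rw [← qy, ← map_mul, (hmM.commute_out qu hgz hgu hyo).eq, map_mul]
    obtain ⟨y', qy', -⟩ := D.exists_cube T3'
    have hT' : D.q m * pT' = pT' * D.q m := by
      rw [← qy', ← map_mul,
        (hmM.commute_out qu hgz hgu (by rw [qy']; exact fun x hx => (TO x hx).2)).eq, map_mul]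
    intro x hx
    have key : ∀ a b : Fin 12, (pU b = b ↔ pU a = a) → 8 ≤ a.val → (pT b = b ↔ pT a = a) →
        (pT' b = b ↔ pT' a = a) → pT' 8 = 8 → b = a ∨ (9 ≤ a.val ∧ a.val ≤ 10 ∧ 9 ≤ b.val ∧ b.val ≤ 10) := by
      decide +kernel
    have hiff : ∀ t : Perm (Fin 12), D.q m * t = t * D.q m → ∀ x, (t (D.q m x) = D.q m x ↔ t x = x) := by
      intro t ht x
      rw [← Perm.mul_apply t (D.q m), ← ht, Perm.mul_apply]
      exact (D.q m).injective.eq_iff
    have h8 : D.q m 8 = 8 := by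
      rcases key 8 (D.q m 8) (hiff _ hU 8) (by decide) (hiff _ hT 8) (hiff _ hT' 8) (by decide) with
        h | h
      · exact h
      · exact absurd h.1 (by decide)
    have h11 : D.q m 11 = 11 := by
      rcases key 11 (D.q m 11) (hiff _ hU 11) (by decide) (hiff _ hT 11) (hiff _ hT' 11) (by decide)
        with h | h
      · exact h
      · exact absurd h.2.1 (by decide)
    have h9 : D.q m 9 = 9 := by
      rw [show (9 : Fin 12) = pT 8 by decide +kernel, ← Perm.mul_apply, hT, Perm.mul_apply, h8]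
    have h10 : D.q m 10 = 10 := by
      rw [show (10 : Fin 12) = pT 9 by decide +kernel, ← Perm.mul_apply, hT, Perm.mul_apply, h9]
    obtain ⟨x, hx12⟩ := x
    interval_cases x
    exacts [h8, h9, h10, h11]
  have key : ∀ p : Perm (Fin 12), Perm.sign p = 1 → p * p = 1 → Flip p → p * pU = pU * p → p * pU ≠ p →
      (∀ t : ↥(centralizer ({z} : Set G)), D.q t = p → Commute t u) → D.q m * p = p * D.q m := by
    intro p ps p2 pf pU' pne pc
    obtain ⟨t, qt⟩ := D.surj p ps
    have hd : D.InM g (t * m * t⁻¹ * m⁻¹) := (hmM.conj qu hgz hgu (pc t qt)).mul hmM.inv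
    set s := D.q m * p * (D.q m)⁻¹ with hs
    have hq : D.q (t * m * t⁻¹ * m⁻¹) = p * s := by
      rw [map_mul, map_mul, map_mul, map_inv, map_inv, qt, hs,
        show p⁻¹ = p from inv_eq_of_mul_eq_one_right p2]
      simp only [mul_assoc]
    have sU : s * pU = pU * s :=
      (((show Commute (D.q m) pU from hU).mul_left (show Commute p pU from pU')).mul_left
        (show Commute (D.q m) pU from hU).inv_left).eq
    have s2 : s * s = 1 := by
      calc s * s = D.q m * (p * p) * (D.q m)⁻¹ := by rw [hs]; group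
        _ = 1 := by rw [p2, mul_one, mul_inv_cancel]
    have hps : p * s = s * p := flip_commute pf (flip_conj pf hU) pU' sU
    have hd2 : D.q ((t * m * t⁻¹ * m⁻¹) * (t * m * t⁻¹ * m⁻¹)) = 1 := by
      rw [map_mul, hq, (show Commute s p from hps.symm).mul_mul_mul_comm, p2, s2, mul_one]
    have hd2' : (t * m * t⁻¹ * m⁻¹) * (t * m * t⁻¹ * m⁻¹) = 1 :=
      (D.ker_cases hd2).resolve_right fun e => InM.ne_zc qu hgz (e ▸ hd.mul hd)
    rcases hd.invol qu hgz hd2' with e | e
    · rw [e, map_one] at hq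
      have es : s = p := by
        calc s = p * (p * s) := by rw [← mul_assoc, p2, one_mul]
          _ = p := by rw [← hq, mul_one]
      rwa [hs, mul_inv_eq_iff_eq_mul] at es
    · exfalso
      rw [e, qu] at hq
      have es : D.q m * p * (D.q m)⁻¹ = p * pU := by
        calc s = p * (p * s) := by rw [← mul_assoc, p2, one_mul]
          _ = p * pU := by rw [← hq]
      have hn : ∀ n : ℕ, D.q m ^ n * p = p * pU ^ n * D.q m ^ n := by
        intro n
        induction n with
        | zero => simp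
        | succ n ih =>
          rw [pow_succ' (D.q m), mul_assoc, ih, ← mul_assoc, ← mul_assoc,
            mul_inv_eq_iff_eq_mul.1 es, pow_succ' pU]
          simp only [mul_assoc]
          rw [← mul_assoc (D.q m) (pU ^ n), ((show Commute (D.q m) pU from hU).pow_right n).eq]
          simp only [mul_assoc]
      have h3 := hn 3
      rw [← map_pow, hm3, map_one, one_mul, mul_one, pow_succ, pow_two, U2, one_mul] at h3
      exact pne h3.symm
  have hm : D.q m = 1 := no_three (by rw [← map_pow, hm3, map_one]) hfix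
    (key pA as a2 flips.1 flips.2.2.1.1 flips.2.2.2.1 fun t ht => hA t (Or.inl ht))
    (key pA' as' a2' flips.2.1 flips.2.2.1.2 flips.2.2.2.2 fun t ht => hA t (Or.inr ht)) hU
  rcases D.ker_cases hm with e | e
  · exact hm1 e
  · rw [e, pow_succ, pow_two, D.zc_sq, one_mul] at hm3
    exact D.zc_ne hm3

include D in
/-- The involution is isolated. -/
theorem isolated (g : G) (hg : g * z * g⁻¹ ∈ centralizer ({z} : Set G)) : g * z * g⁻¹ = z := by
  by_contra hne
  obtain ⟨u, qu, u2, hy, hA, hw⟩ := D.exists_u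
  have conj : ∀ x : G, x * z * x⁻¹ ∈ centralizer ({z} : Set G) → x * z * x⁻¹ ≠ z →
      ∃ p : ↥(centralizer ({z} : Set G)), x * z * x⁻¹ = p * u * (p : G)⁻¹ := by
    intro x hx hxne
    obtain ⟨p, hp⟩ := D.invol_conj qu hy hw (t := ⟨_, hx⟩)
      (Subtype.ext (by
        show x * z * x⁻¹ * (x * z * x⁻¹) = 1
        calc x * z * x⁻¹ * (x * z * x⁻¹) = x * (z * z) * x⁻¹ := by group
          _ = 1 := by rw [D.inv]; group))
      (fun e => D.ne (by
        have e' : x * z * x⁻¹ = 1 := congrArg Subtype.val e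
        calc z = x⁻¹ * (x * z * x⁻¹) * x := by group
          _ = 1 := by rw [e']; group))
      (fun e => hxne (congrArg Subtype.val e))
    exact ⟨p, congrArg Subtype.val hp⟩
  obtain ⟨p, hp⟩ := conj g hg hne
  set g₀ : G := (p : G)⁻¹ * g with hg₀
  have h0 : g₀ * z * g₀⁻¹ = u := by
    calc g₀ * z * g₀⁻¹ = (p : G)⁻¹ * (g * z * g⁻¹) * p := by rw [hg₀]; group
      _ = u := by rw [hp]; group
  have huz : (u : G) * z = z * u := mem_centralizer_singleton_iff.1 u.2
  have hu1 : (u : G) ≠ z := fun e => by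
    have : D.q u = 1 := (D.ker u).2 (Or.inr e)
    rw [qu] at this
    exact basic.2.2.2.2.2.2.2.1.2.2 (by rw [this]; rfl)
  obtain ⟨c, hc⟩ := conj g₀⁻¹ (by
      refine mem_centralizer_singleton_iff.2 ?_
      calc g₀⁻¹ * z * g₀⁻¹⁻¹ * z = g₀⁻¹ * (z * (g₀ * z * g₀⁻¹)) * g₀ := by group
        _ = g₀⁻¹ * ((g₀ * z * g₀⁻¹) * z) * g₀ := by rw [h0, huz]
        _ = z * (g₀⁻¹ * z * g₀⁻¹⁻¹) := by group)
    (fun e => hu1 (by
      calc (u : G) = g₀ * z * g₀⁻¹ := h0.symm
        _ = g₀ * (g₀⁻¹ * z * g₀⁻¹⁻¹) * g₀⁻¹ := by rw [e]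
        _ = z := by group))
  have hgz : (g₀ * c) * z * (g₀ * c)⁻¹ = u := by
    calc (g₀ * c) * z * (g₀ * c)⁻¹ = g₀ * (c * z) * (c : G)⁻¹ * g₀⁻¹ := by group
      _ = g₀ * z * g₀⁻¹ := by rw [mem_centralizer_singleton_iff.1 c.2]; group
      _ = u := h0
  have hgu : (g₀ * c) * u * (g₀ * c)⁻¹ = z := by
    calc (g₀ * c) * u * (g₀ * c)⁻¹ = g₀ * ((c : G) * u * (c : G)⁻¹) * g₀⁻¹ := by group
      _ = z := by rw [← hc]; group
  exact D.no_swap qu hgz hgu hA

end Data

end CfsgLib.Recog.DoubleAlt.Twelve
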