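import Cfsg.Agent.Lib.Recog.DoubleAlt.Lifts
import Cfsg.Agent.Lib.Recog.DoubleAlt.Twelve

/-!
The centralizer of an involution fused in its centralizer is not a double cover of `A₁₂`.
-/

set_option autoImplicit false

namespace CfsgLib.Recog.DoubleAlt

open Equiv Subgroup

/-- The case of twelve points is impossible. -/
theorem false_twelve {G : Type*} [Group G] [Finite G] (S : Setup G 12) : False := by
  obtain ⟨g, hg, hne⟩ := S.fused
  let D : Twelve.Data S.z :=
    { q := S.π
      inv := S.z_sq
      ne := S.ne
      even := S.sign_π
      surj := fun p hp => S.exists_lift hp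
      ker := S.ker
      sq := fun c h2 h4 => congrArg Subtype.val
        (show c * c = S.zc by simpa using S.sq_support (k := 1) h2 h4) }
  exact hne (Twelve.Data.isolated (D := D) g (mem_centralizer_singleton_iff.2 hg))

end CfsgLib.Recog.DoubleAlt
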