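import Mathlib.GroupTheory.Perm.Sign
import Mathlib.Data.Fintype.Perm
import Mathlib.GroupTheory.Perm.Cycle.Type
import Mathlib.GroupTheory.SpecificGroups.Alternating

/-!
Permutation facts on twelve points for the double cover of `A₁₂`.
-/

set_option autoImplicit false
set_option maxRecDepth 100000
set_option Elab.async false

namespace CfsgLib.Recog.DoubleAlt.Twelve

open Equiv

/-- `(0 1)(2 3)`. -/
def pA : Perm (Fin 12) := swap 0 1 * swap 2 3
/-- `(4 5)(6 7)`. -/
def pB : Perm (Fin 12) := swap 4 5 * swap 6 7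
/-- `(0 1)(4 5)`. -/
def pA' : Perm (Fin 12) := swap 0 1 * swap 4 5
/-- `(2 3)(6 7)`. -/
def pB' : Perm (Fin 12) := swap 2 3 * swap 6 7
/-- `(8 9)(10 11)`. -/
def pC : Perm (Fin 12) := swap 8 9 * swap 10 11
/-- `(0 1)(8 9)`. -/
def pY : Perm (Fin 12) := swap 0 1 * swap 8 9
/-- The product of four transpositions. -/
def pU : Perm (Fin 12) := pA * pB
/-- The product of six transpositions. -/
def pW : Perm (Fin 12) := pA * pB * pC

/-- A three cycle on the fixed points of `pU`. -/
def pT : Perm (Fin 12) := swap 8 9 * swap 9 10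
/-- Another three cycle on the fixed points of `pU`. -/
def pT' : Perm (Fin 12) := swap 9 10 * swap 10 11

/-- A permutation is a product of two permutations of order dividing three, each commuting with `q`. -/
def Gen3 (p q : Perm (Fin 12)) : Prop :=
  ∃ α β : Perm (Fin 12), α ^ 3 = 1 ∧ β ^ 3 = 1 ∧ p = α * β ∧ α * q = q * α ∧ β * q = q * β

theorem gen3_AB : Gen3 pA pB := ⟨swap 0 1 * swap 1 2, swap 1 2 * swap 2 3,
  by decide +kernel, by decide +kernel, by decide +kernel, by decide +kernel, by decide +kernel⟩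

theorem gen3_AB' : Gen3 pA' pB' := ⟨swap 0 1 * swap 1 4, swap 1 4 * swap 4 5,
  by decide +kernel, by decide +kernel, by decide +kernel, by decide +kernel, by decide +kernel⟩

theorem gen3_CA : Gen3 pC pA := ⟨swap 8 9 * swap 9 10, swap 9 10 * swap 10 11,
  by decide +kernel, by decide +kernel, by decide +kernel, by decide +kernel, by decide +kernel⟩

theorem gen3_CB : Gen3 pC pB := ⟨swap 8 9 * swap 9 10, swap 9 10 * swap 10 11,
  by decide +kernel, by decide +kernel, by decide +kernel, by decide +kernel, by decide +kernel⟩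

theorem gen3_BY : Gen3 pB pY := ⟨swap 4 5 * swap 5 6, swap 5 6 * swap 6 7,
  by decide +kernel, by decide +kernel, by decide +kernel, by decide +kernel, by decide +kernel⟩

theorem basic :
    (pA * pA = 1 ∧ pA.support.card = 4 ∧ Perm.sign pA = 1) ∧
    (pB * pB = 1 ∧ pB.support.card = 4 ∧ Perm.sign pB = 1) ∧
    (pC * pC = 1 ∧ pC.support.card = 4 ∧ Perm.sign pC = 1) ∧
    (pA' * pA' = 1 ∧ pA'.support.card = 4 ∧ Perm.sign pA' = 1) ∧
    (pB' * pB' = 1 ∧ pB'.support.card = 4 ∧ Perm.sign pB' = 1) ∧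
    (pY * pY = 1 ∧ pY.support.card = 4 ∧ Perm.sign pY = 1) ∧
    ((pY * pA) * (pY * pA) = 1 ∧ (pY * pA).support.card = 4) ∧
    (pU * pU = 1 ∧ pU.support.card = 8 ∧ pU 0 ≠ 0) ∧ (pW * pW = 1 ∧ pW.support.card = 12) ∧
    pA' * pB' = pU ∧ swap (0 : Fin 12) 1 * pU = pU * swap 0 1 ∧ swap (0 : Fin 12) 1 * pW = pW * swap 0 1 ∧
    (pT ^ 3 = 1 ∧ pT'  ^ 3 = 1 ∧ pT ≠ 1 ∧ (∀ x : Fin 12, x.val < 8 → pT x = x ∧ pT' x = x)) := by
  decide +kernel

/-- Involutions with the same number of moved points are conjugate. -/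
theorem isConj_of_card {p q : Perm (Fin 12)} (p2 : p * p = 1) (q2 : q * q = 1)
    (h : p.support.card = q.support.card) : IsConj p q := by
  have key : ∀ r : Perm (Fin 12), r * r = 1 →
      r.cycleType = Multiset.replicate (r.support.card / 2) 2 := by
    intro r r2
    rcases eq_or_ne r 1 with rfl | r1
    · simp
    haveI : Fact (Nat.Prime 2) := ⟨Nat.prime_two⟩
    have ho : orderOf r = 2 := orderOf_eq_prime (by rw [pow_two, r2]) r1
    obtain ⟨m, hm⟩ := Perm.cycleType_prime_order (ho.symm ▸ Nat.prime_two : (orderOf r).Prime)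
    rw [ho] at hm
    have hsum := r.sum_cycleType
    rw [hm, Multiset.sum_replicate, smul_eq_mul] at hsum
    rw [hm, show r.support.card / 2 = m + 1 by omega]
  rw [Perm.isConj_iff_cycleType_eq, key p p2, key q q2, h]

/-- Even involutions move 4, 8 or 12 points. -/
theorem card_cases {p : Perm (Fin 12)} (p2 : p * p = 1) (p1 : p ≠ 1) (hs : Perm.sign p = 1) :
    p.support.card = 4 ∨ p.support.card = 8 ∨ p.support.card = 12 := by
  haveI : Fact (Nat.Prime 2) := ⟨Nat.prime_two⟩
  have ho : orderOf p = 2 := orderOf_eq_prime (by rw [pow_two, p2]) p1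
  obtain ⟨m, hm⟩ := Perm.cycleType_prime_order (ho.symm ▸ Nat.prime_two : (orderOf p).Prime)
  rw [ho] at hm
  have hsum := p.sum_cycleType
  rw [hm, Multiset.sum_replicate, smul_eq_mul] at hsum
  have hle : p.support.card ≤ 12 := by simpa using p.support.card_le_univ
  rw [Perm.sign_of_cycleType, hm, Multiset.sum_replicate, Multiset.card_replicate, smul_eq_mul] at hs
  have hm' : Even (m + 1) := by
    by_contra hodd
    have ho' : Odd ((m + 1) * 2 + (m + 1)) :=
      Even.add_odd (even_two.mul_left _) (Nat.not_even_iff_odd.1 hodd)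
    rw [ho'.neg_one_pow] at hs
    exact absurd hs (by decide)
  obtain ⟨j, hj⟩ := hm'
  omega

/-- A conjugating element can be taken even. -/
theorem exists_even_conj {p r : Perm (Fin 12)} (h : IsConj r p) (hc : swap (0 : Fin 12) 1 * r = r * swap 0 1) :
    ∃ π : Perm (Fin 12), Perm.sign π = 1 ∧ π * r * π⁻¹ = p := by
  obtain ⟨π, hπ⟩ := isConj_iff.1 h
  rcases Int.units_eq_one_or (Perm.sign π) with h1 | h1
  · exact ⟨π, h1, hπ⟩
  · refine ⟨π * swap 0 1, by rw [Perm.sign_mul, h1, Perm.sign_swap (by decide)]; rfl, ?_⟩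
    rw [← hπ, mul_inv_rev, mul_assoc π, hc, swap_inv]
    simp [mul_assoc]

/-- `σ` fixes the first eight points. -/
def Out (σ : Perm (Fin 12)) : Prop := ∀ x : Fin 12, x.val < 8 → σ x = x

/-- The four last points. -/
def eF : Fin 4 ≃ {x : Fin 12 // 8 ≤ x.val} where
  toFun i := ⟨⟨i.val + 8, by omega⟩, Nat.le_add_left _ _⟩
  invFun x := ⟨x.1.val - 8, by omega⟩
  left_inv i := Fin.ext (by simp)
  right_inv x := Subtype.ext (Fin.ext (by have := x.2; simp; omega))

theorem out_extend (δ : Perm (Fin 4)) : Out (δ.extendDomain eF) := fun x hx =>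
  Perm.extendDomain_apply_not_subtype δ eF (by omega)

theorem exists_extend {σ : Perm (Fin 12)} (h : Out σ) : ∃ δ : Perm (Fin 4), σ = δ.extendDomain eF := by
  have h1 : ∀ x : Fin 12, 8 ≤ x.val ↔ 8 ≤ (σ x).val := by
    intro x
    constructor
    · intro hx
      by_contra hlt
      have hfix := h (σ x) (by omega)
      have : σ x = x := σ.injective hfix
      omega
    · intro hx
      by_contra hlt
      rw [h x (by omega)] at hx
      omega
  refine ⟨eF.symm.permCongr (σ.subtypePerm fun x => (h1 x).symm), Perm.ext fun x => ?_⟩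
  by_cases hx : 8 ≤ x.val
  · rw [Perm.extendDomain_apply_subtype _ eF hx]
    simp [Equiv.permCongr_apply]
  · rw [Perm.extendDomain_apply_not_subtype _ eF hx, h x (by omega)]

theorem four_prod : ∀ δ : Perm (Fin 4), Perm.sign δ = 1 →
    ∃ α : Perm (Fin 4), α ^ 3 = 1 ∧ (α⁻¹ * δ) ^ 3 = 1 := by
  decide +kernel

theorem four_card : ∀ δ : Perm (Fin 4), Perm.sign δ = 1 → δ ≠ 1 → δ * δ = 1 → δ.support.card = 4 := by
  decide +kernel

theorem four_comm : ∀ δ : Perm (Fin 4), Perm.sign δ = 1 → δ ≠ 1 → δ * δ ≠ 1 →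
    ∃ w : Perm (Fin 4), Perm.sign w = 1 ∧ δ * w * δ⁻¹ * w⁻¹ ≠ 1 ∧
      (δ * w * δ⁻¹ * w⁻¹) * (δ * w * δ⁻¹ * w⁻¹) = 1 := by
  decide +kernel

/-- The even permutations of the four last points. -/
theorem out_facts {σ : Perm (Fin 12)} (h : Out σ) (hs : Perm.sign σ = 1) :
    (∃ α β : Perm (Fin 12), α ^ 3 = 1 ∧ β ^ 3 = 1 ∧ Out α ∧ Out β ∧ σ = α * β) ∧
    (σ ≠ 1 → σ * σ = 1 → σ.support.card = 4) ∧
    (σ ≠ 1 → σ * σ ≠ 1 → ∃ w : Perm (Fin 12), Perm.sign w = 1 ∧ Out w ∧ σ * w * σ⁻¹ * w⁻¹ ≠ 1 ∧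
      (σ * w * σ⁻¹ * w⁻¹) * (σ * w * σ⁻¹ * w⁻¹) = 1) := by
  obtain ⟨δ, rfl⟩ := exists_extend h
  rw [Perm.sign_extendDomain] at hs
  let f : Perm (Fin 4) →* Perm (Fin 12) := Perm.extendDomainHom eF
  have hf : Function.Injective f := Perm.extendDomainHom_injective eF
  obtain ⟨α, ha, hb⟩ := four_prod δ hs
  have hcard := four_card δ hs
  have hw := four_comm δ hs
  refine ⟨⟨f α, f (α⁻¹ * δ), by rw [← map_pow, ha, map_one], by rw [← map_pow, hb, map_one],
    out_extend α, out_extend _, by rw [← map_mul, mul_inv_cancel_left]; rfl⟩, fun h1 h2 => ?_, fun h1 h2 => ?_⟩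
  · rw [Perm.card_support_extend_domain]
    exact hcard (fun e => h1 (by rw [e]; exact map_one f))
      (hf (by rw [map_mul, map_one]; exact h2))
  · obtain ⟨w, w1, w2, w3⟩ := hw (fun e => h1 (by rw [e]; exact map_one f))
      (fun e => h2 (by show f δ * f δ = 1; rw [← map_mul, e, map_one]))
    refine ⟨f w, by show Perm.sign (w.extendDomain eF) = 1; rw [Perm.sign_extendDomain, w1], out_extend w,
      fun e => w2 (hf ?_), ?_⟩
    · rw [map_one, ← e]; simp only [map_mul, map_inv]; rfl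
    · show (f δ * f w * (f δ)⁻¹ * (f w)⁻¹) * (f δ * f w * (f δ)⁻¹ * (f w)⁻¹) = 1
      simp only [← map_inv, ← map_mul]
      rw [w3, map_one]

/-- An element commuting with the four last points' permutations and with `pU`. -/
theorem out_commute {σ τ : Perm (Fin 12)} (h : Out σ) (hτ : ∀ x : Fin 12, 8 ≤ x.val → τ x = x) :
    σ * τ = τ * σ := by
  have h1 : Perm.Disjoint σ τ := fun x => by
    rcases Nat.lt_or_ge x.val 8 with hx | hx
    · exact Or.inl (h x hx)
    · exact Or.inr (hτ x hx)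
  exact h1.commute.eq

theorem pU_fix_iff : ∀ x : Fin 12, pU x = x ↔ 8 ≤ x.val := by decide +kernel

/-- An element centralising `pU` preserves the four last points. -/
theorem out_conj {σ ρ : Perm (Fin 12)} (h : Out σ) (hρ : ρ * pU = pU * ρ) : Out (ρ * σ * ρ⁻¹) := by
  intro x hx
  have hy : (ρ⁻¹ x).val < 8 := by
    by_contra hge
    have e := (pU_fix_iff (ρ⁻¹ x)).2 (by omega)
    have e2 : pU x = x := by
      conv_lhs => rw [show x = ρ (ρ⁻¹ x) by simp]
      rw [← Perm.mul_apply, ← hρ, Perm.mul_apply, e]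
      simp
    have := (pU_fix_iff x).1 e2
    omega
  rw [Perm.mul_apply, Perm.mul_apply, h _ hy]
  simp

theorem out_mul {σ τ : Perm (Fin 12)} (h : Out σ) (h' : Out τ) : Out (σ * τ) := fun x hx => by
  rw [Perm.mul_apply, h' x hx, h x hx]

theorem out_inv {σ : Perm (Fin 12)} (h : Out σ) : Out σ⁻¹ := fun x hx => by
  conv_lhs => rw [← h x hx]
  simp

/-- `t` flips some of the pairs of `pU`. -/
def Flip (t : Perm (Fin 12)) : Prop := ∀ x, t x = x ∨ t x = pU x

theorem flip_commute {s t : Perm (Fin 12)} (hs : Flip s) (ht : Flip t) (hsU : s * pU = pU * s)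
    (htU : t * pU = pU * t) : s * t = t * s := by
  refine Perm.ext fun x => ?_
  simp only [Perm.mul_apply]
  have es : ∀ y, s (pU y) = pU (s y) := fun y => DFunLike.congr_fun hsU y
  have et : ∀ y, t (pU y) = pU (t y) := fun y => DFunLike.congr_fun htU y
  rcases ht x with h1 | h1 <;> rcases hs x with h2 | h2 <;> simp only [h1, h2, es, et]

theorem flip_conj {t m : Perm (Fin 12)} (ht : Flip t) (hm : m * pU = pU * m) : Flip (m * t * m⁻¹) := by
  intro x
  rcases ht (m⁻¹ x) with h | h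
  · left; simp only [Perm.mul_apply, h]; simp
  · right
    rw [Perm.mul_apply, Perm.mul_apply, h, ← Perm.mul_apply m pU, hm, Perm.mul_apply]
    simp

theorem flips : Flip pA ∧ Flip pA' ∧ (pA * pU = pU * pA ∧ pA' * pU = pU * pA') ∧
    (pA * pU ≠ pA ∧ pA' * pU ≠ pA') := by
  simp only [Flip]
  decide +kernel

theorem signature : ∀ x y : Fin 12, (pA x = x ↔ pA y = y) → (pA' x = x ↔ pA' y = y) →
    (pU x = x ↔ pU y = y) → y = x ∨ y = pU x ∨ (8 ≤ x.val ∧ 8 ≤ y.val) := by
  decide +kernel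

/-- No element of order three centralises the flips and fixes the four last points. -/
theorem no_three {m : Perm (Fin 12)} (h3 : m ^ 3 = 1) (hF : ∀ x : Fin 12, 8 ≤ x.val → m x = x)
    (hA : m * pA = pA * m) (hA' : m * pA' = pA' * m) (hU : m * pU = pU * m) : m = 1 := by
  have hfix : ∀ t : Perm (Fin 12), m * t = t * m → ∀ x, (t x = x ↔ t (m x) = m x) := by
    intro t ht x
    rw [← Perm.mul_apply t m, ← ht, Perm.mul_apply]
    exact m.injective.eq_iff.symm
  have h2 : m ^ 2 = 1 := by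
    refine Perm.ext fun x => ?_
    rw [pow_two, Perm.mul_apply, Perm.one_apply]
    rcases signature x (m x) (hfix _ hA x) (hfix _ hA' x) (hfix _ hU x) with h | h | ⟨h, -⟩
    · rw [h, h]
    · have e : m (pU x) = pU (m x) := DFunLike.congr_fun hU x
      have e2 : pU (pU x) = x := DFunLike.congr_fun basic.2.2.2.2.2.2.2.1.1 x
      rw [h, e, h, e2]
    · rw [hF x h, hF x h]
  rw [← h3, pow_succ, h2, one_mul]

end CfsgLib.Recog.DoubleAlt.Twelve
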